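import Groth.Prelude.Def_AlgSp4
import Groth.Prelude.Def_AlgSpDec
/-!
# Points of fibre products of sheaves, common refinements of charts

* `exists_point_of_isPullback`: for a pullback square of sheaves, `|P| ⟶ |F| ×_{|G|} |H|` is surjective.
* `ofPt_surjective`: a representable surjective `h_U ⟶ F` is surjective on points.
-/

set_option autoImplicit false
universe u
open CategoryTheory CategoryTheory.Limits AlgebraicGeometry Opposite

namespace K616.Refine

open AlgSp

variable {S : Scheme.{u}}

/-- a field valued point over `Ω` given by a hom -/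
noncomputable def ptOfHom {F : Sp S} (Ω : Type u) [Field Ω] (w : Spec (CommRingCat.of Ω) ⟶ S)
    (l : (yon S).obj (Over.mk w) ⟶ F) : FieldPt F :=
  ⟨Ω, w, (J S).uliftYonedaEquiv l⟩

theorem ptOfHom_map {F G : Sp S} (Ω : Type u) [Field Ω] (w : Spec (CommRingCat.of Ω) ⟶ S)
    (l : (yon S).obj (Over.mk w) ⟶ F) (f : F ⟶ G) :
    (ptOfHom Ω w l).map f = ptOfHom Ω w (l ≫ f) := by
  simp only [ptOfHom, FieldPt.map]
  congr 1

theorem equiv_comp_toHom {F : Sp S} (p : FieldPt F) {T : Over S} (a : T ⟶ p.pt) :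
    (J S).uliftYonedaEquiv ((yon S).map a ≫ p.toHom) = F.obj.map a.op p.val := by
  rw [GrothendieckTopology.uliftYonedaEquiv_comp,
    GrothendieckTopology.uliftYonedaEquiv_uliftYoneda_map, FieldPt.toHom_app]

theorem mk_ptOfHom_comp {F : Sp S} (p : FieldPt F) (Ω : Type u) [Field Ω]
    (w : Spec (CommRingCat.of Ω) ⟶ S) (a : Over.mk w ⟶ p.pt) :
    Points.mk (ptOfHom Ω w ((yon S).map a ≫ p.toHom)) = Points.mk p := by
  refine Points.sound ⟨Ω, inferInstance, w, 𝟙 _, a, ?_⟩
  have h2 : F.obj.map (𝟙 (Over.mk w)).op ((J S).uliftYonedaEquiv ((yon S).map a ≫ p.toHom)) =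
      F.obj.map a.op p.val := by
    rw [op_id, Functor.map_id_apply, equiv_comp_toHom]
  exact h2

/-- Points of a fibre product of sheaves surject onto the fibre product of the sets of points. -/
theorem exists_point_of_isPullback {P F H G : Sp S} {fst : P ⟶ F} {snd : P ⟶ H} {f : F ⟶ G} {g : H ⟶ G}
    (sq : IsPullback fst snd f g) (x : Points F) (y : Points H) (hxy : Points.map f x = Points.map g y) :
    ∃ z : Points P, Points.map fst z = x ∧ Points.map snd z = y := by
  induction x using Points.ind with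
  | h p =>
  induction y using Points.ind with
  | h q =>
  rw [Points.map_mk, Points.map_mk, Points.mk_eq_mk_iff] at hxy
  obtain ⟨Ω, _, w, a, b, h⟩ := hxy
  have h1 := (equiv_comp_toHom (p.map f) a).trans (h.trans (equiv_comp_toHom (q.map g) b).symm)
  have h2 := (J S).uliftYonedaEquiv.injective h1
  rw [FieldPt.toHom_map, FieldPt.toHom_map] at h2
  let a' : Over.mk w ⟶ p.pt := a
  let b' : Over.mk w ⟶ q.pt := b
  have key : ((yon S).map a' ≫ p.toHom) ≫ f = ((yon S).map b' ≫ q.toHom) ≫ g :=
    (Category.assoc _ _ _).trans (h2.trans (Category.assoc _ _ _).symm)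
  refine ⟨Points.mk (ptOfHom Ω w (sq.lift _ _ key)), ?_, ?_⟩
  · rw [Points.map_mk, ptOfHom_map, sq.lift_fst]
    exact mk_ptOfHom_comp p Ω w a'
  · rw [Points.map_mk, ptOfHom_map, sq.lift_snd]
    exact mk_ptOfHom_comp q Ω w b'

theorem exists_ofPt_of_yon {T : Over S} (y : Points ((yon S).obj T)) :
    ∃ t : ↥T.left, Points.ofPt (𝟙 _) t = y := ⟨Points.toScheme T y, Points.ofScheme_toScheme T y⟩

theorem toScheme_injective (T : Over S) : Function.Injective (Points.toScheme T) :=
  (Points.schemeEquiv T).symm.injective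

/-- version with represented corner -/
theorem exists_pt_of_isPullback {W U V : Over S} {G : Sp S} {a : (yon S).obj U ⟶ G} {b : (yon S).obj V ⟶ G}
    {p : W ⟶ U} {q : W ⟶ V} (sq : IsPullback ((yon S).map p) ((yon S).map q) a b) (u : ↥U.left) (v : ↥V.left)
    (huv : Points.ofPt a u = Points.ofPt b v) :
    ∃ w : ↥W.left, p.left w = u ∧ q.left w = v := by
  obtain ⟨z, h1, h2⟩ := exists_point_of_isPullback sq (Points.ofScheme U u) (Points.ofScheme V v)
    (by rw [← Points.ofPt_eq_map_ofScheme, ← Points.ofPt_eq_map_ofScheme, huv])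
  obtain ⟨w, rfl⟩ := exists_ofPt_of_yon z
  refine ⟨w, ?_, ?_⟩
  · rw [Points.map_ofPt, Category.id_comp] at h1
    have := congrArg (Points.toScheme U) h1
    rwa [Points.toScheme_ofPt, Points.toScheme_ofScheme] at this
  · rw [Points.map_ofPt, Category.id_comp] at h2
    have := congrArg (Points.toScheme V) h2
    rwa [Points.toScheme_ofPt, Points.toScheme_ofScheme] at this

theorem ofPt_comp {T T' : Over S} {F : Sp S} (φ : T' ⟶ T) (g : (yon S).obj T ⟶ F) (t : ↥T'.left) :
    Points.ofPt ((yon S).map φ ≫ g) t = Points.ofPt g (φ.left t) := by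
  rw [← Points.map_ofPt, Points.ofPt_eq_map_ofScheme g]
  congr 1
  apply toScheme_injective T
  rw [Points.toScheme_ofPt, Points.toScheme_ofScheme]

/-- a representable surjective `h_U ⟶ F` is surjective on points. -/
theorem ofPt_surjective {U : Over S} {F : Sp S} (p : (yon S).obj U ⟶ F) (hp : RepWith @Surjective p) :
    Function.Surjective (Points.ofPt p) := by
  intro x
  induction x using Points.ind with
  | h q =>
  obtain ⟨W, snd, fst, sq⟩ := hp.rep q.toHom
  obtain ⟨fst, rfl⟩ := (yon S).map_surjective fst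
  have hs : Surjective snd.left := hp.property q.toHom _ _ sq
  obtain ⟨w, hw⟩ := hs.surj (IsLocalRing.closedPoint q.K)
  refine ⟨fst.left w, ?_⟩
  rw [← ofPt_comp, sq.w, ofPt_comp]
  exact Points.ofPt_toHom q _

end K616.Refine
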