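import Groth.Agent.AlgSp.K616.Near
import Groth.Agent.AlgSp.K597.LocP
import Groth.Agent.S0402
import Groth.Agent.Flat2C.LqfDense
import Groth.Agent.Ega43.FibreDimNat
import Groth.Agent.Ega4fib.H172.FibDimBC

/-!
# The locally quasi-finite locus

* `near_lqf_iff`: for `h` locally of finite type, `h` is locally quasi-finite near `u` iff the fibre
  dimension at `u` is `0`.
* `hasAtMor_precomp`: pointwise properties of `j ≫ f` for `j` étale.
-/

set_option autoImplicit false
universe u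
open CategoryTheory CategoryTheory.Limits AlgebraicGeometry Opposite

namespace K616.NearDim

open AlgSp K616.Refine K616.Inv K616.Near

theorem fibreDimAt_eq_zero_iff {U V : Scheme.{u}} (h : U ⟶ V) [LocallyOfFiniteType h] (u : U) :
    FlatMor.fibreDimAt h u = 0 ↔ FlatMor.fibreDimAt h u ≤ 0 := by
  constructor
  · intro H; exact H.le
  · intro H
    obtain ⟨n, hn⟩ := Groth.Agent.Ega43.FibreDimNat.exists_natCast_fibreDimAt h u
    rw [hn] at H ⊢
    have h4 : n = 0 := by
      have : n ≤ 0 := by exact_mod_cast H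
      omega
    rw [h4]
    rfl

theorem one_le_fibreDimAt {U V : Scheme.{u}} (h : U ⟶ V) [LocallyOfFiniteType h] (u : U)
    (H : ¬ FlatMor.fibreDimAt h u = 0) : 1 ≤ FlatMor.fibreDimAt h u := by
  obtain ⟨n, hn⟩ := Groth.Agent.Ega43.FibreDimNat.exists_natCast_fibreDimAt h u
  rw [hn] at H ⊢
  have h4 : n ≠ 0 := by
    rintro rfl
    exact H rfl
  have h5 : 1 ≤ n := by omega
  exact_mod_cast h5

theorem near_lqf_iff {U V : Scheme.{u}} (h : U ⟶ V) [LocallyOfFiniteType h] (u : U) :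
    Near (@LocallyQuasiFinite ⊓ @LocallyOfFiniteType) U V h u ↔ FlatMor.fibreDimAt h u = 0 := by
  rw [fibreDimAt_eq_zero_iff]
  constructor
  · rintro ⟨W, hW, h1, h2⟩
    have h3 := Groth.Agent.Flat2C.LqfDense.fibreDimAt_le_zero_of_quasiFiniteAt (W.ι ≫ h) ⟨u, hW⟩
      ((W.ι ≫ h).quasiFiniteAt _)
    rwa [Groth.Agent.Ega4fib.H172.FibDimBC.fibreDimAt_isOpenImmersion_comp] at h3
  · intro H
    have hO : IsOpen {x : U | FlatMor.fibreDimAt h x ≤ (0 : ℕ)} := Groth.Agent.S0402.result h 0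
    let W : U.Opens := ⟨_, hO⟩
    refine ⟨W, H, ?_, inferInstance⟩
    refine Groth.Agent.Flat2C.LqfDense.locallyQuasiFinite_of_fibreDimAt (W.ι ≫ h) fun w => ?_
    rw [Groth.Agent.Ega4fib.H172.FibDimBC.fibreDimAt_isOpenImmersion_comp]
    exact w.2

variable {S : Scheme.{u}}

/-- pointwise properties of `j ≫ f` at a point, for `j` representable and étale -/
theorem hasAtMor_precomp {P : MorphismProperty Scheme.{u}}
    {Q : ∀ (U V : Scheme.{u}), (U ⟶ V) → ↥U → Prop} (hQ : EtInvOn P Q)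
    {F' F G : Sp S} {j : F' ⟶ F} {f : F ⟶ G} (hF' : IsAlgSpace F') (hG : IsAlgSpace G)
    (hj : RepWith @Etale j) (hf : LocP P f) (x' : Points F') :
    HasAtMor Q (j ≫ f) x' ↔ HasAtMor Q f (Points.map j x') := by
  obtain ⟨U, V, a, b, h, u, ha, hb, w, hu⟩ := exists_diagram hF' hG (j ≫ f) x'
  have haj : RepWith @Etale (a ≫ j) := (RepWith (S := S) @Etale).comp_mem _ _ ha hj
  rw [hasAtMor_iff' hQ (K597.locP_precomp hj hf) a b h ha hb w _ hu,
    hasAtMor_iff' hQ hf (a ≫ j) b h haj hb (by rw [Category.assoc]; exact w) _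
      (by rw [← Points.map_ofPt, hu])]

end K616.NearDim
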