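import Groth.Agent.AlgSp.K616.Inv
import Groth.Agent.Ega4fib.H172.FibDimBC
import Groth.Agent.Ega4fib.H112.FibreFormula
import Groth.Agent.Flat2D.DimMap
import Groth.Agent.Desc.LQF
import Groth.Agent.Old.H22.MaxPoint
import Groth.Agent.S1146
import Groth.Prelude.Def_Dual3
import Mathlib.AlgebraicGeometry.Morphisms.UniversallyOpen
/-!
# Étale invariance of dimension-theoretic quantities at a point

* `EtInvOn.of_source_of_baseChange`: invariance under squares from invariance under étale source and étale base change.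
* `etInvAt_localDim`, `etInvAt_stalkDim`: local dimension, dimension of the local ring.
* `etInvOn_fibreDimAt` (among `LocallyOfFiniteType`), `etInvOn_resTrdeg`, `etInvOn_fibreStalkDim`.
-/

set_option autoImplicit false
universe u
open CategoryTheory CategoryTheory.Limits AlgebraicGeometry Opposite

namespace K616.DimInv

open AlgSp K616.Refine K616.Inv Groth.Agent.CycB.RelDim

/-- A property of pointed morphisms invariant under étale maps on the source and étale base change
is invariant under squares with étale vertical maps. -/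
theorem EtInvOn.of_source_of_baseChange {P : MorphismProperty Scheme.{u}}
    {Q : ∀ (U V : Scheme.{u}), (U ⟶ V) → ↥U → Prop}
    (hP : ∀ ⦃U V V' : Scheme.{u}⦄ (h : U ⟶ V) (q : V' ⟶ V) [Etale q], P h → P (pullback.snd h q))
    (hs : ∀ ⦃U V U' : Scheme.{u}⦄ (h : U ⟶ V) (p : U' ⟶ U) [Etale p], P h → P (p ≫ h) →
      ∀ u : ↥U', Q U V h (p u) ↔ Q U' V (p ≫ h) u)
    (hb : ∀ ⦃U V V' : Scheme.{u}⦄ (h : U ⟶ V) (q : V' ⟶ V) [Etale q], P h → P (pullback.snd h q) →
      ∀ u : ↥(pullback h q), Q U V h (pullback.fst h q u) ↔ Q _ V' (pullback.snd h q) u) :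
    EtInvOn P Q := by
  intro U V U' V' h h' p q _ _ hh hh' comm u
  let e : U' ⟶ pullback h q := pullback.lift p h' comm
  have e1 : e ≫ pullback.fst h q = p := pullback.lift_fst _ _ _
  have e2 : e ≫ pullback.snd h q = h' := pullback.lift_snd _ _ _
  have he : Etale e := by
    have : Etale (e ≫ pullback.fst h q) := by rw [e1]; infer_instance
    exact Etale.of_comp e (pullback.fst h q)
  have h1 := hb h q hh (hP h q hh) (e u)
  have h2 := hs (pullback.snd h q) e (hP h q hh) (by rw [e2]; exact hh') u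
  rw [← Scheme.Hom.comp_apply, e1] at h1
  simp only [e2] at h2
  exact h1.trans h2

section Local

/-- The local dimension is étale local. -/
theorem etInvAt_localDim (R : WithBot ℕ∞ → Prop) :
    EtInvAt (fun U u => R (FlatMor.localDim ↥U u)) := by
  intro U U' p _ u
  dsimp only
  rw [Groth.Agent.S1146.result p u]

theorem ringKrullDim_stalk_eq_of_etale {U V : Scheme.{u}} (p : U ⟶ V) [Etale p] (u : U) :
    ringKrullDim (U.presheaf.stalk u) = ringKrullDim (V.presheaf.stalk (p u)) := by
  rw [ringKrullDim_stalk_eq_coheight, ringKrullDim_stalk_eq_coheight]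
  have := Groth.Agent.Desc.LQF.of_etale p
  rw [Groth.Agent.Flat2D.DimMap.coheight_eq_of_generalizing p (Flat.generalizingMap p)
    (Groth.Agent.Flat2D.DimMap.eq_of_specializes_of_locallyQuasiFinite p) u]

/-- The dimension of the local ring is étale local. -/
theorem etInvAt_stalkDim (R : WithBot ℕ∞ → Prop) :
    EtInvAt (fun U u => R (ringKrullDim ↥(U.presheaf.stalk u))) := by
  intro U U' p _ u
  dsimp only
  rw [ringKrullDim_stalk_eq_of_etale p u]

end Local

section Trdeg

variable {X Y Z : Scheme.{u}}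

theorem resTrdeg_eq (f : X ⟶ Y) (x : X) : Dual3.resTrdeg f x = rtd f x := rfl

theorem resTrdeg_comp (f : X ⟶ Y) (g : Y ⟶ Z) (x : X) :
    Dual3.resTrdeg (f ≫ g) x = Dual3.resTrdeg g (f x) + Dual3.resTrdeg f x := rtd_comp f g x

theorem resTrdeg_of_lqf (f : X ⟶ Y) [LocallyQuasiFinite f] [LocallyOfFiniteType f] (x : X) :
    Dual3.resTrdeg f x = 0 :=
  le_antisymm (Groth.Agent.Old.H22.MaxPoint.rtd_le_zero f x) zero_le

theorem resTrdeg_of_etale (f : X ⟶ Y) [Etale f] (x : X) : Dual3.resTrdeg f x = 0 := by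
  have := Groth.Agent.Desc.LQF.of_etale f
  exact resTrdeg_of_lqf f x

theorem resTrdeg_square {X' Y' : Scheme.{u}} (h : X ⟶ Y) (h' : X' ⟶ Y') (p : X' ⟶ X) (q : Y' ⟶ Y)
    [Etale p] [Etale q] (w : p ≫ h = h' ≫ q) (x : X') :
    Dual3.resTrdeg h (p x) = Dual3.resTrdeg h' x := by
  have h1 := resTrdeg_comp p h x
  have h2 := resTrdeg_comp h' q x
  rw [resTrdeg_of_etale p, add_zero] at h1
  rw [resTrdeg_of_etale q, zero_add] at h2
  rw [← h1, ← h2]
  congr 1

/-- The transcendence degree of the residue field extension is étale local on source and target. -/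
theorem etInvOn_resTrdeg (R : Cardinal.{u} → Prop) :
    EtInvOn ⊤ (fun _ _ h u => R (Dual3.resTrdeg h u)) := by
  intro U V U' V' h h' p q _ _ _ _ w u
  simp only
  rw [resTrdeg_square h h' p q w u]

end Trdeg

section Fibre

variable {X' X S : Scheme.{u}}

/-- The map on fibres over `y`. -/
noncomputable def fmap (f : X' ⟶ X) (b : X ⟶ S) (y : S) : (f ≫ b).fiber y ⟶ b.fiber y :=
  pullback.map (f ≫ b) (S.fromSpecResidueField y) b (S.fromSpecResidueField y) f (𝟙 _) (𝟙 _)
    (Category.comp_id _) ((Category.comp_id _).trans (Category.id_comp _).symm)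

theorem fmap_comp_fiberι (f : X' ⟶ X) (b : X ⟶ S) (y : S) :
    fmap f b y ≫ b.fiberι y = (f ≫ b).fiberι y ≫ f :=
  pullback.lift_fst _ _ _

theorem fmap_comp_toSpec (f : X' ⟶ X) (b : X ⟶ S) (y : S) :
    fmap f b y ≫ b.fiberToSpecResidueField y = (f ≫ b).fiberToSpecResidueField y :=
  (pullback.lift_snd _ _ _).trans (Category.comp_id _)

theorem isPullback_fmap (f : X' ⟶ X) (b : X ⟶ S) (y : S) :
    IsPullback ((f ≫ b).fiberι y) (fmap f b y) f (b.fiberι y) := by
  have h1 : IsPullback (b.fiberι y) (b.fiberToSpecResidueField y) b (S.fromSpecResidueField y) :=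
    IsPullback.of_hasPullback _ _
  have h2 : IsPullback ((f ≫ b).fiberι y) ((f ≫ b).fiberToSpecResidueField y) (f ≫ b)
      (S.fromSpecResidueField y) := IsPullback.of_hasPullback _ _
  rw [← fmap_comp_toSpec] at h2
  exact (IsPullback.of_right h2.flip (fmap_comp_fiberι f b y) h1.flip).flip

instance etale_fmap (f : X' ⟶ X) (b : X ⟶ S) (y : S) [Etale f] : Etale (fmap f b y) :=
  MorphismProperty.of_isPullback (P := @Etale) (isPullback_fmap f b y) ‹_›

theorem fmap_asFiber (f : X' ⟶ X) (b : X ⟶ S) (x : X') :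
    fmap f b (b (f x)) ((f ≫ b).asFiber x) = b.asFiber (f x) := by
  apply (b.fiberι (b (f x))).isEmbedding.injective
  have h1 : (f ≫ b).fiberι (b (f x)) ((f ≫ b).asFiber x) = x := (f ≫ b).fiberι_asFiber x
  have h2 : b.fiberι (b (f x)) (fmap f b (b (f x)) ((f ≫ b).asFiber x)) =
      f ((f ≫ b).fiberι (b (f x)) ((f ≫ b).asFiber x)) := by
    have := congrArg (fun k : (f ≫ b).fiber (b (f x)) ⟶ X => k ((f ≫ b).asFiber x))
      (fmap_comp_fiberι f b (b (f x)))
    exact this
  exact h2.trans ((congrArg f h1).trans (b.fiberι_asFiber (f x)).symm)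

theorem fibreDimAt_comp_of_etale (f : X' ⟶ X) [Etale f] (b : X ⟶ S) (x : X') :
    FlatMor.fibreDimAt (f ≫ b) x = FlatMor.fibreDimAt b (f x) := by
  have h1 := Groth.Agent.S1146.result (fmap f b (b (f x))) ((f ≫ b).asFiber x)
  exact h1.trans (congrArg (FlatMor.localDim ↥(b.fiber (b (f x)))) (fmap_asFiber f b x))

theorem fibreDimAt_snd (h : X ⟶ S) (q : X' ⟶ S) [LocallyOfFiniteType h] (t : ↥(pullback h q)) :
    FlatMor.fibreDimAt (pullback.snd h q) t = FlatMor.fibreDimAt h (pullback.fst h q t) :=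
  Groth.Agent.Ega4fib.H172.FibDimBC.fibreDimAt_of_isPullback (IsPullback.of_hasPullback h q) t

theorem fibreDimAt_square {U V U' V' : Scheme.{u}} (h : U ⟶ V) (h' : U' ⟶ V') (p : U' ⟶ U) (q : V' ⟶ V)
    [Etale p] [Etale q] [LocallyOfFiniteType h] (comm : p ≫ h = h' ≫ q) (u : U') :
    FlatMor.fibreDimAt h (p u) = FlatMor.fibreDimAt h' u := by
  let e : U' ⟶ pullback h q := pullback.lift p h' comm
  have e1 : e ≫ pullback.fst h q = p := pullback.lift_fst _ _ _
  have e2 : e ≫ pullback.snd h q = h' := pullback.lift_snd _ _ _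
  have he : Etale e := by
    have : Etale (e ≫ pullback.fst h q) := by rw [e1]; infer_instance
    exact Etale.of_comp e (pullback.fst h q)
  have h1 := fibreDimAt_comp_of_etale e (pullback.snd h q) u
  rw [e2, fibreDimAt_snd, ← Scheme.Hom.comp_apply, e1] at h1
  exact h1.symm

/-- The relative dimension at a point is étale local on source and target. -/
theorem etInvOn_fibreDimAt (R : WithBot ℕ∞ → Prop) :
    EtInvOn @LocallyOfFiniteType (fun _ _ h u => R (FlatMor.fibreDimAt h u)) := by
  intro U V U' V' h h' p q _ _ (hh : LocallyOfFiniteType h) _ w u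
  simp only
  rw [fibreDimAt_square h h' p q w u]

/-- `dim_x X_{f x} = dim O_{X_{f x}, x} + trdeg κ(x)/κ(f x)` -/
theorem fibreDimAt_eq_add (f : X ⟶ S) [LocallyOfFiniteType f] (x : X) :
    FlatMor.fibreDimAt f x =
      ringKrullDim ↥((f.fiber (f x)).presheaf.stalk (f.asFiber x)) +
        ((Cardinal.toENat (Dual3.resTrdeg f x) : ℕ∞) : WithBot ℕ∞) := by
  have h := Groth.Agent.Ega4fib.H112.FibreFormula.fibreDimAt_eq_add_toNat f x
  rw [h, resTrdeg_eq]
  obtain ⟨n, hn⟩ := Cardinal.lt_aleph0.1 (rtd_lt_aleph0 f x)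
  rw [hn, Cardinal.toNat_natCast, map_natCast]
  rfl

theorem add_natCast_cancel {a b : WithBot ℕ∞} (n : ℕ) (h : a + (n : WithBot ℕ∞) = b + (n : WithBot ℕ∞)) :
    a = b := by
  induction a with
  | bot =>
    induction b with
    | bot => rfl
    | coe b => exact absurd h (by rw [WithBot.bot_add]; exact (WithBot.coe_ne_bot (a := b + (n : ℕ∞))).symm)
  | coe a =>
    induction b with
    | bot => exact absurd h (by rw [WithBot.bot_add]; exact (WithBot.coe_ne_bot (a := a + (n : ℕ∞))))
    | coe b =>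
      have h' : ((a + (n : ℕ∞) : ℕ∞) : WithBot ℕ∞) = ((b + (n : ℕ∞) : ℕ∞) : WithBot ℕ∞) := h
      have h'' : a + (n : ℕ∞) = b + (n : ℕ∞) := WithBot.coe_injective h'
      rw [(ENat.add_left_injective_of_ne_top (ENat.coe_ne_top n)) h'']

theorem fibreStalkDim_square {U V U' V' : Scheme.{u}} (h : U ⟶ V) (h' : U' ⟶ V') (p : U' ⟶ U) (q : V' ⟶ V)
    [Etale p] [Etale q] [LocallyOfFiniteType h] [LocallyOfFiniteType h'] (comm : p ≫ h = h' ≫ q) (u : U') :
    ringKrullDim ↥((h.fiber (h (p u))).presheaf.stalk (h.asFiber (p u))) =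
      ringKrullDim ↥((h'.fiber (h' u)).presheaf.stalk (h'.asFiber u)) := by
  have h1 := Groth.Agent.Ega4fib.H112.FibreFormula.fibreDimAt_eq_add_toNat h (p u)
  have h2 := Groth.Agent.Ega4fib.H112.FibreFormula.fibreDimAt_eq_add_toNat h' u
  rw [← fibreDimAt_square h h' p q comm u, h1] at h2
  rw [show rtd h (p u) = rtd h' u from resTrdeg_square h h' p q comm u] at h2
  exact add_natCast_cancel _ h2

/-- The dimension of the local ring of the fibre is étale local on source and target. -/
theorem etInvOn_fibreStalkDim (R : WithBot ℕ∞ → Prop) :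
    EtInvOn @LocallyOfFiniteType
      (fun _ _ h u => R (ringKrullDim ↥((h.fiber (h u)).presheaf.stalk (h.asFiber u)))) := by
  intro U V U' V' h h' p q _ _ (hh : LocallyOfFiniteType h) (hh' : LocallyOfFiniteType h') w u
  simp only
  rw [fibreStalkDim_square h h' p q w u]

end Fibre

end K616.DimInv
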