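import Groth.Agent.AlgSp.K616.Refine
/-!
# Independence of the chart / diagram for properties at a point

* `EtInvAt Q`, `EtInvOn P Q`: étale invariant properties of pointed schemes, resp. of pointed morphisms
  (among the morphisms having `P`).
* `exists_refinement`: two chart diagrams through the same point have a common étale refinement.
* `hasAt_iff`, `hasAtMor_iff`: `HasAt` / `HasAtMor` can be tested on any chart / diagram.
* `exists_chart`, `exists_diagram`, `exists_diagram_over`: existence of charts and diagrams through a point.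
-/

set_option autoImplicit false
universe u
open CategoryTheory CategoryTheory.Limits AlgebraicGeometry Opposite

namespace K616.Inv

open AlgSp K616.Refine

variable {S : Scheme.{u}}

/-- `Q` is invariant under étale morphisms of pointed schemes. -/
def EtInvAt (Q : ∀ U : Scheme.{u}, ↥U → Prop) : Prop :=
  ∀ ⦃U U' : Scheme.{u}⦄ (p : U' ⟶ U) [Etale p] (u : ↥U'), Q U (p u) ↔ Q U' u

/-- `Q` is invariant under commutative squares with étale vertical maps, among morphisms having `P`. -/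
def EtInvOn (P : MorphismProperty Scheme.{u}) (Q : ∀ (U V : Scheme.{u}), (U ⟶ V) → ↥U → Prop) : Prop :=
  ∀ ⦃U V U' V' : Scheme.{u}⦄ (h : U ⟶ V) (h' : U' ⟶ V') (p : U' ⟶ U) (q : V' ⟶ V) [Etale p] [Etale q],
    P h → P h' → p ≫ h = h' ≫ q → ∀ u : ↥U', Q U V h (p u) ↔ Q U' V' h' u

/-- common refinement of two étale charts through a point -/
theorem exists_chart_refinement {F : Sp S} {U₁ U₂ : Over S} (a₁ : (yon S).obj U₁ ⟶ F)
    (a₂ : (yon S).obj U₂ ⟶ F) (ha₁ : RepWith @Etale a₁) (ha₂ : RepWith @Etale a₂)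
    (u₁ : ↥U₁.left) (u₂ : ↥U₂.left) (hu : Points.ofPt a₁ u₁ = Points.ofPt a₂ u₂) :
    ∃ (U : Over S) (p₁ : U ⟶ U₁) (p₂ : U ⟶ U₂) (u : ↥U.left),
      IsPullback ((yon S).map p₁) ((yon S).map p₂) a₁ a₂ ∧
      Etale p₁.left ∧ Etale p₂.left ∧ p₁.left u = u₁ ∧ p₂.left u = u₂ := by
  obtain ⟨W, snd, fst, sq⟩ := ha₁.rep a₂
  obtain ⟨fst, rfl⟩ := (yon S).map_surjective fst
  obtain ⟨w, h1, h2⟩ := exists_pt_of_isPullback sq u₁ u₂ hu
  exact ⟨W, fst, snd, w, sq, ha₂.property a₁ _ _ sq.flip, ha₁.property a₂ _ _ sq, h1, h2⟩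

/-- common refinement of two chart diagrams through a point -/
theorem exists_refinement {F G : Sp S} (f : F ⟶ G) {U₁ V₁ U₂ V₂ : Over S}
    (a₁ : (yon S).obj U₁ ⟶ F) (b₁ : (yon S).obj V₁ ⟶ G) (h₁ : U₁ ⟶ V₁)
    (ha₁ : RepWith @Etale a₁) (hb₁ : RepWith @Etale b₁) (w₁ : a₁ ≫ f = (yon S).map h₁ ≫ b₁)
    (a₂ : (yon S).obj U₂ ⟶ F) (b₂ : (yon S).obj V₂ ⟶ G) (h₂ : U₂ ⟶ V₂)
    (ha₂ : RepWith @Etale a₂) (hb₂ : RepWith @Etale b₂) (w₂ : a₂ ≫ f = (yon S).map h₂ ≫ b₂)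
    (u₁ : ↥U₁.left) (u₂ : ↥U₂.left) (hu : Points.ofPt a₁ u₁ = Points.ofPt a₂ u₂) :
    ∃ (U V : Over S) (p₁ : U ⟶ U₁) (p₂ : U ⟶ U₂) (q₁ : V ⟶ V₁) (q₂ : V ⟶ V₂) (h : U ⟶ V)
      (u : ↥U.left),
      IsPullback ((yon S).map p₁) ((yon S).map p₂) a₁ a₂ ∧
      IsPullback ((yon S).map q₁) ((yon S).map q₂) b₁ b₂ ∧
      Etale p₁.left ∧ Etale p₂.left ∧ Etale q₁.left ∧ Etale q₂.left ∧
      p₁ ≫ h₁ = h ≫ q₁ ∧ p₂ ≫ h₂ = h ≫ q₂ ∧ p₁.left u = u₁ ∧ p₂.left u = u₂ := by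
  obtain ⟨U, p₁, p₂, u, sq, e₁, e₂, hu₁, hu₂⟩ := exists_chart_refinement a₁ a₂ ha₁ ha₂ u₁ u₂ hu
  obtain ⟨V, q₂, q₁, sq'⟩ := hb₁.rep b₂
  obtain ⟨q₁, rfl⟩ := (yon S).map_surjective q₁
  have hcomm : (yon S).map (p₁ ≫ h₁) ≫ b₁ = (yon S).map (p₂ ≫ h₂) ≫ b₂ := by
    rw [Functor.map_comp, Functor.map_comp, Category.assoc, Category.assoc, ← w₁, ← w₂,
      ← Category.assoc, ← Category.assoc, sq.w]
  obtain ⟨h, hh⟩ := (yon S).map_surjective (sq'.lift _ _ hcomm)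
  refine ⟨U, V, p₁, p₂, q₁, q₂, h, u, sq, sq', e₁, e₂, hb₂.property b₁ _ _ sq'.flip,
    hb₁.property b₂ _ _ sq', ?_, ?_, hu₁, hu₂⟩
  · apply (yon S).map_injective
    rw [Functor.map_comp, Functor.map_comp, hh, sq'.lift_fst, Functor.map_comp]
  · apply (yon S).map_injective
    rw [Functor.map_comp, Functor.map_comp, hh, sq'.lift_snd, Functor.map_comp]

/-- An étale invariant property of pointed schemes can be tested on any étale chart. -/
theorem hasAt_iff {Q : ∀ U : Scheme.{u}, ↥U → Prop} (hQ : EtInvAt Q) {F : Sp S} {U : Over S}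
    (a : (yon S).obj U ⟶ F) (ha : RepWith @Etale a) (u : ↥U.left) :
    HasAt Q F (Points.ofPt a u) ↔ Q U.left u := by
  constructor
  · rintro ⟨U₂, a₂, u₂, ha₂, hu, h⟩
    obtain ⟨W, p₁, p₂, w, sq, e₁, e₂, h1, h2⟩ := exists_chart_refinement a a₂ ha ha₂ u u₂ hu.symm
    rw [← h2] at h
    rw [← h1]
    exact (hQ p₁.left w).2 ((hQ p₂.left w).1 h)
  · intro h
    exact ⟨U, a, u, ha, rfl, h⟩

theorem hasAt_iff' {Q : ∀ U : Scheme.{u}, ↥U → Prop} (hQ : EtInvAt Q) {F : Sp S} {x : Points F}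
    {U : Over S} (a : (yon S).obj U ⟶ F) (ha : RepWith @Etale a) (u : ↥U.left)
    (hu : Points.ofPt a u = x) :
    HasAt Q F x ↔ Q U.left u := by
  subst hu
  exact hasAt_iff hQ a ha u

/-- An étale invariant property of pointed morphisms (having `P`) can be tested on any diagram. -/
theorem hasAtMor_iff {P : MorphismProperty Scheme.{u}} {Q : ∀ (U V : Scheme.{u}), (U ⟶ V) → ↥U → Prop}
    (hQ : EtInvOn P Q) {F G : Sp S} {f : F ⟶ G} (hf : LocP P f) {U V : Over S}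
    (a : (yon S).obj U ⟶ F) (b : (yon S).obj V ⟶ G) (h : U ⟶ V) (ha : RepWith @Etale a)
    (hb : RepWith @Etale b) (w : a ≫ f = (yon S).map h ≫ b) (u : ↥U.left) :
    HasAtMor Q f (Points.ofPt a u) ↔ Q U.left V.left h.left u := by
  constructor
  · rintro ⟨U₂, V₂, a₂, b₂, h₂, u₂, ha₂, hb₂, w₂, hu, H⟩
    obtain ⟨W, T, p₁, p₂, q₁, q₂, h', w', sq, sq', e₁, e₂, e₃, e₄, c₁, c₂, hu₁, hu₂⟩ :=
      exists_refinement f a b h ha hb w a₂ b₂ h₂ ha₂ hb₂ w₂ u u₂ hu.symm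
    have E₁ : RepWith @Etale ((yon S).map p₁ ≫ a) :=
      MorphismProperty.comp_mem _ _ _ ((repWith_yon_map_iff _ _).2 e₁) ha
    have E₂ : RepWith @Etale ((yon S).map q₁ ≫ b) :=
      MorphismProperty.comp_mem _ _ _ ((repWith_yon_map_iff _ _).2 e₃) hb
    have hP : P h.left := hf a b h ha hb w
    have hP₂ : P h₂.left := hf a₂ b₂ h₂ ha₂ hb₂ w₂
    have hP' : P h'.left := by
      refine hf _ _ h' E₁ E₂ ?_
      rw [Category.assoc, w, ← Category.assoc, ← Functor.map_comp, c₁, Functor.map_comp,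
        Category.assoc]
    rw [← hu₂] at H
    rw [← hu₁]
    have d₁ : p₁.left ≫ h.left = h'.left ≫ q₁.left := congrArg (·.left) c₁
    have d₂ : p₂.left ≫ h₂.left = h'.left ≫ q₂.left := congrArg (·.left) c₂
    exact (hQ h.left h'.left p₁.left q₁.left hP hP' d₁ w').2
      ((hQ h₂.left h'.left p₂.left q₂.left hP₂ hP' d₂ w').1 H)
  · intro H
    exact ⟨U, V, a, b, h, u, ha, hb, w, rfl, H⟩

theorem hasAtMor_iff' {P : MorphismProperty Scheme.{u}} {Q : ∀ (U V : Scheme.{u}), (U ⟶ V) → ↥U → Prop}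
    (hQ : EtInvOn P Q) {F G : Sp S} {f : F ⟶ G} (hf : LocP P f) {x : Points F} {U V : Over S}
    (a : (yon S).obj U ⟶ F) (b : (yon S).obj V ⟶ G) (h : U ⟶ V) (ha : RepWith @Etale a)
    (hb : RepWith @Etale b) (w : a ≫ f = (yon S).map h ≫ b) (u : ↥U.left) (hu : Points.ofPt a u = x) :
    HasAtMor Q f x ↔ Q U.left V.left h.left u := by
  subst hu
  exact hasAtMor_iff hQ hf a b h ha hb w u

/-- the trivial property, to be used for `P` when `Q` is unconditionally invariant -/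
theorem locP_top {F G : Sp S} (f : F ⟶ G) : LocP (⊤ : MorphismProperty Scheme.{u}) f :=
  fun _ _ _ _ _ _ _ _ => trivial

theorem locP_mono {P P' : MorphismProperty Scheme.{u}} (h : P ≤ P') {F G : Sp S} {f : F ⟶ G}
    (hf : LocP P f) : LocP P' f := fun _ _ a b k ha hb w => h _ (hf a b k ha hb w)

/-- every point of an algebraic space lies on an étale chart -/
theorem exists_chart {F : Sp S} (hF : IsAlgSpace F) (x : Points F) :
    ∃ (U : Over S) (a : (yon S).obj U ⟶ F) (u : ↥U.left), RepWith @Etale a ∧ Points.ofPt a u = x := by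
  obtain ⟨U, p, h1, h2⟩ := hF.atlas
  obtain ⟨u, hu⟩ := ofPt_surjective p h2 x
  exact ⟨U, p, u, h1, hu⟩

/-- diagrams over a given étale chart of the target -/
theorem exists_diagram_over {F G : Sp S} (hF : IsAlgSpace F) (f : F ⟶ G) {V : Over S}
    (b : (yon S).obj V ⟶ G) (hb : RepWith @Etale b) (x : Points F) (v : ↥V.left)
    (hv : Points.ofPt b v = Points.map f x) :
    ∃ (U : Over S) (a : (yon S).obj U ⟶ F) (h : U ⟶ V) (u : ↥U.left), RepWith @Etale a ∧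
      a ≫ f = (yon S).map h ≫ b ∧ Points.ofPt a u = x ∧ h.left u = v := by
  obtain ⟨U₀, a₀, u₀, ha₀, hu₀⟩ := exists_chart hF x
  obtain ⟨W, snd, fst, sq⟩ := hb.rep (a₀ ≫ f)
  obtain ⟨fst, rfl⟩ := (yon S).map_surjective fst
  have e : Etale snd.left := hb.property _ _ _ sq
  obtain ⟨w, h1, h2⟩ := exists_pt_of_isPullback sq v u₀ (by rw [hv, ← Points.map_ofPt, hu₀])
  refine ⟨W, (yon S).map snd ≫ a₀, fst, w,
    MorphismProperty.comp_mem _ _ _ ((repWith_yon_map_iff _ _).2 e) ha₀, ?_, ?_, h1⟩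
  · rw [Category.assoc, sq.w]
  · rw [ofPt_comp, h2, hu₀]

/-- every point of `X` lies on a diagram for `f : X ⟶ Y` -/
theorem exists_diagram {F G : Sp S} (hF : IsAlgSpace F) (hG : IsAlgSpace G) (f : F ⟶ G) (x : Points F) :
    ∃ (U V : Over S) (a : (yon S).obj U ⟶ F) (b : (yon S).obj V ⟶ G) (h : U ⟶ V) (u : ↥U.left),
      RepWith @Etale a ∧ RepWith @Etale b ∧ a ≫ f = (yon S).map h ≫ b ∧ Points.ofPt a u = x := by
  obtain ⟨V, b, v, hb, hv⟩ := exists_chart hG (Points.map f x)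
  obtain ⟨U, a, h, u, ha, w, hu, -⟩ := exists_diagram_over hF f b hb x v hv
  exact ⟨U, V, a, b, h, u, ha, hb, w, hu⟩

/-- towers of diagrams through a point for a composition -/
theorem exists_diagram_comp {F G H : Sp S} (hF : IsAlgSpace F) (hG : IsAlgSpace G) (hH : IsAlgSpace H)
    (f : F ⟶ G) (g : G ⟶ H) (x : Points F) :
    ∃ (U V W : Over S) (a : (yon S).obj U ⟶ F) (b : (yon S).obj V ⟶ G) (c : (yon S).obj W ⟶ H)
      (h : U ⟶ V) (k : V ⟶ W) (u : ↥U.left),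
      RepWith @Etale a ∧ RepWith @Etale b ∧ RepWith @Etale c ∧ a ≫ f = (yon S).map h ≫ b ∧
      b ≫ g = (yon S).map k ≫ c ∧ Points.ofPt a u = x ∧ Points.ofPt b (h.left u) = Points.map f x := by
  obtain ⟨V, W, b, c, k, v, hb, hc, w, hv⟩ := exists_diagram hG hH g (Points.map f x)
  obtain ⟨U, a, h, u, ha, w', hu, hu'⟩ := exists_diagram_over hF f b hb x v hv
  exact ⟨U, V, W, a, b, c, h, k, u, ha, hb, hc, w', w, hu, by rw [hu', hv]⟩

theorem comp_diagram {F G H : Sp S} {f : F ⟶ G} {g : G ⟶ H} {U V W : Over S}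
    {a : (yon S).obj U ⟶ F} {b : (yon S).obj V ⟶ G} {c : (yon S).obj W ⟶ H} {h : U ⟶ V} {k : V ⟶ W}
    (w : a ≫ f = (yon S).map h ≫ b) (w' : b ≫ g = (yon S).map k ≫ c) :
    a ≫ f ≫ g = (yon S).map (h ≫ k) ≫ c := by
  rw [← Category.assoc, w, Category.assoc, w', Functor.map_comp, Category.assoc]

end K616.Inv
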