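import Groth.Agent.AlgSp.K616.Inv
/-!
# Charts of fibre products, base change of properties at a point

* `mem_of_cube`: in a category with pullbacks, for `E` stable under base change and composition, the map
  `U ×_V V' ⟶ X ×_Y Y'` induced by `U ⟶ X`, `V' ⟶ Y'` in `E` and `V ⟶ Y` with diagonal in `E` is in `E`.
* `repWith_etale_diagonal`: the diagonal of an étale chart is étale.
* `exists_cartesian_diagram`: for a cartesian square of sheaves and a point `x'` of the corner there are chart
  diagrams forming a cartesian square of schemes through the point.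
-/

set_option autoImplicit false
universe u v w
open CategoryTheory CategoryTheory.Limits AlgebraicGeometry Opposite

namespace K616.BaseChange

open AlgSp K616.Refine K616.Inv

section Cube

variable {C : Type v} [Category.{w} C] [HasPullbacks C] (E : MorphismProperty C)
  [E.IsStableUnderBaseChange] [E.IsStableUnderComposition]

include E in
theorem mem_of_cube {U V V' W X Y Y' X' : C} {f : X ⟶ Y} {g : Y' ⟶ Y} {g' : X' ⟶ X} {f' : X' ⟶ Y'}
    (sq : IsPullback g' f' f g) {h : U ⟶ V} {k : V' ⟶ V} {p : W ⟶ U} {q : W ⟶ V'}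
    (sq' : IsPullback p q h k) {a : U ⟶ X} {b : V ⟶ Y} {b' : V' ⟶ Y'} (w : a ≫ f = h ≫ b)
    (w' : b' ≫ g = k ≫ b) (a' : W ⟶ X') (h1 : a' ≫ g' = p ≫ a) (h2 : a' ≫ f' = q ≫ b')
    (ha : E a) (hb' : E b') (hb : E (pullback.diagonal b)) : E a' := by
  have : E.RespectsIso := MorphismProperty.IsStableUnderBaseChange.respectsIso
  let m1 : pullback h k ⟶ pullback (h ≫ b) (k ≫ b) :=
    pullback.map h k (h ≫ b) (k ≫ b) (𝟙 _) (𝟙 _) b (Category.id_comp _).symm (Category.id_comp _).symm
  have hm1 : E m1 := MorphismProperty.of_isPullback (pullback_map_diagonal_isPullback h k b) hb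
  let m2 : pullback (h ≫ b) (k ≫ b) ⟶ pullback f g :=
    pullback.map (h ≫ b) (k ≫ b) f g a b' (𝟙 _) ((Category.comp_id _).trans w.symm)
      ((Category.comp_id _).trans w'.symm)
  have hm2 : E m2 := MorphismProperty.pullbackMap (P := E) ha hb' w.symm w'.symm
  have key : a' = sq'.isoPullback.hom ≫ (m1 ≫ m2) ≫ sq.isoPullback.inv := by
    apply sq.hom_ext
    · simp only [Category.assoc, IsPullback.isoPullback_inv_fst, m2, m1, pullback.lift_fst, h1]
      rw [pullback.lift_fst_assoc]
      simp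
    · simp only [Category.assoc, IsPullback.isoPullback_inv_snd, m2, m1, pullback.lift_snd, h2]
      rw [pullback.lift_snd_assoc]
      simp
  rw [key, MorphismProperty.cancel_left_of_respectsIso E, MorphismProperty.cancel_right_of_respectsIso E]
  exact E.comp_mem _ _ hm1 hm2

end Cube

variable {S : Scheme.{u}}

/-- The diagonal of an étale chart is étale. -/
theorem repWith_etale_diagonal {V : Over S} {Y : Sp S} (b : (yon S).obj V ⟶ Y) (hb : RepWith @Etale b) :
    RepWith @Etale (pullback.diagonal b) := by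
  obtain ⟨W, snd, fst, sq⟩ := hb.rep b
  obtain ⟨fst, rfl⟩ := (yon S).map_surjective fst
  have e1 : Etale snd.left := hb.property b _ _ sq
  let δ : (yon S).obj V ⟶ (yon S).obj W := sq.lift (𝟙 _) (𝟙 _) rfl
  obtain ⟨d, hd⟩ := (yon S).map_surjective δ
  have hd2 : d ≫ snd = 𝟙 V := by
    apply (yon S).map_injective
    rw [Functor.map_comp, hd, (yon S).map_id]
    exact sq.lift_snd _ _ _
  have hd3 : d.left ≫ snd.left = 𝟙 _ := congrArg (·.left) hd2
  have e2 : Etale d.left := by
    have : Etale (d.left ≫ snd.left) := by rw [hd3]; infer_instance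
    exact Etale.of_comp d.left snd.left
  have e3 : RepWith @Etale ((yon S).map d) := (repWith_yon_map_iff _ _).2 e2
  have key : pullback.diagonal b = (yon S).map d ≫ sq.isoPullback.hom := by
    apply pullback.hom_ext
    · rw [pullback.diagonal_fst, Category.assoc, sq.isoPullback_hom_fst, hd]
      exact (sq.lift_fst _ _ _).symm
    · rw [pullback.diagonal_snd, Category.assoc, sq.isoPullback_hom_snd, hd]
      exact (sq.lift_snd _ _ _).symm
  have hR : (RepWith (S := S) @Etale).RespectsIso := MorphismProperty.relative_respectsIso _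
  rw [key, MorphismProperty.cancel_right_of_respectsIso (RepWith @Etale)]
  exact e3

/-- chart of a fibre product of sheaves from charts -/
theorem etale_chart_pullback {X Y Y' X' : Sp S} {f : X ⟶ Y} {g : Y' ⟶ Y} {g' : X' ⟶ X} {f' : X' ⟶ Y'}
    (sq : IsPullback g' f' f g) {U V V' W : Over S} {h : U ⟶ V} {k : V' ⟶ V} {p : W ⟶ U} {q : W ⟶ V'}
    (sq' : IsPullback p q h k) {a : (yon S).obj U ⟶ X} {b : (yon S).obj V ⟶ Y} {b' : (yon S).obj V' ⟶ Y'}
    (w : a ≫ f = (yon S).map h ≫ b) (w' : b' ≫ g = (yon S).map k ≫ b)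
    (ha : RepWith @Etale a) (hb : RepWith @Etale b) (hb' : RepWith @Etale b')
    (a' : (yon S).obj W ⟶ X') (h1 : a' ≫ g' = (yon S).map p ≫ a) (h2 : a' ≫ f' = (yon S).map q ≫ b') :
    RepWith @Etale a' :=
  mem_of_cube (RepWith (S := S) @Etale) sq (sq'.map (yon S)) w w' a' h1 h2 ha hb' (repWith_etale_diagonal b hb)

/-- For a cartesian square of sheaves (with `X, X', Y, Y'` algebraic spaces) and a point `x'` of the corner there
are chart diagrams forming a cartesian square of schemes, with compatible points. -/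
theorem exists_cartesian_diagram {X Y Y' X' : Sp S} (hX : IsAlgSpace X) (hY : IsAlgSpace Y)
    (hY' : IsAlgSpace Y') (hX' : IsAlgSpace X') {f : X ⟶ Y} {g : Y' ⟶ Y} {g' : X' ⟶ X} {f' : X' ⟶ Y'}
    (sq : IsPullback g' f' f g) (x' : Points X') :
    ∃ (U V U' V' : Over S) (h : U ⟶ V) (k : V' ⟶ V) (p : U' ⟶ U) (q : U' ⟶ V')
      (a : (yon S).obj U ⟶ X) (b : (yon S).obj V ⟶ Y) (a' : (yon S).obj U' ⟶ X') (b' : (yon S).obj V' ⟶ Y')
      (u' : ↥U'.left), IsPullback p q h k ∧ RepWith @Etale a ∧ RepWith @Etale b ∧ RepWith @Etale a' ∧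
      RepWith @Etale b' ∧ a ≫ f = (yon S).map h ≫ b ∧ b' ≫ g = (yon S).map k ≫ b ∧
      a' ≫ g' = (yon S).map p ≫ a ∧ a' ≫ f' = (yon S).map q ≫ b' ∧ Points.ofPt a' u' = x' ∧
      Points.ofPt a (p.left u') = Points.map g' x' := by
  obtain ⟨V, b, v, hb, hv⟩ := exists_chart hY (Points.map g (Points.map f' x'))
  obtain ⟨V₀, b₀, v₀, hb₀, hv₀⟩ := exists_chart hY' (Points.map f' x')
  obtain ⟨T, t, k, sqT⟩ := hb.rep (b₀ ≫ g)
  obtain ⟨k, rfl⟩ := (yon S).map_surjective k
  have et : Etale t.left := hb.property _ _ _ sqT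
  let b' : (yon S).obj T ⟶ Y' := (yon S).map t ≫ b₀
  have hb' : RepWith @Etale b' := MorphismProperty.comp_mem _ _ _ ((repWith_yon_map_iff _ _).2 et) hb₀
  have w' : b' ≫ g = (yon S).map k ≫ b := by
    rw [sqT.w, Category.assoc]
  have hv2 : Points.ofPt b v = Points.map f (Points.map g' x') := by
    rw [hv, ← Points.map_comp, ← Points.map_comp, sq.w]
  obtain ⟨U, a, h, u, ha, w, hu, hhu⟩ := exists_diagram_over hX f b hb (Points.map g' x') v hv2
  have sq' : IsPullback (pullback.fst h k) (pullback.snd h k) h k := IsPullback.of_hasPullback h k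
  have hc : ((yon S).map (pullback.fst h k) ≫ a) ≫ f = ((yon S).map (pullback.snd h k) ≫ b') ≫ g := by
    rw [Category.assoc, Category.assoc, w, w', ← Category.assoc, ← Category.assoc, ← Functor.map_comp,
      ← Functor.map_comp, sq'.w]
  let a' : (yon S).obj (pullback h k) ⟶ X' := sq.lift _ _ hc
  have h1 : a' ≫ g' = (yon S).map (pullback.fst h k) ≫ a := sq.lift_fst _ _ _
  have h2 : a' ≫ f' = (yon S).map (pullback.snd h k) ≫ b' := sq.lift_snd _ _ _
  have ha' : RepWith @Etale a' := etale_chart_pullback sq sq' w w' ha hb hb' a' h1 h2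
  -- a point over x'
  obtain ⟨U₁, a₁, g₁, u₁, ha₁, w₁, hu₁, hgu₁⟩ := exists_diagram_over hX' g' a ha x' u hu
  obtain ⟨W, snd, fst, sqW⟩ := hb₀.rep (a₁ ≫ f')
  obtain ⟨fst, rfl⟩ := (yon S).map_surjective fst
  obtain ⟨z, hz1, hz2⟩ := exists_pt_of_isPullback sqW v₀ u₁ (by rw [hv₀, ← Points.map_ofPt, hu₁])
  have hc2 : (yon S).map (snd ≫ g₁ ≫ h) ≫ b = (yon S).map fst ≫ b₀ ≫ g := by
    rw [← Category.assoc ((yon S).map fst), sqW.w, Functor.map_comp, Functor.map_comp, Category.assoc,
      Category.assoc, Category.assoc, Category.assoc, ← w, ← sq.w, ← Category.assoc ((yon S).map g₁), ← w₁,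
      Category.assoc]
  obtain ⟨τ, hτ⟩ := (yon S).map_surjective (sqT.lift _ _ hc2)
  have τ1 : τ ≫ k = snd ≫ g₁ ≫ h := by
    apply (yon S).map_injective
    rw [Functor.map_comp, hτ, sqT.lift_fst]
  have τ2 : τ ≫ t = fst := by
    apply (yon S).map_injective
    rw [Functor.map_comp, hτ, sqT.lift_snd]
  let ω : W ⟶ pullback h k := pullback.lift (snd ≫ g₁) τ (by rw [τ1, Category.assoc])
  have ω1 : ω ≫ pullback.fst h k = snd ≫ g₁ := pullback.lift_fst _ _ _
  have ω2 : ω ≫ pullback.snd h k = τ := pullback.lift_snd _ _ _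
  have hω : (yon S).map ω ≫ a' = (yon S).map snd ≫ a₁ := by
    apply sq.hom_ext
    · rw [Category.assoc, h1, ← Category.assoc, ← Functor.map_comp, ω1, Functor.map_comp, Category.assoc,
        Category.assoc, w₁]
    · rw [Category.assoc, h2, ← Category.assoc, ← Functor.map_comp, ω2]
      change (yon S).map τ ≫ (yon S).map t ≫ b₀ = _
      rw [← Category.assoc, ← Functor.map_comp, τ2, sqW.w, Category.assoc]
  have hpt : Points.ofPt a' (ω.left z) = x' := by
    rw [← ofPt_comp, hω, ofPt_comp, hz2, hu₁]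
  refine ⟨U, V, pullback h k, T, h, k, pullback.fst h k, pullback.snd h k, a, b, a', b', ω.left z, sq', ha, hb,
    ha', hb', w, w', h1, h2, hpt, ?_⟩
  rw [← ofPt_comp, ← h1, ← Points.map_ofPt, hpt]

end K616.BaseChange
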