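import Groth.Agent.AlgSp.K616.Inv
import Groth.Agent.AlgSp.K616.BaseChange
import Groth.Agent.AlgSp.K597.EtLocDef
import Groth.Agent.AlgSp.K609.Points
/-!
# Properties near a point

* `Near P`: the property "`h` restricted to some open neighbourhood of `u` has `P`".
* `etInvOn_near`: étale invariant when `P` is étale local on source and target.
* `isOpen_near`, `isOpen_hasAtMor`: the locus is open.
* `locP_iff_near`: `LocP P f` iff `HasAtMor (Near P) f x` at every point.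
* `hasAtMor_baseChange`: base change of a locus from the pointwise scheme statement.
-/

set_option autoImplicit false
universe u
open CategoryTheory CategoryTheory.Limits AlgebraicGeometry Opposite

namespace K616.Near

open AlgSp K616.Refine K616.Inv K597

variable {S : Scheme.{u}}

/-- "`h` restricted to some open neighbourhood of `u` has `P`" -/
def Near (P : MorphismProperty Scheme.{u}) (U V : Scheme.{u}) (h : U ⟶ V) (u : ↥U) : Prop :=
  ∃ W : U.Opens, u ∈ W ∧ P (W.ι ≫ h)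

section Scheme

variable {P : MorphismProperty Scheme.{u}}

theorem near_of_square_left (hP : EtLoc P) {U V U' V' : Scheme.{u}} (h : U ⟶ V) (h' : U' ⟶ V')
    (p : U' ⟶ U) (q : V' ⟶ V) [Etale p] [Etale q] (w : p ≫ h = h' ≫ q) (u : ↥U')
    (H : Near P U V h (p u)) : Near P U' V' h' u := by
  obtain ⟨W, hW, HW⟩ := H
  refine ⟨p ⁻¹ᵁ W, hW, ?_⟩
  refine hP.cancel _ q inferInstance ?_
  have h1 : ((p ⁻¹ᵁ W).ι ≫ h') ≫ q = (p ∣_ W) ≫ W.ι ≫ h := by
    rw [Category.assoc, ← w, ← Category.assoc, ← Category.assoc, morphismRestrict_ι]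
  rw [h1]
  exact hP.precomp _ _ inferInstance HW

theorem near_of_square_right (hP : EtLoc P) {U V U' V' : Scheme.{u}} (h : U ⟶ V) (h' : U' ⟶ V')
    (p : U' ⟶ U) (q : V' ⟶ V) [Etale p] [Etale q] (w : p ≫ h = h' ≫ q) (u : ↥U')
    (H : Near P U' V' h' u) : Near P U V h (p u) := by
  obtain ⟨W', hW', HW'⟩ := H
  have e0 : Etale (W'.ι ≫ p) := inferInstance
  let W : U.Opens := ⟨Set.range (W'.ι ≫ p), (W'.ι ≫ p).isOpenMap.isOpen_range⟩
  refine ⟨W, ⟨⟨u, hW'⟩, rfl⟩, ?_⟩
  have hr : Set.range (W'.ι ≫ p) ⊆ Set.range W.ι := by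
    rw [Scheme.Opens.range_ι]
    exact subset_rfl
  let e : W'.toScheme ⟶ W.toScheme := IsOpenImmersion.lift W.ι (W'.ι ≫ p) hr
  have he : e ≫ W.ι = W'.ι ≫ p := IsOpenImmersion.lift_fac _ _ _
  have hle : Etale e := by
    have : Etale (e ≫ W.ι) := by rw [he]; exact e0
    exact Etale.of_comp e W.ι
  have hls : Surjective e := by
    constructor
    rintro ⟨_, x, rfl⟩
    refine ⟨x, W.ι.isOpenEmbedding.injective ?_⟩
    rw [← Scheme.Hom.comp_apply, he]
    rfl
  refine hP.descend e _ hle hls ?_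
  have h1 : e ≫ W.ι ≫ h = (W'.ι ≫ h') ≫ q := by
    rw [← Category.assoc, he, Category.assoc, w, Category.assoc]
  rw [h1]
  exact hP.postcomp _ _ inferInstance HW'

/-- `Near P` is étale local on source and target when `P` is. -/
theorem etInvOn_near (hP : EtLoc P) : EtInvOn ⊤ (Near P) :=
  fun _ _ _ _ h h' p q _ _ _ _ w u =>
    ⟨near_of_square_left hP h h' p q w u, near_of_square_right hP h h' p q w u⟩

theorem near_iff_of_openImmersion {U V : Scheme.{u}} (h : U ⟶ V) (W : U.Opens) (hW : P (W.ι ≫ h)) (u : W) :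
    Near P U V h u.1 := ⟨W, u.2, hW⟩

theorem forall_near_iff [IsZariskiLocalAtSource P] {U V : Scheme.{u}} (h : U ⟶ V) :
    (∀ u, Near P U V h u) ↔ P h := by
  constructor
  · intro H
    choose W hW HW using H
    refine IsZariskiLocalAtSource.of_iSup_eq_top W ?_ HW
    rw [eq_top_iff]
    intro u _
    exact TopologicalSpace.Opens.mem_iSup.2 ⟨u, hW u⟩
  · intro H u
    exact ⟨⊤, trivial, IsZariskiLocalAtSource.comp H _⟩

theorem near_of_isPullback [P.IsStableUnderBaseChange] {U V U' V' : Scheme.{u}} {h : U ⟶ V} {h' : U' ⟶ V'}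
    {p : U' ⟶ U} {q : V' ⟶ V} (sq : IsPullback p h' h q) (u : ↥U') (H : Near P U V h (p u)) :
    Near P U' V' h' u := by
  obtain ⟨W, hW, HW⟩ := H
  refine ⟨p ⁻¹ᵁ W, hW, ?_⟩
  have h1 : IsPullback (p ∣_ W) (p ⁻¹ᵁ W).ι W.ι p := isPullback_morphismRestrict p W
  exact P.of_isPullback (h1.paste_vert sq) HW

end Scheme

/-- The locus where a morphism has `P` near the point is open in the space of points. -/
theorem isOpen_near (P : MorphismProperty Scheme.{u}) {F G : Sp S} (f : F ⟶ G) :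
    IsOpen {x : Points F | HasAtMor (Near P) f x} := by
  rw [isOpen_iff_forall_mem_open]
  rintro x ⟨U, V, a, b, h, u, ha, hb, w, rfl, W, huW, hW⟩
  refine ⟨Points.ofPt a '' (W : Set ↥U.left), ?_, K609.Points.isOpenMap_ofPt ha _ W.isOpen, ⟨u, huW, rfl⟩⟩
  rintro _ ⟨u', hu', rfl⟩
  exact ⟨U, V, a, b, h, u', ha, hb, w, rfl, W, hu', hW⟩

theorem hasAtMor_congr {Q Q' : ∀ (U V : Scheme.{u}), (U ⟶ V) → ↥U → Prop}
    (h : ∀ (U V : Scheme.{u}) (g : U ⟶ V) (u : ↥U), Q U V g u ↔ Q' U V g u) {F G : Sp S} (f : F ⟶ G)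
    (x : Points F) : HasAtMor Q f x ↔ HasAtMor Q' f x := by
  constructor
  · rintro ⟨U, V, a, b, k, u, ha, hb, w, hu, H⟩
    exact ⟨U, V, a, b, k, u, ha, hb, w, hu, (h _ _ _ _).1 H⟩
  · rintro ⟨U, V, a, b, k, u, ha, hb, w, hu, H⟩
    exact ⟨U, V, a, b, k, u, ha, hb, w, hu, (h _ _ _ _).2 H⟩

/-- `f` has `P` (on all chart diagrams) iff it has `P` near every point. -/
theorem locP_iff_near {P : MorphismProperty Scheme.{u}} (hP : EtLoc P) [IsZariskiLocalAtSource P]
    {F G : Sp S} (hF : IsAlgSpace F) (hG : IsAlgSpace G) (f : F ⟶ G) :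
    LocP P f ↔ ∀ x : Points F, HasAtMor (Near P) f x := by
  constructor
  · intro H x
    obtain ⟨U, V, a, b, h, u, ha, hb, w, hu⟩ := exists_diagram hF hG f x
    exact ⟨U, V, a, b, h, u, ha, hb, w, hu, (forall_near_iff h.left).2 (H a b h ha hb w) u⟩
  · intro H U V a b h ha hb w
    refine (forall_near_iff h.left).1 fun u => ?_
    exact (hasAtMor_iff (etInvOn_near hP) (locP_top f) a b h ha hb w u).1 (H _)

/-- Base change of pointwise properties of morphisms, from the scheme statement. -/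
theorem hasAtMor_baseChange {P : MorphismProperty Scheme.{u}}
    {Q : ∀ (U V : Scheme.{u}), (U ⟶ V) → ↥U → Prop} (hQ : EtInvOn P Q)
    (hbc : ∀ ⦃U V U' V' : Scheme.{u}⦄ ⦃h : U ⟶ V⦄ ⦃h' : U' ⟶ V'⦄ ⦃p : U' ⟶ U⦄ ⦃q : V' ⟶ V⦄,
      IsPullback p h' h q → P h → ∀ u : ↥U', Q U V h (p u) ↔ Q U' V' h' u)
    {X Y Y' X' : Sp S} (hX : IsAlgSpace X) (hY : IsAlgSpace Y) (hY' : IsAlgSpace Y') (hX' : IsAlgSpace X')
    {f : X ⟶ Y} {g : Y' ⟶ Y} {g' : X' ⟶ X} {f' : X' ⟶ Y'}
    (sq : IsPullback g' f' f g) (hf : LocP P f) (hf' : LocP P f') (x' : Points X') :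
    HasAtMor Q f (Points.map g' x') ↔ HasAtMor Q f' x' := by
  obtain ⟨U, V, U', V', h, k, p, q, a, b, a', b', u', sq', ha, hb, ha', hb', w, w', h1, h2, hu', hu⟩ :=
    K616.BaseChange.exists_cartesian_diagram hX hY hY' hX' sq x'
  rw [hasAtMor_iff' hQ hf a b h ha hb w _ hu, hasAtMor_iff' hQ hf' a' b' q ha' hb' h2 _ hu']
  exact hbc (sq'.map (Over.forget S)) (hf a b h ha hb w) u'

end K616.Near
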