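import Groth.Agent.S2000
import Groth.Agent.S10724
import Mathlib.RingTheory.Localization.Away.Basic

/-!
# Beauville-Laszlo glueing of algebras: universal property

* `exists_glue`: glueing of `A₁` (over `R_f`) and `A'` (over `R'`) along `φ : A'_f ≅ R' ⊗ A₁`, with the glued
  algebra described as a fibre product.
* `etale_glue`: an algebra map between glueable algebras is étale if its two base changes are.
-/

set_option autoImplicit false
universe u
open TensorProduct

namespace K616.BLAlg

variable {R R' : Type u} [CommRing R] [CommRing R'] [Algebra R R'] {f : R}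

theorem exists_glue (hRR' : EtGlue.IsGlueingPair R R' f) (A₁ : Type u) [CommRing A₁] [Algebra R A₁]
    (h₁ : IsUnit (algebraMap R A₁ f)) (A' : Type u) [CommRing A'] [Algebra R A'] [Algebra R' A']
    [IsScalarTower R R' A'] (φ : Localization.Away (algebraMap R A' f) ≃ₐ[R'] R' ⊗[R] A₁) :
    ∃ (A : Type u) (_ : CommRing A) (_ : Algebra R A) (_ : EtGlue.IsGlueable R R' f A)
      (e₁ : Localization.Away (algebraMap R A f) ≃ₐ[R] A₁) (e' : R' ⊗[R] A ≃ₐ[R'] A')
      (q₁ : A →ₐ[R] A₁) (q' : A →ₐ[R] A'),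
      (∀ a, e₁ (algebraMap A (Localization.Away (algebraMap R A f)) a) = q₁ a) ∧
      (∀ a : A, e' ((1 : R') ⊗ₜ[R] a) = q' a) ∧
      ∀ (D : Type u) [CommRing D] [Algebra R D] (α₁ : D →ₐ[R] A₁) (α' : D →ₐ[R] A'),
        (∀ d, φ (algebraMap A' (Localization.Away (algebraMap R A' f)) (α' d)) = (1 : R') ⊗ₜ[R] α₁ d) →
        ∃ α : D →ₐ[R] A, q₁.comp α = α₁ ∧ q'.comp α = α' := by
  let L := Localization.Away (algebraMap R A' f)
  -- the comparison map
  let α : A' →ₐ[R'] R' ⊗[R] A₁ := φ.toAlgHom.comp (IsScalarTower.toAlgHom R' A' L)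
  have hf : Function.Bijective fun x : A₁ => f • x := by
    have : (fun x : A₁ => f • x) = fun x => algebraMap R A₁ f * x := by
      ext x; rw [Algebra.smul_def]
    rw [this]
    exact (Units.mulLeft_bijective h₁.unit)
  have A1 : ∀ x, α x = 0 → ∃ n : ℕ, f ^ n • x = 0 := by
    intro x hx
    have h1 : algebraMap A' L x = 0 := φ.map_eq_zero_iff.1 hx
    obtain ⟨⟨_, n, rfl⟩, hc⟩ := (IsLocalization.map_eq_zero_iff
      (Submonoid.powers (algebraMap R A' f)) L x).1 h1
    refine ⟨n, ?_⟩
    rw [Algebra.smul_def, map_pow]; exact hc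
  have A2 : ∀ p, ∃ (n : ℕ) (x : A'), f ^ n • p = α x := by
    intro p
    obtain ⟨⟨x, ⟨_, n, rfl⟩⟩, hc⟩ := IsLocalization.surj
      (Submonoid.powers (algebraMap R A' f)) (φ.symm p)
    refine ⟨n, x, ?_⟩
    simp only at hc
    have h2 : α x = φ (algebraMap A' L x) := rfl
    rw [h2, ← hc, map_mul, AlgEquiv.apply_symm_apply, map_pow, map_pow]
    have h3 : φ (algebraMap A' L (algebraMap R A' f)) = algebraMap R (R' ⊗[R] A₁) f := by
      have h4 : algebraMap A' L (algebraMap R A' f) = algebraMap R' L (algebraMap R R' f) := by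
        rw [IsScalarTower.algebraMap_apply R' A' L]
        exact congrArg _ (IsScalarTower.algebraMap_apply R R' A' f)
      rw [h4]
      exact (φ.commutes _).trans (IsScalarTower.algebraMap_apply R R' (R' ⊗[R] A₁) f).symm
    rw [h3, Algebra.smul_def, map_pow, mul_comm]
  -- the subalgebra
  let S : Subalgebra R (A' × A₁) :=
    AlgHom.equalizer ((α.restrictScalars R).comp (AlgHom.fst R A' A₁))
      ((Algebra.TensorProduct.includeRight : A₁ →ₐ[R] R' ⊗[R] A₁).comp (AlgHom.snd R A' A₁))
  have hM : ∀ v, v ∈ Subalgebra.toSubmodule S ↔ α.toLinearMap v.1 = (1 : R') ⊗ₜ[R] v.2 :=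
    fun v => Iff.rfl
  have hloc := Groth.Agent.S2000.snd_loc hf α.toLinearMap A1 A2 (Subalgebra.toSubmodule S) hM
  have hbij := Groth.Agent.S2000.glue_bij hRR' hf α.toLinearMap A1 A2 (Subalgebra.toSubmodule S) hM
  have hgl : EtGlue.IsGlueable R R' f S :=
    Groth.Agent.S2000.glueable hRR' hf α.toLinearMap A1 A2 (Subalgebra.toSubmodule S) hM
  let p₁ : S →ₐ[R] A' := (AlgHom.fst R A' A₁).comp S.val
  let p₂ : S →ₐ[R] A₁ := (AlgHom.snd R A' A₁).comp S.val
  let g : R' ⊗[R] S →ₐ[R'] A' :=
    Algebra.TensorProduct.lift (Algebra.ofId R' A') p₁ (fun _ _ => Commute.all _ _)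
  have hg1 : ∀ a : S, g ((1 : R') ⊗ₜ[R] a) = (a : A' × A₁).1 := by
    intro a
    rw [Algebra.TensorProduct.lift_tmul, map_one, one_mul]; rfl
  have hgbij : Function.Bijective g := by
    have : (g : R' ⊗[R] S → A') = LinearMap.liftBaseChange R'
        ((LinearMap.fst R A' A₁).comp (Subalgebra.toSubmodule S).subtype) := by
      ext x
      induction x with
      | zero => rw [map_zero, map_zero]
      | add x y hx hy => rw [map_add, map_add, hx, hy]
      | tmul r a =>
        rw [LinearMap.liftBaseChange_tmul, Algebra.TensorProduct.lift_tmul, Algebra.smul_def]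
        rfl
    rw [this]
    exact hbij
  let _ : Algebra S A₁ := p₂.toRingHom.toAlgebra
  have : IsScalarTower R S A₁ := IsScalarTower.of_algebraMap_eq' p₂.comp_algebraMap.symm
  have hloc' : IsLocalization (Algebra.algebraMapSubmonoid S (Submonoid.powers f)) A₁ := by
    rw [← isLocalizedModule_iff_isLocalization]
    exact hloc
  have : IsLocalization.Away (algebraMap R S f) A₁ := by
    have h : Algebra.algebraMapSubmonoid S (Submonoid.powers f) =
        Submonoid.powers (algebraMap R S f) := by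
      rw [Algebra.algebraMapSubmonoid, Submonoid.map_powers]
    rw [h] at hloc'
    exact hloc'
  let e₁ : Localization.Away (algebraMap R S f) ≃ₐ[S] A₁ :=
    IsLocalization.algEquiv (Submonoid.powers (algebraMap R S f)) _ _
  refine ⟨S, inferInstance, inferInstance, hgl, e₁.restrictScalars R,
    AlgEquiv.ofBijective g hgbij, p₂, p₁, fun a => e₁.commutes a, fun a => ?_, ?_⟩
  · rw [AlgEquiv.ofBijective_apply, hg1]
    rfl
  · intro D _ _ α₁ α' hD
    refine ⟨(AlgHom.prod α' α₁).codRestrict S fun d => ?_, ?_, ?_⟩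
    · exact hD d
    · rfl
    · rfl

/-- Étaleness over a glued algebra. -/
theorem etale_glue (hRR' : EtGlue.IsGlueingPair R R' f) {A B : Type u} [CommRing A] [CommRing B] [Algebra R A]
    [Algebra R B] (hA : EtGlue.IsGlueable R R' f A) (hB : EtGlue.IsGlueable R R' f B) (φ : A →ₐ[R] B)
    {B₁ B' : Type u} [CommRing B₁] [CommRing B'] (q₁ : B →+* B₁)
    (e₁ : Localization.Away (algebraMap R B f) ≃+* B₁) (he₁ : ∀ b : B, e₁ (algebraMap B _ b) = q₁ b)
    (e' : R' ⊗[R] B ≃+* B')
    (β₁ : Localization.Away (algebraMap R A f) →+* B₁) (β' : R' ⊗[R] A →+* B')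
    (hβ₁ : β₁.Etale) (hβ' : β'.Etale)
    (h₁ : ∀ a : A, β₁ (algebraMap A _ a) = q₁ (φ a))
    (h' : ∀ a : A, β' ((1 : R') ⊗ₜ[R] a) = e' ((1 : R') ⊗ₜ[R] φ a))
    (h'' : ∀ r : R', β' (r ⊗ₜ[R] (1 : A)) = e' (r ⊗ₜ[R] (1 : B))) : φ.toRingHom.Etale := by
  rw [Groth.Agent.S10724.result R R' f hRR' A B hA hB φ]
  constructor
  · let _ : Algebra B B₁ := q₁.toAlgebra
    let e₁' : Localization.Away (algebraMap R B f) ≃ₐ[B] B₁ := AlgEquiv.ofRingEquiv (f := e₁) he₁
    have h2 : IsLocalization.Away (algebraMap R B f) B₁ :=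
      IsLocalization.isLocalization_of_algEquiv (Submonoid.powers (algebraMap R B f)) e₁'
    have h3 : φ.toRingHom (algebraMap R A f) = algebraMap R B f := φ.commutes f
    have h4 : IsLocalization.Away (φ.toRingHom (algebraMap R A f)) B₁ := by rw [h3]; exact h2
    let e : B₁ ≃ₐ[B] Localization.Away (φ.toRingHom (algebraMap R A f)) :=
      IsLocalization.algEquiv (Submonoid.powers (φ.toRingHom (algebraMap R A f))) _ _
    have h5 : Localization.awayMap φ.toRingHom (algebraMap R A f) = e.toRingEquiv.toRingHom.comp β₁ := by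
      refine IsLocalization.ringHom_ext (Submonoid.powers (algebraMap R A f)) (RingHom.ext fun a => ?_)
      have h6 : e (q₁ (φ a)) = algebraMap B _ (φ a) := e.commutes (φ a)
      change Localization.awayMap φ.toRingHom (algebraMap R A f) (algebraMap A _ a) = e (β₁ (algebraMap A _ a))
      rw [h₁, h6]
      exact IsLocalization.map_eq _ _
    rw [h5]
    exact RingHom.Etale.respectsIso.1 _ _ hβ₁
  · have h2 : (Algebra.TensorProduct.map (AlgHom.id R R') φ).toRingHom = e'.symm.toRingHom.comp β' := by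
      refine RingHom.ext fun x => ?_
      change Algebra.TensorProduct.map (AlgHom.id R R') φ x = e'.symm (β' x)
      rw [RingEquiv.eq_symm_apply]
      induction x with
      | zero => simp
      | add x y hx hy => rw [map_add, map_add, map_add, hx, hy]
      | tmul r a =>
        have h3 : r ⊗ₜ[R] a = (r ⊗ₜ[R] (1 : A)) * ((1 : R') ⊗ₜ[R] a) := by
          rw [Algebra.TensorProduct.tmul_mul_tmul, mul_one, one_mul]
        rw [Algebra.TensorProduct.map_tmul, h3, map_mul, h', h'', ← map_mul,
          Algebra.TensorProduct.tmul_mul_tmul, mul_one, one_mul]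
        rfl
    rw [h2]
    exact RingHom.Etale.respectsIso.1 _ _ hβ'

end K616.BLAlg
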