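import Groth.Agent.AlgSp.K616.BLLoc2
import Groth.Agent.AlgSp.K616.Inv

/-!
# Beauville-Laszlo glueing of morphisms of algebraic spaces
-/

set_option autoImplicit false
universe u

open CategoryTheory CategoryTheory.Limits AlgebraicGeometry TensorProduct

namespace K616.BLChart

open AlgSp K641.SpecAlg K616.SpMap K616.BLLoc

variable {R R' : Type u} [CommRing R] [CommRing R'] [Algebra R R'] {f : R}

theorem hom_terminal {S : Scheme.{u}} {F : Sp S} (x y : F ⟶ (yon S).obj (Over.mk (𝟙 _))) : x = y := by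
  refine K635.Glue.hom_ext_yon fun T t => ?_
  obtain ⟨x', hx'⟩ := (yon S).map_surjective (t ≫ x)
  obtain ⟨y', hy'⟩ := (yon S).map_surjective (t ≫ y)
  rw [← hx', ← hy', Over.mkIdTerminal.hom_ext x' y']

/-- affine étale charts through a point -/
theorem exists_alg_chart {F : Sp (Spec (CommRingCat.of R))} (hF : IsAlgSpace F) (x : Points F) :
    ∃ (A : Type u) (_ : CommRing A) (_ : Algebra R A)
      (y : (yon (Spec (CommRingCat.of R))).obj (sp R A) ⟶ F) (t : ↥(sp R A).left), RepWith @Etale y ∧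
      Points.ofPt y t = x := by
  obtain ⟨U, a, u, ha, hu⟩ := K616.Inv.exists_chart hF x
  obtain ⟨κ, B, _, _, c, hc, hs⟩ := exists_affine_cover U
  obtain ⟨k, t, ht⟩ := hs u
  refine ⟨B k, inferInstance, inferInstance, (yon _).map (c k) ≫ a, t, ?_, ?_⟩
  · have := hc k
    exact (RepWith (S := Spec (CommRingCat.of R)) @Etale).comp_mem _ _ ((repWith_yon_map_iff _ _).2 inferInstance) ha
  · rw [K642.EtCov.ofPt_yon_map, ht, hu]

theorem exists_unit_hom {X : Type u} [CommRing X] [Algebra R X] (h : IsUnit (algebraMap R X f)) :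
    Nonempty (Localization.Away f →ₐ[R] X) := by
  have hu : ∀ y : Submonoid.powers f, IsUnit (Algebra.ofId R X y) := by
    rintro ⟨_, n, rfl⟩
    rw [map_pow]
    exact IsUnit.pow n h
  exact ⟨IsLocalization.liftAlgHom (M := Submonoid.powers f) (f := Algebra.ofId R X) hu⟩

theorem unit_hom_ext {X : Type u} [CommRing X] [Algebra R X] (t t' : Localization.Away f →ₐ[R] X) : t = t' := by
  have h1 : t.toRingHom = t'.toRingHom :=
    IsLocalization.ringHom_ext (Submonoid.powers f) (RingHom.ext fun a => by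
      change t (algebraMap R _ a) = t' (algebraMap R _ a)
      rw [AlgHom.commutes, AlgHom.commutes])
  exact AlgHom.ext fun a => RingHom.congr_fun h1 a

section

variable {Y Z YU ZU YX ZX YU' ZU' : Space (Spec (CommRingCat.of R))}
  {πY : Y.obj ⟶ (yon (Spec (CommRingCat.of R))).obj (Over.mk (𝟙 _))}
  {inU : sp R (Localization.Away f) ⟶ Over.mk (𝟙 _)}
  {inX : sp R R' ⟶ Over.mk (𝟙 _)}
  {uY : YU ⟶ Y} {sY : YU.obj ⟶ (yon (Spec (CommRingCat.of R))).obj (sp R (Localization.Away f))}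
  {uZ : ZU ⟶ Z} {xY : YX ⟶ Y} {rY : YX.obj ⟶ (yon (Spec (CommRingCat.of R))).obj (sp R R')} {xZ : ZX ⟶ Z}
  {mY₁ : YU' ⟶ YU} {mY₂ : YU' ⟶ YX} {mZ₁ : ZU' ⟶ ZU} {mZ₂ : ZU' ⟶ ZX}
  {a : YU ⟶ ZU} {b : YX ⟶ ZX} {c : YU' ⟶ ZU'}

/-- `z` agrees with the given maps on all points over `U` and `X'` -/
def GoodAt (uY : YU ⟶ Y) (uZ : ZU ⟶ Z) (xY : YX ⟶ Y) (xZ : ZX ⟶ Z) (a : YU ⟶ ZU) (b : YX ⟶ ZX)
    {B : Type u} [CommRing B] [Algebra R B]
    (y : (yon (Spec (CommRingCat.of R))).obj (sp R B) ⟶ Y.obj)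
    (z : (yon (Spec (CommRingCat.of R))).obj (sp R B) ⟶ Z.obj) : Prop :=
  (∀ (T : Over (Spec (CommRingCat.of R))) (w : T ⟶ sp R B) (k : (yon _).obj T ⟶ YU.obj),
    k ≫ uY.hom = (yon _).map w ≫ y → (yon _).map w ≫ z = k ≫ a.hom ≫ uZ.hom) ∧
  (∀ (T : Over (Spec (CommRingCat.of R))) (w : T ⟶ sp R B) (k : (yon _).obj T ⟶ YX.obj),
    k ≫ xY.hom = (yon _).map w ≫ y → (yon _).map w ≫ z = k ≫ b.hom ≫ xZ.hom)

/-- Local existence of the glued map. -/
theorem exists_good (hRR' : EtGlue.IsGlueingPair R R' f)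
    (hY : ∀ (A : Type u) [CommRing A] [Algebra R A]
      (g : (yon (Spec (CommRingCat.of R))).obj (sp R A) ⟶ Y.obj), RepWith @Etale g → EtGlue.IsGlueable R R' f A)
    (hZd : IsAffineMor (Limits.diag Z.obj))
    (hYU : IsPullback uY.hom sY πY ((yon (Spec (CommRingCat.of R))).map inU))
    (hYX : IsPullback xY.hom rY πY ((yon (Spec (CommRingCat.of R))).map inX))
    (hYU' : IsPullback mY₁.hom mY₂.hom uY.hom xY.hom)
    (hc₁ : c ≫ mZ₁ = mY₁ ≫ a) (hc₂ : c ≫ mZ₂ = mY₂ ≫ b) (hZU' : IsPullback mZ₁.hom mZ₂.hom uZ.hom xZ.hom)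
    (x : Points Y.obj) :
    ∃ (B : Type u) (_ : CommRing B) (_ : Algebra R B)
      (y : (yon (Spec (CommRingCat.of R))).obj (sp R B) ⟶ Y.obj)
      (z : (yon (Spec (CommRingCat.of R))).obj (sp R B) ⟶ Z.obj) (t : ↥(sp R B).left),
      RepWith @Etale y ∧ GoodAt uY uZ xY xZ a b y z ∧ Points.ofPt y t = x := by
  obtain ⟨A, _, _, y, t, hy, rfl⟩ := exists_alg_chart Y.property x
  have hA := hY A y hy
  obtain ⟨τ⟩ := exists_unit_hom (isUnit_of_loc (AlgHom.id R (Localization.Away (algebraMap R A f))))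
  -- the restrictions
  have wU : ((yon _).map (spMap (toLoc A f)) ≫ y) ≫ πY = (yon _).map (spMap τ) ≫ (yon _).map inU := hom_terminal _ _
  have wX : ((yon _).map (spMap (Algebra.TensorProduct.includeRight : A →ₐ[R] R' ⊗[R] A)) ≫ y) ≫ πY =
      (yon _).map (spMap (Algebra.TensorProduct.includeLeft : R' →ₐ[R] R' ⊗[R] A)) ≫ (yon _).map inX :=
    hom_terminal _ _
  let kU := hYU.lift _ _ wU
  let kX := hYX.lift _ _ wX
  have hkU1 : kU ≫ uY.hom = (yon _).map (spMap (toLoc A f)) ≫ y := hYU.lift_fst _ _ wU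
  have hkX1 : kX ≫ xY.hom = (yon _).map (spMap (Algebra.TensorProduct.includeRight : A →ₐ[R] R' ⊗[R] A)) ≫ y :=
    hYX.lift_fst _ _ wX
  have hkX2 : kX ≫ rY = (yon _).map (spMap (Algebra.TensorProduct.includeLeft : R' →ₐ[R] R' ⊗[R] A)) :=
    hYX.lift_snd _ _ wX
  let zU := kU ≫ a.hom ≫ uZ.hom
  let zX := kX ≫ b.hom ≫ xZ.hom
  have hz : Agree R' f A zU zX := by
    intro X _ _ g g' hg
    have w : ((yon _).map (spMap g) ≫ kU) ≫ uY.hom = ((yon _).map (spMap g') ≫ kX) ≫ xY.hom := by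
      rw [Category.assoc, hkU1, Category.assoc, hkX1, ← Category.assoc, ← Category.assoc, ← Functor.map_comp,
        ← Functor.map_comp, spMap_comp, spMap_comp, hg]
    let m := hYU'.lift _ _ w
    have hm1 : m ≫ mY₁.hom = (yon _).map (spMap g) ≫ kU := hYU'.lift_fst _ _ w
    have hm2 : m ≫ mY₂.hom = (yon _).map (spMap g') ≫ kX := hYU'.lift_snd _ _ w
    have e1 : mY₁.hom ≫ a.hom = c.hom ≫ mZ₁.hom := (congrArg (·.hom) hc₁).symm
    have e2 : mY₂.hom ≫ b.hom = c.hom ≫ mZ₂.hom := (congrArg (·.hom) hc₂).symm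
    have E1 : ((yon _).map (spMap g) ≫ kU) ≫ a.hom ≫ uZ.hom = m ≫ c.hom ≫ mZ₁.hom ≫ uZ.hom := by
      rw [← hm1, Category.assoc, ← Category.assoc mY₁.hom, e1, Category.assoc]
    have E2 : ((yon _).map (spMap g') ≫ kX) ≫ b.hom ≫ xZ.hom = m ≫ c.hom ≫ mZ₂.hom ≫ xZ.hom := by
      rw [← hm2, Category.assoc, ← Category.assoc mY₂.hom, e2, Category.assoc]
    calc (yon _).map (spMap g) ≫ zU = ((yon _).map (spMap g) ≫ kU) ≫ a.hom ≫ uZ.hom := (Category.assoc _ _ _).symm
      _ = ((yon _).map (spMap g') ≫ kX) ≫ b.hom ≫ xZ.hom := by rw [E1, E2, hZU'.w]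
      _ = (yon _).map (spMap g') ≫ zX := Category.assoc _ _ _
  -- reduction of goodness
  have key : ∀ {B : Type u} [CommRing B] [Algebra R B] (β : A →ₐ[R] B)
      (z : (yon (Spec (CommRingCat.of R))).obj (sp R B) ⟶ Z.obj), Good zU zX β z →
      GoodAt uY uZ xY xZ a b ((yon _).map (spMap β) ≫ y) z := by
    intro B _ _ β z hG
    constructor
    · intro T w k hk
      refine hom_ext_affine fun X _ _ i _ => ?_
      obtain ⟨g, hg⟩ := exists_spMap (i ≫ w)
      let k' := (yon _).map i ≫ k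
      have hk' : k' ≫ uY.hom = (yon _).map (spMap (g.comp β)) ≫ y := by
        rw [Category.assoc, hk, ← Category.assoc, ← Functor.map_comp, hg, ← Category.assoc, ← Functor.map_comp,
          spMap_comp]
      obtain ⟨s, hs⟩ := (yon _).map_surjective (k' ≫ sY)
      obtain ⟨s, rfl⟩ := exists_spMap s
      have hu : IsUnit (algebraMap R X f) := by
        have h1 := (IsLocalization.Away.algebraMap_isUnit (S := Localization.Away f) f).map s
        rwa [AlgHom.commutes] at h1
      obtain ⟨g₁, hg₁⟩ := exists_extend (f := f) (g.comp β) hu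
      have h2 := hG.onU X g g₁ hg₁.symm
      have h3 : (yon _).map (spMap g₁) ≫ kU = k' := by
        apply hYU.hom_ext
        · rw [Category.assoc, hkU1, ← Category.assoc, ← Functor.map_comp, spMap_comp, hg₁, hk']
        · obtain ⟨s', hs'⟩ := (yon _).map_surjective (((yon _).map (spMap g₁) ≫ kU) ≫ sY)
          obtain ⟨s', rfl⟩ := exists_spMap s'
          rw [← hs, ← hs', unit_hom_ext s s']
      rw [← Category.assoc, ← Functor.map_comp, hg, h2]
      change (yon _).map (spMap g₁) ≫ kU ≫ a.hom ≫ uZ.hom = _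
      rw [← Category.assoc, h3, Category.assoc]
    · intro T w k hk
      refine hom_ext_affine fun X _ _ i _ => ?_
      obtain ⟨g, hg⟩ := exists_spMap (i ≫ w)
      let k' := (yon _).map i ≫ k
      have hk' : k' ≫ xY.hom = (yon _).map (spMap (g.comp β)) ≫ y := by
        rw [Category.assoc, hk, ← Category.assoc, ← Functor.map_comp, hg, ← Category.assoc, ← Functor.map_comp,
          spMap_comp]
      obtain ⟨s, hs⟩ := (yon _).map_surjective (k' ≫ rY)
      obtain ⟨ρ, rfl⟩ := exists_spMap s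
      let g' : R' ⊗[R] A →ₐ[R] X := Algebra.TensorProduct.lift ρ (g.comp β) (fun _ _ => Commute.all _ _)
      have hg'1 : g'.comp (Algebra.TensorProduct.includeLeft : R' →ₐ[R] R' ⊗[R] A) = ρ :=
        Algebra.TensorProduct.lift_comp_includeLeft _ _ _
      have hg'2 : g'.comp (Algebra.TensorProduct.includeRight : A →ₐ[R] R' ⊗[R] A) = g.comp β := by
        ext a
        change Algebra.TensorProduct.lift ρ (g.comp β) (fun _ _ => Commute.all _ _) ((1 : R') ⊗ₜ[R] a) = _
        rw [Algebra.TensorProduct.lift_tmul, map_one, one_mul]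
      have h2 := hG.onX X g g' hg'2.symm
      have h3 : (yon _).map (spMap g') ≫ kX = k' := by
        apply hYX.hom_ext
        · rw [Category.assoc, hkX1, ← Category.assoc, ← Functor.map_comp, spMap_comp, hg'2, hk']
        · rw [Category.assoc, hkX2, ← Functor.map_comp, spMap_comp, hg'1, hs]
      rw [← Category.assoc, ← Functor.map_comp, hg, h2]
      change (yon _).map (spMap g') ≫ kX ≫ b.hom ≫ xZ.hom = _
      rw [← Category.assoc, h3, Category.assoc]
  have fin : ∀ {C : Type u} [CommRing C] [Algebra R C]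
      (p : (yon (Spec (CommRingCat.of R))).obj (sp R C) ⟶ Z.obj) (hp : RepWith @Etale p),
      ((∃ (t₁ : ↥(sp R (Localization.Away (algebraMap R A f))).left) (v : ↥(sp R C).left),
        Points.ofPt p v = Points.ofPt zU t₁ ∧ (spMap (toLoc A f)).left t₁ = t) ∨
      (∃ (t' : ↥(sp R (R' ⊗[R] A)).left) (v : ↥(sp R C).left),
        Points.ofPt p v = Points.ofPt zX t' ∧
        (spMap (Algebra.TensorProduct.includeRight : A →ₐ[R] R' ⊗[R] A)).left t' = t)) →
      ∃ (B : Type u) (_ : CommRing B) (_ : Algebra R B)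
      (y' : (yon (Spec (CommRingCat.of R))).obj (sp R B) ⟶ Y.obj)
      (z : (yon (Spec (CommRingCat.of R))).obj (sp R B) ⟶ Z.obj) (t' : ↥(sp R B).left),
      RepWith @Etale y' ∧ GoodAt uY uZ xY xZ a b y' z ∧ Points.ofPt y' t' = Points.ofPt y t := by
    intro C _ _ p hp h
    obtain ⟨B, _, _, hB, β, z, hβ, hG, h1, h2⟩ := exists_local hRR' hA hZd p hp zU zX hz
    have ht : t ∈ Set.range (spMap β).left := by
      rcases h with ⟨t₁, v, hv, rfl⟩ | ⟨t', v, hv, rfl⟩
      · exact h1 t₁ v hv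
      · exact h2 t' v hv
    obtain ⟨s, hs⟩ := ht
    refine ⟨B, inferInstance, inferInstance, (yon _).map (spMap β) ≫ y, z, s, ?_, key β z hG, ?_⟩
    · exact (RepWith (S := Spec (CommRingCat.of R)) @Etale).comp_mem _ _ ((repWith_yon_map_iff _ _).2 hβ) hy
    · rw [K642.EtCov.ofPt_yon_map, hs]
  by_cases hft : algebraMap R A f ∈ (show PrimeSpectrum A from t).asIdeal
  · obtain ⟨t', ht'⟩ := K641.GlueLocal.exists_point hRR'.1 (show PrimeSpectrum A from t) hft
    obtain ⟨C, _, _, p, v, hp, hv⟩ := exists_alg_chart Z.property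
      (Points.ofPt zX (show ↥(sp R (R' ⊗[R] A)).left from t'))
    exact fin p hp (Or.inr ⟨t', v, hv, ht'⟩)
  · have h1 : (show PrimeSpectrum A from t) ∈ Set.range (PrimeSpectrum.comap
        (algebraMap A (Localization.Away (algebraMap R A f)))) := by
      rw [PrimeSpectrum.localization_away_comap_range _ (algebraMap R A f)]
      exact hft
    obtain ⟨t', ht'⟩ := h1
    obtain ⟨C, _, _, p, v, hp, hv⟩ := exists_alg_chart Z.property
      (Points.ofPt zU (show ↥(sp R (Localization.Away (algebraMap R A f))).left from t'))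
    exact fin p hp (Or.inl ⟨t', v, hv, ht'⟩)

/-- index type of good charts -/
structure Idx (uY : YU ⟶ Y) (uZ : ZU ⟶ Z) (xY : YX ⟶ Y) (xZ : ZX ⟶ Z) (a : YU ⟶ ZU) (b : YX ⟶ ZX) where
  B : Type u
  inst : CommRing B
  alg : Algebra R B
  y : (yon (Spec (CommRingCat.of R))).obj (sp R B) ⟶ Y.obj
  z : (yon (Spec (CommRingCat.of R))).obj (sp R B) ⟶ Z.obj
  et : RepWith @Etale y
  good : GoodAt uY uZ xY xZ a b y z

attribute [instance] Idx.inst Idx.alg

/-- Existence of the glued morphism. -/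
theorem exists_glued (hRR' : EtGlue.IsGlueingPair R R' f)
    (hY : ∀ (A : Type u) [CommRing A] [Algebra R A]
      (g : (yon (Spec (CommRingCat.of R))).obj (sp R A) ⟶ Y.obj), RepWith @Etale g → EtGlue.IsGlueable R R' f A)
    (hZd : IsAffineMor (Limits.diag Z.obj)) (πY : Y.obj ⟶ (yon (Spec (CommRingCat.of R))).obj (Over.mk (𝟙 _)))
    (inU : sp R (Localization.Away f) ⟶ Over.mk (𝟙 _)) (inX : sp R R' ⟶ Over.mk (𝟙 _))
    (hYU : IsPullback uY.hom sY πY ((yon (Spec (CommRingCat.of R))).map inU))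
    (hYX : IsPullback xY.hom rY πY ((yon (Spec (CommRingCat.of R))).map inX))
    (hYU' : IsPullback mY₁.hom mY₂.hom uY.hom xY.hom) (a : YU ⟶ ZU) (b : YX ⟶ ZX) (c : YU' ⟶ ZU')
    (hc₁ : c ≫ mZ₁ = mY₁ ≫ a) (hc₂ : c ≫ mZ₂ = mY₂ ≫ b) (hZU' : IsPullback mZ₁.hom mZ₂.hom uZ.hom xZ.hom) :
    ∃ φ : Y.obj ⟶ Z.obj, uY.hom ≫ φ = a.hom ≫ uZ.hom ∧ xY.hom ≫ φ = b.hom ≫ xZ.hom := by
  let ι := Idx uY uZ xY xZ a b
  have hjls : K642.Glue.JLS (J := AlgSp.J (Spec (CommRingCat.of R)))
      (fun i : ι => (yon (Spec (CommRingCat.of R))).obj (sp R i.B)) (fun i => i.y) := by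
    refine K642.EtCov.jls_of_repWith_etale (fun i : ι => i.y) (fun i => i.et) fun x => ?_
    obtain ⟨B, _, _, y, z, t, hy, hg, ht⟩ := exists_good hRR' hY hZd hYU hYX hYU' hc₁ hc₂ hZU' x
    exact ⟨⟨B, _, _, y, z, hy, hg⟩, t, ht⟩
  choose P snd fst sq using fun i j : ι => i.et.rep j.y
  obtain ⟨φ, hφ, -⟩ := hjls.exists_hom_of_isPullback (fun i : ι => i.z) (fun i j => (yon _).obj (P i j))
    (fun i j => fst i j) (fun i j => (yon _).map (snd i j)) (fun i j => sq i j) (fun i j => by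
      obtain ⟨fst', hfst'⟩ := (yon _).map_surjective (fst i j)
      have hsq := sq i j
      rw [← hfst'] at hsq ⊢
      have het : RepWith @Etale ((yon _).map (snd i j) ≫ j.y) := by
        have h1 : Etale (snd i j).left := i.et.property _ _ _ hsq
        exact (RepWith (S := Spec (CommRingCat.of R)) @Etale).comp_mem _ _ ((repWith_yon_map_iff _ _).2 h1) j.et
      refine hom_ext_affine fun X _ _ g hg => ?_
      have hetX : RepWith @Etale ((yon _).map g ≫ (yon _).map (snd i j) ≫ j.y) :=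
        (RepWith (S := Spec (CommRingCat.of R)) @Etale).comp_mem _ _ ((repWith_yon_map_iff _ _).2 inferInstance) het
      have hX := hY X _ hetX
      refine K641.GlueUniq.eq_of_glueable hRR' hX Z _ _ ?_ ?_
      · rintro T t ⟨s⟩
        have w : ((yon _).map (t ≫ g ≫ fst') ≫ i.y) ≫ πY = (yon _).map s ≫ (yon _).map inX := hom_terminal _ _
        have h1 := i.good.2 T (t ≫ g ≫ fst') (hYX.lift _ _ w) (hYX.lift_fst _ _ w)
        have h2 := j.good.2 T (t ≫ g ≫ snd i j) (hYX.lift _ _ w) (by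
          rw [hYX.lift_fst]
          simp only [Functor.map_comp, Category.assoc]
          rw [hsq.w])
        have h3 := h1.trans h2.symm
        simp only [Functor.map_comp, Category.assoc] at h3 ⊢
        exact h3
      · rintro T t ⟨s⟩
        have w : ((yon _).map (t ≫ g ≫ fst') ≫ i.y) ≫ πY = (yon _).map s ≫ (yon _).map inU := hom_terminal _ _
        have h1 := i.good.1 T (t ≫ g ≫ fst') (hYU.lift _ _ w) (hYU.lift_fst _ _ w)
        have h2 := j.good.1 T (t ≫ g ≫ snd i j) (hYU.lift _ _ w) (by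
          rw [hYU.lift_fst]
          simp only [Functor.map_comp, Category.assoc]
          rw [hsq.w])
        have h3 := h1.trans h2.symm
        simp only [Functor.map_comp, Category.assoc] at h3 ⊢
        exact h3)
  refine ⟨φ, ?_, ?_⟩
  · have hj := hjls.baseChange uY.hom (fun i => pullback.fst i.y uY.hom) (fun i => pullback.snd i.y uY.hom)
      (fun i => IsPullback.of_hasPullback i.y uY.hom)
    refine hj.hom_ext fun i => K635.Glue.hom_ext_yon fun T t => ?_
    obtain ⟨w, hw⟩ := (yon _).map_surjective (t ≫ pullback.fst i.y uY.hom)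
    have h1 : (t ≫ pullback.snd i.y uY.hom) ≫ uY.hom = (yon _).map w ≫ i.y := by
      rw [hw, Category.assoc, Category.assoc, pullback.condition]
    have h2 := i.good.1 T w _ h1
    rw [← Category.assoc, ← Category.assoc, h1, Category.assoc, hφ, h2, Category.assoc]
  · have hj := hjls.baseChange xY.hom (fun i => pullback.fst i.y xY.hom) (fun i => pullback.snd i.y xY.hom)
      (fun i => IsPullback.of_hasPullback i.y xY.hom)
    refine hj.hom_ext fun i => K635.Glue.hom_ext_yon fun T t => ?_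
    obtain ⟨w, hw⟩ := (yon _).map_surjective (t ≫ pullback.fst i.y xY.hom)
    have h1 : (t ≫ pullback.snd i.y xY.hom) ≫ xY.hom = (yon _).map w ≫ i.y := by
      rw [hw, Category.assoc, Category.assoc, pullback.condition]
    have h2 := i.good.2 T w _ h1
    rw [← Category.assoc, ← Category.assoc, h1, Category.assoc, hφ, h2, Category.assoc]

end

end K616.BLChart
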