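import Groth.Agent.AlgSp.K616.SpMap
import Groth.Agent.AlgSp.K616.BLAlg

/-!
# Beauville-Laszlo glueing: identification of the two restrictions of an affine étale chart

Given a glueable algebra `A`, a sheaf `Z`, maps `zU : Spec A_f ⟶ Z`, `zX : Spec (R' ⊗ A) ⟶ Z` which agree over
`Spec (R' ⊗ A)_f`, and a map `p : Spec C ⟶ Z` with cartesian squares `Spec B₁ = Spec C ×_Z Spec A_f`,
`Spec B' = Spec C ×_Z Spec (R' ⊗ A)`, we get `B'_f ≅ R' ⊗ B₁`.
-/

set_option autoImplicit false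
universe u

open CategoryTheory CategoryTheory.Limits AlgebraicGeometry TensorProduct

namespace K616.BLLoc

open AlgSp K641.SpecAlg K616.SpMap

variable {R R' : Type u} [CommRing R] [CommRing R'] [Algebra R R'] {f : R}

/-- `A → A_f` -/
noncomputable abbrev toLoc (A : Type u) [CommRing A] [Algebra R A] (f : R) :
    A →ₐ[R] Localization.Away (algebraMap R A f) :=
  IsScalarTower.toAlgHom R A (Localization.Away (algebraMap R A f))

/-- extending an algebra map to `A_f` -/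
theorem exists_extend {A X : Type u} [CommRing A] [CommRing X] [Algebra R A] [Algebra R X] (g : A →ₐ[R] X)
    (hf : IsUnit (algebraMap R X f)) :
    ∃ g' : Localization.Away (algebraMap R A f) →ₐ[R] X, g'.comp (toLoc A f) = g := by
  have hu : ∀ y : Submonoid.powers (algebraMap R A f), IsUnit (g y) := by
    rintro ⟨_, n, rfl⟩
    rw [map_pow]
    refine IsUnit.pow n ?_
    rw [AlgHom.commutes]
    exact hf
  refine ⟨IsLocalization.liftAlgHom (M := Submonoid.powers (algebraMap R A f)) (f := g) hu, ?_⟩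
  ext a
  exact IsLocalization.lift_eq _ _

theorem loc_ext {A X : Type u} [CommRing A] [CommRing X] [Algebra R A] [Algebra R X]
    {g g' : Localization.Away (algebraMap R A f) →ₐ[R] X} (h : g.comp (toLoc A f) = g'.comp (toLoc A f)) :
    g = g' := by
  have h1 : g.toRingHom = g'.toRingHom :=
    IsLocalization.ringHom_ext (Submonoid.powers (algebraMap R A f)) (RingHom.ext fun a =>
      DFunLike.congr_fun h a)
  exact AlgHom.ext fun a => RingHom.congr_fun h1 a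

theorem isUnit_of_loc {A X : Type u} [CommRing A] [CommRing X] [Algebra R A] [Algebra R X]
    (g : Localization.Away (algebraMap R A f) →ₐ[R] X) : IsUnit (algebraMap R X f) := by
  have h1 : IsUnit (algebraMap R (Localization.Away (algebraMap R A f)) f) := by
    rw [IsScalarTower.algebraMap_apply R A (Localization.Away (algebraMap R A f))]
    exact IsLocalization.Away.algebraMap_isUnit _
  have h2 := h1.map g
  rwa [AlgHom.commutes] at h2

/-- agreement of the two maps over `Spec (R' ⊗ A)_f` -/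
def Agree (R' : Type u) [CommRing R'] [Algebra R R'] (f : R) (A : Type u) [CommRing A] [Algebra R A]
    {Z : Sp (Spec (CommRingCat.of R))}
    (zU : (yon (Spec (CommRingCat.of R))).obj (sp R (Localization.Away (algebraMap R A f))) ⟶ Z)
    (zX : (yon (Spec (CommRingCat.of R))).obj (sp R (R' ⊗[R] A)) ⟶ Z) : Prop :=
  ∀ (X : Type u) [CommRing X] [Algebra R X] (g : Localization.Away (algebraMap R A f) →ₐ[R] X)
    (g' : R' ⊗[R] A →ₐ[R] X), g.comp (toLoc A f) = g'.comp Algebra.TensorProduct.includeRight →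
    (yon _).map (spMap g) ≫ zU = (yon _).map (spMap g') ≫ zX

section

variable {A : Type u} [CommRing A] [Algebra R A] {Z : Sp (Spec (CommRingCat.of R))}
  {zU : (yon (Spec (CommRingCat.of R))).obj (sp R (Localization.Away (algebraMap R A f))) ⟶ Z}
  {zX : (yon (Spec (CommRingCat.of R))).obj (sp R (R' ⊗[R] A)) ⟶ Z}
  {C B₁ B' : Type u} [CommRing C] [CommRing B₁] [CommRing B'] [Algebra R C] [Algebra R B₁] [Algebra R B']
  {p : (yon (Spec (CommRingCat.of R))).obj (sp R C) ⟶ Z}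
  {γ₁ : C →ₐ[R] B₁} {β₁ : Localization.Away (algebraMap R A f) →ₐ[R] B₁}
  {γ' : C →ₐ[R] B'} {β' : R' ⊗[R] A →ₐ[R] B'}

/-- the comparison isomorphism -/
theorem exists_iso (hz : Agree R' f A zU zX)
    (sqU : IsPullback ((yon _).map (spMap γ₁)) ((yon _).map (spMap β₁)) p zU)
    (sqX : IsPullback ((yon _).map (spMap γ')) ((yon _).map (spMap β')) p zX)
    [Algebra R' B'] [IsScalarTower R R' B']
    (halg : ∀ r : R', algebraMap R' B' r = β' (r ⊗ₜ[R] (1 : A))) :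
    ∃ φ : Localization.Away (algebraMap R B' f) ≃ₐ[R'] R' ⊗[R] B₁,
      (∀ c : C, φ (algebraMap B' _ (γ' c)) = (1 : R') ⊗ₜ[R] γ₁ c) ∧
      (∀ a : A, φ (algebraMap B' _ (β' ((1 : R') ⊗ₜ[R] a))) = (1 : R') ⊗ₜ[R] β₁ (toLoc A f a)) := by
  let L := Localization.Away (algebraMap R B' f)
  let ι : B' →ₐ[R] L := toLoc B' f
  let inR : B₁ →ₐ[R] R' ⊗[R] B₁ := Algebra.TensorProduct.includeRight
  let μ : R' ⊗[R] A →ₐ[R] R' ⊗[R] B₁ :=
    Algebra.TensorProduct.map (AlgHom.id R R') (β₁.comp (toLoc A f))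
  have hfB : IsUnit (algebraMap R B₁ f) := isUnit_of_loc β₁
  have hfT : IsUnit (algebraMap R (R' ⊗[R] B₁) f) := by
    have := hfB.map inR
    rwa [AlgHom.commutes] at this
  have hfL : IsUnit (algebraMap R L f) := isUnit_of_loc (AlgHom.id R L)
  -- forward
  obtain ⟨θ, hθ1, hθ2⟩ : ∃ θ : B' →ₐ[R] R' ⊗[R] B₁, θ.comp γ' = inR.comp γ₁ ∧ θ.comp β' = μ := by
    refine exists_desc sqX _ _ ?_
    rw [← spMap_comp, Functor.map_comp, Category.assoc, sqU.w, ← Category.assoc, ← Functor.map_comp, spMap_comp]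
    refine hz _ _ _ ?_
    ext a
    simp only [AlgHom.comp_apply, μ, inR, Algebra.TensorProduct.includeRight_apply,
      Algebra.TensorProduct.map_tmul, map_one]
  obtain ⟨φ₀, hφ₀⟩ := exists_extend (f := f) θ hfT
  -- backward
  obtain ⟨δ, hδ⟩ := exists_extend (f := f) (A := A) (X := L)
    ((ι.comp β').comp Algebra.TensorProduct.includeRight) hfL
  obtain ⟨σ, hσ1, hσ2⟩ : ∃ σ : B₁ →ₐ[R] L, σ.comp γ₁ = ι.comp γ' ∧ σ.comp β₁ = δ := by
    refine exists_desc sqU _ _ ?_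
    rw [← spMap_comp, Functor.map_comp, Category.assoc, sqX.w, ← Category.assoc, ← Functor.map_comp, spMap_comp]
    exact (hz _ _ _ hδ).symm
  let ψ₀ : R' ⊗[R] B₁ →ₐ[R'] L :=
    Algebra.TensorProduct.lift (Algebra.ofId R' L) σ (fun _ _ => Commute.all _ _)
  have hψ₀ : ∀ (r : R') (b : B₁), ψ₀ (r ⊗ₜ[R] b) = algebraMap R' L r * σ b := fun r b => by
    rw [Algebra.TensorProduct.lift_tmul]
    rfl
  have hψin : (ψ₀.restrictScalars R).comp inR = σ := by
    ext b
    change ψ₀ ((1 : R') ⊗ₜ[R] b) = σ b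
    rw [hψ₀, map_one, one_mul]
  have hιalg : ∀ r : R', algebraMap R' L r = ι (β' (r ⊗ₜ[R] (1 : A))) := fun r => by
    rw [← halg]
    exact IsScalarTower.algebraMap_apply R' B' L r
  have hφR : ∀ r : R', φ₀ (algebraMap R' L r) = algebraMap R' (R' ⊗[R] B₁) r := fun r => by
    rw [hιalg]
    have h1 : φ₀ (ι (β' (r ⊗ₜ[R] (1 : A)))) = θ (β' (r ⊗ₜ[R] (1 : A))) := DFunLike.congr_fun hφ₀ _
    have h2 : θ (β' (r ⊗ₜ[R] (1 : A))) = μ (r ⊗ₜ[R] (1 : A)) := DFunLike.congr_fun hθ2 _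
    rw [h1, h2, Algebra.TensorProduct.map_tmul, map_one]
    rfl
  -- `φ₀ ∘ σ` is the inclusion
  have hφσ : φ₀.comp σ = inR := by
    refine alg_ext sqU _ _ ?_ ?_
    · rw [AlgHom.comp_assoc, hσ1, ← AlgHom.comp_assoc, hφ₀, hθ1]
    · rw [AlgHom.comp_assoc, hσ2]
      refine loc_ext ?_
      rw [AlgHom.comp_assoc, hδ, AlgHom.comp_assoc, ← AlgHom.comp_assoc, ← AlgHom.comp_assoc, hφ₀, hθ2]
      ext a
      simp only [AlgHom.comp_apply, μ, inR, Algebra.TensorProduct.includeRight_apply,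
        Algebra.TensorProduct.map_tmul, map_one]
  have hψθ : (ψ₀.restrictScalars R).comp θ = ι := by
    refine alg_ext sqX _ _ ?_ ?_
    · rw [AlgHom.comp_assoc, hθ1, ← AlgHom.comp_assoc, hψin, hσ1]
    · rw [AlgHom.comp_assoc, hθ2]
      refine Algebra.TensorProduct.ext' fun r a => ?_
      change ψ₀ (μ (r ⊗ₜ[R] a)) = ι (β' (r ⊗ₜ[R] a))
      have h3 : σ (β₁ (toLoc A f a)) = ι (β' ((1 : R') ⊗ₜ[R] a)) := by
        have e1 : σ (β₁ (toLoc A f a)) = δ (toLoc A f a) := DFunLike.congr_fun hσ2 _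
        have e2 : δ (toLoc A f a) = ι (β' ((1 : R') ⊗ₜ[R] a)) := DFunLike.congr_fun hδ _
        rw [e1, e2]
      rw [Algebra.TensorProduct.map_tmul, hψ₀, hιalg]
      change ι (β' (r ⊗ₜ[R] (1 : A))) * σ (β₁ (toLoc A f a)) = _
      rw [h3, ← map_mul, ← map_mul, Algebra.TensorProduct.tmul_mul_tmul, mul_one, one_mul]
  let Φ : L →ₐ[R'] R' ⊗[R] B₁ := { φ₀.toRingHom with commutes' := hφR }
  have hΦ : ∀ x, Φ x = φ₀ x := fun x => rfl
  have e1 : Φ.comp ψ₀ = AlgHom.id R' _ := by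
    refine Algebra.TensorProduct.ext (AlgHom.ext fun r => ?_) (AlgHom.ext fun b => ?_)
    · change Φ (ψ₀ (r ⊗ₜ[R] (1 : B₁))) = r ⊗ₜ[R] (1 : B₁)
      rw [hψ₀, map_one, mul_one, AlgHom.commutes]
      rfl
    · change Φ (ψ₀ ((1 : R') ⊗ₜ[R] b)) = (1 : R') ⊗ₜ[R] b
      rw [hψ₀, map_one, one_mul]
      exact DFunLike.congr_fun hφσ b
  have e2 : ψ₀.comp Φ = AlgHom.id R' _ := by
    have h4 : (ψ₀.restrictScalars R).comp φ₀ = AlgHom.id R L := by
      refine loc_ext ?_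
      rw [AlgHom.comp_assoc, hφ₀, hψθ]
      rfl
    exact AlgHom.ext fun x => DFunLike.congr_fun h4 x
  refine ⟨AlgEquiv.ofAlgHom Φ ψ₀ e1 e2, fun c => ?_, fun a => ?_⟩
  · change φ₀ (ι (γ' c)) = inR (γ₁ c)
    have h5 : φ₀ (ι (γ' c)) = θ (γ' c) := DFunLike.congr_fun hφ₀ _
    rw [h5]
    exact DFunLike.congr_fun hθ1 c
  · change φ₀ (ι (β' ((1 : R') ⊗ₜ[R] a))) = _
    have h5 : φ₀ (ι (β' ((1 : R') ⊗ₜ[R] a))) = θ (β' ((1 : R') ⊗ₜ[R] a)) := DFunLike.congr_fun hφ₀ _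
    have h6 : θ (β' ((1 : R') ⊗ₜ[R] a)) = μ ((1 : R') ⊗ₜ[R] a) := DFunLike.congr_fun hθ2 _
    rw [h5, h6, Algebra.TensorProduct.map_tmul, map_one]
    rfl

end

end K616.BLLoc
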