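import Groth.Agent.AlgSp.K616.BLLoc
import Groth.Agent.AlgSp.K642.EtCov

/-!
# Beauville-Laszlo glueing: local existence of morphisms
-/

set_option autoImplicit false
universe u

open CategoryTheory CategoryTheory.Limits AlgebraicGeometry TensorProduct

namespace K616.BLLoc

open AlgSp K641.SpecAlg K616.SpMap

variable {R R' : Type u} [CommRing R] [CommRing R'] [Algebra R R'] {f : R}

/-- `z` is the glued map over the étale `A`-algebra `B` -/
structure Good {A : Type u} [CommRing A] [Algebra R A] {Z : Sp (Spec (CommRingCat.of R))}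
    (zU : (yon (Spec (CommRingCat.of R))).obj (sp R (Localization.Away (algebraMap R A f))) ⟶ Z)
    (zX : (yon (Spec (CommRingCat.of R))).obj (sp R (R' ⊗[R] A)) ⟶ Z)
    {B : Type u} [CommRing B] [Algebra R B] (β : A →ₐ[R] B)
    (z : (yon (Spec (CommRingCat.of R))).obj (sp R B) ⟶ Z) : Prop where
  onU : ∀ (X : Type u) [CommRing X] [Algebra R X] (g : B →ₐ[R] X)
    (g₁ : Localization.Away (algebraMap R A f) →ₐ[R] X), g.comp β = g₁.comp (toLoc A f) →
    (yon _).map (spMap g) ≫ z = (yon _).map (spMap g₁) ≫ zU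
  onX : ∀ (X : Type u) [CommRing X] [Algebra R X] (g : B →ₐ[R] X)
    (g' : R' ⊗[R] A →ₐ[R] X), g.comp β = g'.comp Algebra.TensorProduct.includeRight →
    (yon _).map (spMap g) ≫ z = (yon _).map (spMap g') ≫ zX

theorem exists_local (hRR' : EtGlue.IsGlueingPair R R' f) {A : Type u} [CommRing A] [Algebra R A]
    (hA : EtGlue.IsGlueable R R' f A) {Z : Sp (Spec (CommRingCat.of R))} (hZ : IsAffineMor (Limits.diag Z))
    {C : Type u} [CommRing C] [Algebra R C]
    (p : (yon (Spec (CommRingCat.of R))).obj (sp R C) ⟶ Z) (hp : RepWith @Etale p)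
    (zU : (yon (Spec (CommRingCat.of R))).obj (sp R (Localization.Away (algebraMap R A f))) ⟶ Z)
    (zX : (yon (Spec (CommRingCat.of R))).obj (sp R (R' ⊗[R] A)) ⟶ Z) (hz : Agree R' f A zU zX) :
    ∃ (B : Type u) (_ : CommRing B) (_ : Algebra R B) (_ : EtGlue.IsGlueable R R' f B) (β : A →ₐ[R] B)
      (z : (yon (Spec (CommRingCat.of R))).obj (sp R B) ⟶ Z), Etale (spMap β).left ∧ Good zU zX β z ∧
      (∀ (t : ↥(sp R (Localization.Away (algebraMap R A f))).left) (v : ↥(sp R C).left),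
        Points.ofPt p v = Points.ofPt zU t → (spMap (toLoc A f)).left t ∈ Set.range (spMap β).left) ∧
      (∀ (t : ↥(sp R (R' ⊗[R] A)).left) (v : ↥(sp R C).left), Points.ofPt p v = Points.ofPt zX t →
        (spMap (Algebra.TensorProduct.includeRight : A →ₐ[R] R' ⊗[R] A)).left t ∈ Set.range (spMap β).left) := by
  obtain ⟨B₁, _, _, γ₁, β₁, sqU⟩ := exists_alg_fp hZ p zU
  obtain ⟨B', _, _, γ', β', sqX⟩ := exists_alg_fp hZ p zX
  have hβ₁ : Etale (spMap β₁).left := hp.property _ _ _ sqU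
  have hβ' : Etale (spMap β').left := hp.property _ _ _ sqX
  let _ : Algebra R' B' := (β'.toRingHom.comp (algebraMap R' (R' ⊗[R] A))).toAlgebra
  have halg : ∀ r : R', algebraMap R' B' r = β' (r ⊗ₜ[R] (1 : A)) := fun r => rfl
  have htow : IsScalarTower R R' B' := IsScalarTower.of_algebraMap_eq fun r => by
    rw [halg, ← β'.commutes r]
    rfl
  obtain ⟨φ, hφ1, hφ2⟩ := exists_iso hz sqU sqX halg
  obtain ⟨B, _, _, hB, e₁, e', q₁, q', he₁, he', hlift⟩ :=
    K616.BLAlg.exists_glue hRR' B₁ (isUnit_of_loc β₁) B' φ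
  obtain ⟨c₀, hc1, hc2⟩ := hlift C γ₁ γ' hφ1
  obtain ⟨β, hb1, hb2⟩ := hlift A (β₁.comp (toLoc A f))
    (β'.comp Algebra.TensorProduct.includeRight) hφ2
  refine ⟨B, _, _, hB, β, (yon _).map (spMap c₀) ≫ p, ?_, ⟨?_, ?_⟩, ?_, ?_⟩
  · refine etale_spMap ?_
    refine K616.BLAlg.etale_glue hRR' hA hB β q₁.toRingHom e₁.toRingEquiv he₁ e'.toRingEquiv
      β₁.toRingHom β'.toRingHom (etale_of_spMap hβ₁) (etale_of_spMap hβ') (fun a => ?_) (fun a => ?_) (fun r => ?_)
    · exact (DFunLike.congr_fun hb1 a).symm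
    · exact (DFunLike.congr_fun hb2 a).symm.trans (he' (β a)).symm
    · change β' (r ⊗ₜ[R] (1 : A)) = e' (r ⊗ₜ[R] (1 : B))
      rw [← halg]
      exact (e'.commutes r).symm
  · intro X _ _ g g₁ hg
    -- extend `g` to `B₁`
    obtain ⟨g₀, hg₀⟩ := exists_extend (f := f) g (isUnit_of_loc g₁)
    let g₂ : B₁ →ₐ[R] X := g₀.comp e₁.symm.toAlgHom
    have hg₂ : g₂.comp q₁ = g := by
      ext b
      change g₀ (e₁.symm (q₁ b)) = g b
      rw [← he₁, AlgEquiv.symm_apply_apply]
      exact DFunLike.congr_fun hg₀ b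
    have h1 : g.comp c₀ = g₂.comp γ₁ := by rw [← hg₂, AlgHom.comp_assoc, hc1]
    have h2 : g₂.comp β₁ = g₁ := by
      refine loc_ext ?_
      rw [AlgHom.comp_assoc, ← hb1, ← AlgHom.comp_assoc, hg₂, hg]
    rw [← Category.assoc, ← Functor.map_comp, spMap_comp, h1, ← spMap_comp, Functor.map_comp, Category.assoc,
      sqU.w, ← Category.assoc, ← Functor.map_comp, spMap_comp, h2]
  · intro X _ _ g g' hg
    let _ : Algebra R' X := (g'.toRingHom.comp (algebraMap R' (R' ⊗[R] A))).toAlgebra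
    have halgX : ∀ r : R', algebraMap R' X r = g' (r ⊗ₜ[R] (1 : A)) := fun r => rfl
    have htowX : IsScalarTower R R' X := IsScalarTower.of_algebraMap_eq fun r => by
      rw [halgX, ← g'.commutes r]
      rfl
    let g₀ : R' ⊗[R] B →ₐ[R'] X := Algebra.TensorProduct.lift (Algebra.ofId R' X) g (fun _ _ => Commute.all _ _)
    have hg₀ : ∀ (r : R') (b : B), g₀ (r ⊗ₜ[R] b) = algebraMap R' X r * g b := fun r b => by
      rw [Algebra.TensorProduct.lift_tmul]
      rfl
    let g₂ : B' →ₐ[R] X := (g₀.comp e'.symm.toAlgHom).restrictScalars R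
    have hg₂ : g₂.comp q' = g := by
      ext b
      change g₀ (e'.symm (q' b)) = g b
      rw [← he', AlgEquiv.symm_apply_apply, hg₀, map_one, one_mul]
    have h1 : g.comp c₀ = g₂.comp γ' := by rw [← hg₂, AlgHom.comp_assoc, hc2]
    have h2 : g₂.comp β' = g' := by
      refine Algebra.TensorProduct.ext' fun r a => ?_
      have h3 : β' (r ⊗ₜ[R] a) = algebraMap R' B' r * β' ((1 : R') ⊗ₜ[R] a) := by
        rw [halg, ← map_mul, Algebra.TensorProduct.tmul_mul_tmul, mul_one, one_mul]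
      have h4 : β' ((1 : R') ⊗ₜ[R] a) = q' (β a) := (DFunLike.congr_fun hb2 a).symm
      have h5 : g₂ (q' (β a)) = g' ((1 : R') ⊗ₜ[R] a) := by
        have e1 : g₂ (q' (β a)) = g (β a) := DFunLike.congr_fun hg₂ _
        rw [e1]
        exact DFunLike.congr_fun hg a
      have h6 : g₂ (algebraMap R' B' r) = algebraMap R' X r := (g₀.comp e'.symm.toAlgHom).commutes r
      change g₂ (β' (r ⊗ₜ[R] a)) = g' (r ⊗ₜ[R] a)
      rw [h3, map_mul, h6, h4, h5, halgX, ← map_mul, Algebra.TensorProduct.tmul_mul_tmul, mul_one, one_mul]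
    rw [← Category.assoc, ← Functor.map_comp, spMap_comp, h1, ← spMap_comp, Functor.map_comp, Category.assoc,
      sqX.w, ← Category.assoc, ← Functor.map_comp, spMap_comp, h2]
  · intro t v htv
    obtain ⟨w, hw⟩ := K642.EtCov.mem_range_of_ofPt_eq sqU htv
    refine ⟨(spMap q₁).left w, ?_⟩
    rw [← Scheme.Hom.comp_apply, ← Over.comp_left, spMap_comp, hb1, ← spMap_comp, Over.comp_left,
      Scheme.Hom.comp_apply, hw]
  · intro t v htv
    obtain ⟨w, hw⟩ := K642.EtCov.mem_range_of_ofPt_eq sqX htv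
    refine ⟨(spMap q').left w, ?_⟩
    rw [← Scheme.Hom.comp_apply, ← Over.comp_left, spMap_comp, hb2, ← spMap_comp, Over.comp_left,
      Scheme.Hom.comp_apply, hw]

end K616.BLLoc
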