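import Groth.Agent.AlgSp.K616.BaseChange
import Groth.Agent.AlgSp.K616.DimInv
import Groth.Agent.Sga2lef.H98.Rtd
import Groth.Agent.Ega4fib.H172.FibDimBC

/-!
# Cartesian chart diagrams through a pair of points; fibre local rings under base change

* `exists_cartesian_diagram_of_pts`: for `x : |X|`, `y' : |Y'|` over the same point of `Y`, cartesian chart
  diagrams with points `u`, `v'` over `x`, `y'` and over the same point of `V`.
* `fibreStalkDim_add_of_isPullback`, `fibreStalkDim_le_of_isPullback`, `exists_fibreStalkDim_eq`: dimension of the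
  local ring of the fibre under base change (schemes).
-/

set_option autoImplicit false
universe u v w
open CategoryTheory CategoryTheory.Limits AlgebraicGeometry Opposite

namespace K616.BaseChange2

open AlgSp K616.Refine K616.Inv K616.BaseChange

section Scheme

variable {X Y Y' X' : Scheme.{u}} {f : X ⟶ Y} {g : Y' ⟶ Y} {g' : X' ⟶ X} {f' : X' ⟶ Y'}

theorem fibreStalkDim_add_of_isPullback (sq : IsPullback g' f' f g) [LocallyOfFiniteType f] (x' : X') :
    ringKrullDim ↥((f'.fiber (f' x')).presheaf.stalk (f'.asFiber x')) +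
        ((Cardinal.toENat (Dual3.resTrdeg f' x') : ℕ∞) : WithBot ℕ∞) =
      ringKrullDim ↥((f.fiber (f (g' x'))).presheaf.stalk (f.asFiber (g' x'))) +
        ((Cardinal.toENat (Dual3.resTrdeg f (g' x')) : ℕ∞) : WithBot ℕ∞) := by
  have : LocallyOfFiniteType f' := MorphismProperty.of_isPullback sq inferInstance
  rw [← K616.DimInv.fibreDimAt_eq_add, ← K616.DimInv.fibreDimAt_eq_add,
    Groth.Agent.Ega4fib.H172.FibDimBC.fibreDimAt_of_isPullback sq]

theorem le_of_add_eq_add {a b : WithBot ℕ∞} {m n : ℕ} (h : a + (m : WithBot ℕ∞) = b + (n : WithBot ℕ∞))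
    (hmn : m ≤ n) : b ≤ a := by
  obtain ⟨k, rfl⟩ := Nat.exists_eq_add_of_le hmn
  have h1 : a + (m : WithBot ℕ∞) = (b + (k : WithBot ℕ∞)) + (m : WithBot ℕ∞) := by
    rw [h]; push_cast; rw [add_assoc, add_comm (k : WithBot ℕ∞)]
  rw [K616.DimInv.add_natCast_cancel m h1]
  exact le_add_of_nonneg_right (by exact_mod_cast zero_le)

theorem fibreStalkDim_le_of_isPullback (sq : IsPullback g' f' f g) [LocallyOfFiniteType f] (x' : X') :
    ringKrullDim ↥((f.fiber (f (g' x'))).presheaf.stalk (f.asFiber (g' x'))) ≤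
      ringKrullDim ↥((f'.fiber (f' x')).presheaf.stalk (f'.asFiber x')) := by
  have : LocallyOfFiniteType f' := MorphismProperty.of_isPullback sq inferInstance
  have h1 := fibreStalkDim_add_of_isPullback sq x'
  have h2 : Dual3.resTrdeg f' x' ≤ Dual3.resTrdeg f (g' x') := Groth.Agent.Sga2lef.H98.Rtd.rtd_snd_le sq x'
  obtain ⟨m, hm⟩ := Cardinal.lt_aleph0.1 (Groth.Agent.CycB.RelDim.rtd_lt_aleph0 f' x')
  obtain ⟨n, hn⟩ := Cardinal.lt_aleph0.1 (Groth.Agent.CycB.RelDim.rtd_lt_aleph0 f (g' x'))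
  rw [K616.DimInv.resTrdeg_eq, K616.DimInv.resTrdeg_eq, hm, hn] at h2
  rw [K616.DimInv.resTrdeg_eq, K616.DimInv.resTrdeg_eq, hm, hn, map_natCast, map_natCast] at h1
  exact le_of_add_eq_add (m := m) (n := n) h1 (by exact_mod_cast h2)

theorem exists_fibreStalkDim_eq (sq : IsPullback g' f' f g) [LocallyOfFiniteType f] (x : X) (y' : Y')
    (h : f x = g y') : ∃ x' : X', g' x' = x ∧ f' x' = y' ∧
      ringKrullDim ↥((f'.fiber (f' x')).presheaf.stalk (f'.asFiber x')) =
        ringKrullDim ↥((f.fiber (f (g' x'))).presheaf.stalk (f.asFiber (g' x'))) := by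
  have : LocallyOfFiniteType f' := MorphismProperty.of_isPullback sq inferInstance
  obtain ⟨x', rfl, h2, h3⟩ := Groth.Agent.Sga2lef.H98.Rtd.exists_lift sq x y' h
  refine ⟨x', rfl, h2, le_antisymm ?_ (fibreStalkDim_le_of_isPullback sq x')⟩
  have h1 := fibreStalkDim_add_of_isPullback sq x'
  obtain ⟨m, hm⟩ := Cardinal.lt_aleph0.1 (Groth.Agent.CycB.RelDim.rtd_lt_aleph0 f' x')
  obtain ⟨n, hn⟩ := Cardinal.lt_aleph0.1 (Groth.Agent.CycB.RelDim.rtd_lt_aleph0 f (g' x'))
  rw [hm, hn] at h3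
  rw [K616.DimInv.resTrdeg_eq, K616.DimInv.resTrdeg_eq, hm, hn, map_natCast, map_natCast] at h1
  exact le_of_add_eq_add (m := n) (n := m) h1.symm (by exact_mod_cast h3)

end Scheme

variable {S : Scheme.{u}}

/-- Cartesian chart diagrams through a pair of points over the same point of `Y`. -/
theorem exists_cartesian_diagram_of_pts {X Y Y' X' : Sp S} (hX : IsAlgSpace X) (hY : IsAlgSpace Y)
    (hY' : IsAlgSpace Y') {f : X ⟶ Y} {g : Y' ⟶ Y} {g' : X' ⟶ X} {f' : X' ⟶ Y'}
    (sq : IsPullback g' f' f g) (x : Points X) (y' : Points Y') (hxy : Points.map f x = Points.map g y') :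
    ∃ (U V U' V' : Over S) (h : U ⟶ V) (k : V' ⟶ V) (p : U' ⟶ U) (q : U' ⟶ V')
      (a : (yon S).obj U ⟶ X) (b : (yon S).obj V ⟶ Y) (a' : (yon S).obj U' ⟶ X') (b' : (yon S).obj V' ⟶ Y')
      (u : ↥U.left) (v' : ↥V'.left), IsPullback p q h k ∧ RepWith @Etale a ∧ RepWith @Etale b ∧ RepWith @Etale a' ∧
      RepWith @Etale b' ∧ a ≫ f = (yon S).map h ≫ b ∧ b' ≫ g = (yon S).map k ≫ b ∧
      a' ≫ g' = (yon S).map p ≫ a ∧ a' ≫ f' = (yon S).map q ≫ b' ∧ Points.ofPt a u = x ∧
      Points.ofPt b' v' = y' ∧ h.left u = k.left v' := by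
  obtain ⟨V, b, v, hb, hv⟩ := exists_chart hY (Points.map f x)
  obtain ⟨U, a, h, u, ha, w, hu, hhu⟩ := exists_diagram_over hX f b hb x v hv
  obtain ⟨V', b', k, v', hb', w', hv', hkv'⟩ := exists_diagram_over hY' g b hb y' v (by rw [hv, hxy])
  have sq' : IsPullback (pullback.fst h k) (pullback.snd h k) h k := IsPullback.of_hasPullback h k
  have hc : ((yon S).map (pullback.fst h k) ≫ a) ≫ f = ((yon S).map (pullback.snd h k) ≫ b') ≫ g := by
    rw [Category.assoc, Category.assoc, w, w', ← Category.assoc, ← Category.assoc, ← Functor.map_comp,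
      ← Functor.map_comp, sq'.w]
  let a' : (yon S).obj (pullback h k) ⟶ X' := sq.lift _ _ hc
  have h1 : a' ≫ g' = (yon S).map (pullback.fst h k) ≫ a := sq.lift_fst _ _ _
  have h2 : a' ≫ f' = (yon S).map (pullback.snd h k) ≫ b' := sq.lift_snd _ _ _
  have ha' : RepWith @Etale a' := etale_chart_pullback sq sq' w w' ha hb hb' a' h1 h2
  exact ⟨U, V, pullback h k, V', h, k, _, _, a, b, a', b', u, v', sq', ha, hb, ha', hb', w, w', h1, h2, hu, hv',
    hhu.trans hkv'.symm⟩

end K616.BaseChange2
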