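import Groth.Agent.Ega43.OpenUniv
import Groth.Prelude.Def_Dual3
import Mathlib.SetTheory.Cardinal.ToNat

/-!
# The dimension inequality at a generic point
-/

set_option autoImplicit false
universe u
open CategoryTheory CategoryTheory.Limits AlgebraicGeometry Opposite TopologicalSpace

namespace K616.DimIneq

/-- For `h : U ⟶ V` locally of finite type, `V` locally Noetherian, some generic point `ξ ⤳ u` has
`dim O_{U,u} + trdeg(u) ≤ dim O_{V,h u} + trdeg(ξ)`. -/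
theorem exists_generic_bound {U V : Scheme.{u}} (h : U ⟶ V) [LocallyOfFiniteType h] [IsLocallyNoetherian V]
    (u : U) : ∃ ξ : U, ξ ⤳ u ∧ ringKrullDim ↥(U.presheaf.stalk ξ) = 0 ∧
      ringKrullDim ↥(U.presheaf.stalk u) + ((Cardinal.toENat (Dual3.resTrdeg h u) : ℕ∞) : WithBot ℕ∞) ≤
      ringKrullDim ↥(V.presheaf.stalk (h u)) + ((Cardinal.toENat (Dual3.resTrdeg h ξ) : ℕ∞) : WithBot ℕ∞) := by
  have hU : IsLocallyNoetherian U := LocallyOfFiniteType.isLocallyNoetherian h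
  have hgen : GeneralizingMap (𝟙 U : U ⟶ U) := by
    intro x y hy
    exact ⟨y, hy, rfl⟩
  have hN : IsNoetherianRing (U.presheaf.stalk ((𝟙 U : U ⟶ U) u)) := inferInstance
  obtain ⟨ξ, hξ, hmax, hdim⟩ := Groth.Agent.Ega43.OpenUniv.exists_generic_lift (𝟙 U) hgen u
  have hdim' : ringKrullDim (U.presheaf.stalk u) ≤ ringKrullDim (Cyc.LocQuot u ξ hξ) := hdim
  refine ⟨ξ, hξ, ?_, ?_⟩
  · rw [ringKrullDim_stalk_eq_coheight]
    have : Order.coheight ξ = 0 := by
      rw [Order.coheight_eq_zero]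
      intro ξ' hξ'
      have : ξ' ⤳ ξ := hξ'
      rw [hmax ξ' this]
    rw [this]
    rfl
  · obtain ⟨dX, dY, h1, h2, h3⟩ := Groth.Agent.CycB.DimIneq.dim_ineq h hξ
    have h4 : ringKrullDim (Cyc.LocQuot (h u) (h ξ) (hξ.map h.continuous)) ≤
      ringKrullDim (V.presheaf.stalk (h u)) := ringKrullDim_quotient_le _
    rw [h2] at h4
    rw [h1] at hdim'
    have h5 : (dX : Cardinal.{u}) + Dual3.resTrdeg h u ≤ (dY : Cardinal.{u}) + Dual3.resTrdeg h ξ := h3
    have h6 := Cardinal.toENat.monotone' h5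
    have h7 : (dX : ℕ∞) + Cardinal.toENat (Dual3.resTrdeg h u) ≤
        (dY : ℕ∞) + Cardinal.toENat (Dual3.resTrdeg h ξ) := by
      simpa using h6
    calc ringKrullDim ↥(U.presheaf.stalk u) + ((Cardinal.toENat (Dual3.resTrdeg h u) : ℕ∞) : WithBot ℕ∞)
        ≤ (dX : WithBot ℕ∞) + ((Cardinal.toENat (Dual3.resTrdeg h u) : ℕ∞) : WithBot ℕ∞) :=
          add_le_add hdim' le_rfl
      _ = (((dX : ℕ∞) + Cardinal.toENat (Dual3.resTrdeg h u) : ℕ∞) : WithBot ℕ∞) := by push_cast; rfl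
      _ ≤ (((dY : ℕ∞) + Cardinal.toENat (Dual3.resTrdeg h ξ) : ℕ∞) : WithBot ℕ∞) := by exact_mod_cast h7
      _ = (dY : WithBot ℕ∞) + ((Cardinal.toENat (Dual3.resTrdeg h ξ) : ℕ∞) : WithBot ℕ∞) := by push_cast; rfl
      _ ≤ _ := add_le_add h4 le_rfl

end K616.DimIneq
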