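import Groth.Prelude.Def_Flat
import Groth.Agent.VarietyB.DimTop
import Mathlib.AlgebraicGeometry.Fiber
import Mathlib.AlgebraicGeometry.Morphisms.ClosedImmersion

/-!
# The fibre of a scheme over a field

* `isIso_fiberι`: for `f : X ⟶ Spec K`, `K` a field, the fibre is `X`.
* `fibreDimAt_field`: `dim_x` of the fibre is `dim_x X`.
* `fibreStalkDim_field`.
-/

set_option autoImplicit false
universe u
open CategoryTheory CategoryTheory.Limits AlgebraicGeometry Opposite

namespace K616.FibField

variable {K : Type u} [Field K]

theorem isIso_fromSpecResidueField (s : Spec (CommRingCat.of K)) :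
    IsIso ((Spec (CommRingCat.of K)).fromSpecResidueField s) := by
  have hsub : Subsingleton (Spec (CommRingCat.of K)) :=
    inferInstanceAs (Subsingleton (PrimeSpectrum K))
  have hr : Set.range ((Spec (CommRingCat.of K)).fromSpecResidueField s) = Set.univ := by
    rw [Scheme.range_fromSpecResidueField]
    ext x
    simp only [Set.mem_singleton_iff, Set.mem_univ, iff_true]
    exact Subsingleton.elim _ _
  have h1 : IsClosedImmersion ((Spec (CommRingCat.of K)).fromSpecResidueField s) :=
    IsClosedImmersion.of_isPreimmersion _ (by rw [hr]; exact isClosed_univ)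
  have h2 : Surjective ((Spec (CommRingCat.of K)).fromSpecResidueField s) :=
    ⟨Set.range_eq_univ.1 hr⟩
  exact isIso_of_isClosedImmersion_of_surjective _

theorem isIso_fiberι {X : Scheme.{u}} (f : X ⟶ Spec (CommRingCat.of K)) (s : Spec (CommRingCat.of K)) :
    IsIso (f.fiberι s) := by
  have := isIso_fromSpecResidueField s
  exact inferInstanceAs (IsIso (pullback.fst f ((Spec (CommRingCat.of K)).fromSpecResidueField s)))

theorem fibreDimAt_field {X : Scheme.{u}} (f : X ⟶ Spec (CommRingCat.of K)) (x : X) :
    FlatMor.fibreDimAt f x = FlatMor.localDim X x := by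
  have := isIso_fiberι f (f x)
  have h := Groth.Agent.VarietyB.DimTop.localDim_eq_of_homeomorph (f.fiberι (f x)).homeomorph (f.asFiber x)
  have h2 : (f.fiberι (f x)).homeomorph (f.asFiber x) = x := f.fiberι_asFiber x
  rw [h2] at h
  exact h

theorem fibreStalkDim_field {X : Scheme.{u}} (f : X ⟶ Spec (CommRingCat.of K)) (x : X) :
    ringKrullDim ↥((f.fiber (f x)).presheaf.stalk (f.asFiber x)) = ringKrullDim ↥(X.presheaf.stalk x) := by
  have := isIso_fiberι f (f x)
  have h := ringKrullDim_eq_of_ringEquiv
    (asIso ((f.fiberι (f x)).stalkMap (f.asFiber x))).commRingCatIsoToRingEquiv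
  rw [← h]
  rw [f.fiberι_asFiber]

end K616.FibField
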