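import Groth.Agent.Flat2D.DimLoc
import Groth.Agent.VarietyB.DimTop
import Groth.Agent.Sga7.H752.GenDim

/-!
# Local dimension for flat morphisms of constant relative dimension
-/

set_option autoImplicit false
universe u
open CategoryTheory CategoryTheory.Limits AlgebraicGeometry Opposite TopologicalSpace

namespace K616.FlatDim

open Groth.Agent.Flat2D.DimMap Groth.Agent.Flat2D.DimFlat

/-- the coheight is at most the local dimension -/
theorem coheight_le_localDim {X : Scheme.{u}} (x : X) :
    (Order.coheight x : WithBot ℕ∞) ≤ FlatMor.localDim X x :=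
  le_iInf fun V => le_krullDim_opens V.1 V.2

theorem coheight_asFiber_le {X Y : Scheme.{u}} (f : X ⟶ Y) (x : X) :
    (Order.coheight (f.asFiber x) : WithBot ℕ∞) ≤ FlatMor.fibreDimAt f x :=
  coheight_le_localDim _

/-- in every open set there is a point in the same fibre which is closed in its fibre -/
theorem exists_closed_asFiber {X Y : Scheme.{u}} (f : X ⟶ Y) [LocallyOfFiniteType f] (U : X.Opens) (x : X)
    (hx : x ∈ U) : ∃ w ∈ U, f w = f x ∧ IsClosed ({f.asFiber w} : Set (f.fiber (f w))) := by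
  have hne : (((f.fiberι (f x)) ⁻¹' (U : Set X)) ∩ closedPoints (f.fiber (f x))).Nonempty := by
    refine nonempty_inter_closedPoints ⟨f.asFiber x, ?_⟩ ?_
    · change f.fiberι (f x) (f.asFiber x) ∈ U
      rw [f.fiberι_asFiber]
      exact hx
    · exact (U.isOpen.preimage (f.fiberι (f x)).continuous).isLocallyClosed
  obtain ⟨z, hz, hzc⟩ := hne
  obtain ⟨w, hw⟩ : ∃ w, f.fiberι (f x) z = w := ⟨_, rfl⟩
  have hwf : f w = f x := by
    have : f.fiberι (f x) z ∈ f ⁻¹' {f x} := by
      rw [← f.range_fiberι (f x)]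
      exact ⟨z, rfl⟩
    rw [hw] at this
    exact this
  have hwU : w ∈ U := by
    rw [← hw]
    exact hz
  refine ⟨w, hwU, hwf, ?_⟩
  generalize hy : f x = y at z hwf hz hzc hw
  subst hwf
  have hz : z = f.asFiber w := by
    apply (f.fiberι (f w)).isEmbedding.injective
    rw [hw, f.fiberι_asFiber]
  rw [← hz]
  exact hzc

theorem coheight_asFiber_eq_of_isClosed {X Y : Scheme.{u}} (f : X ⟶ Y) [LocallyOfFiniteType f] (x : X)
    (hx : IsClosed ({f.asFiber x} : Set (f.fiber (f x)))) :
    FlatMor.fibreDimAt f x = (Order.coheight (f.asFiber x) : WithBot ℕ∞) := by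
  rw [Groth.Agent.Sga7.H752.GenDim.fibreDimAt_eq_of_isClosed f x hx]
  exact ringKrullDim_stalk_eq_coheight _

/-- `dim_x X = dim_y Y + d` for `f` flat, locally of finite type, of relative dimension `d` everywhere. -/
theorem localDim_eq_of_flat {X Y : Scheme.{u}} (f : X ⟶ Y) [IsLocallyNoetherian X] [IsLocallyNoetherian Y]
    [Flat f] [LocallyOfFiniteType f] (d : ℕ) (hd : ∀ x : X, FlatMor.fibreDimAt f x = (d : WithBot ℕ∞)) (x : X) :
    FlatMor.localDim X x = FlatMor.localDim Y (f x) + (d : WithBot ℕ∞) := by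
  have hlfp : LocallyOfFinitePresentation f := inferInstance
  apply le_antisymm
  · have hne : Nonempty {U : Opens Y // f x ∈ U} := ⟨⟨⊤, trivial⟩⟩
    obtain ⟨V, hV⟩ := ciInf_mem (fun U : {U : Opens Y // f x ∈ U} =>
      topologicalKrullDim (U.1 : Set Y))
    have h1 : FlatMor.localDim Y (f x) = topologicalKrullDim (V.1 : Set Y) := hV.symm
    rw [h1]
    refine (iInf_le _ (⟨f ⁻¹ᵁ V.1, V.2⟩ : {U : Opens X // x ∈ U})).trans ?_
    refine krullDim_opens_le _ fun z hz => ?_
    rw [coheight_eq_add_fiber f z (Flat.stalkMap _ z)]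
    push_cast
    refine add_le_add (le_krullDim_opens V.1 hz) ?_
    rw [← hd z]
    exact coheight_asFiber_le f z
  · refine le_iInf fun U => ?_
    have hopen : IsOpen (f '' (U.1 : Set X)) := f.isOpenMap _ U.1.isOpen
    let W : Opens Y := ⟨f '' (U.1 : Set X), hopen⟩
    have hzW : f x ∈ W := ⟨x, U.2, rfl⟩
    have h1 : FlatMor.localDim Y (f x) ≤ topologicalKrullDim (W : Set Y) :=
      iInf_le (fun U : {U : Opens Y // f x ∈ U} => topologicalKrullDim (U.1 : Set Y)) ⟨W, hzW⟩
    refine (add_le_add h1 le_rfl).trans ?_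
    have hW := krullDim_opens (X := Y) W ⟨_, hzW⟩
    rw [hW]
    have hVd := krullDim_opens (X := X) U.1 ⟨x, U.2⟩
    rw [hVd]
    have key : (⨆ x : W, Order.coheight (x : Y)) + (d : ℕ∞) ≤
        ⨆ x : U.1, Order.coheight (x : X) := by
      have : Nonempty (↥W) := ⟨⟨f x, hzW⟩⟩
      rw [ENat.iSup_add]
      refine iSup_le ?_
      rintro ⟨_, v, hv, rfl⟩
      obtain ⟨w, hw, hwf, hwc⟩ := exists_closed_asFiber f U.1 v hv
      dsimp only
      have h3 := coheight_asFiber_eq_of_isClosed f w hwc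
      rw [hd w] at h3
      have h4 : (d : ℕ∞) = Order.coheight (f.asFiber w) := by exact_mod_cast h3
      rw [h4, ← hwf, ← coheight_eq_add_fiber f w (Flat.stalkMap _ w)]
      exact le_iSup (fun x : U.1 => Order.coheight (x : X)) ⟨w, hw⟩
    exact_mod_cast key

end K616.FlatDim
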