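import Groth.Agent.AlgSp.K616.NbhdB
import Mathlib.AlgebraicGeometry.Morphisms.Flat
import Mathlib.AlgebraicGeometry.Morphisms.Etale

/-!
# Étale neighbourhoods of closed subschemes, III

`exists_nbhd'`: the form with `E = (A/I) ⊗ C`; `flat_localization_of_stalkMap`.
-/

set_option autoImplicit false
universe u
open TensorProduct CategoryTheory AlgebraicGeometry

namespace K616.Nbhd

variable {A C : Type u} [CommRing A] [CommRing C] [Algebra A C] (I : Ideal A)

theorem exists_one_tmul (x : (A ⧸ I) ⊗[A] C) : ∃ c : C, x = 1 ⊗ₜ[A] c := by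
  induction x with
  | zero => exact ⟨0, (TensorProduct.tmul_zero _ _).symm⟩
  | add y z hy hz =>
    obtain ⟨a, rfl⟩ := hy
    obtain ⟨b, rfl⟩ := hz
    exact ⟨a + b, (TensorProduct.tmul_add _ _ _).symm⟩
  | tmul a b =>
    obtain ⟨a, rfl⟩ := Ideal.Quotient.mk_surjective a
    refine ⟨a • b, ?_⟩
    rw [← TensorProduct.smul_tmul]
    congr 1
    rw [Algebra.smul_def, mul_one]
    rfl

theorem mem_map_of_one_tmul {c : C} (h : (1 : A ⧸ I) ⊗ₜ[A] c = 0) : c ∈ I.map (algebraMap A C) := by
  have h2 := congrArg (TensorProduct.quotTensorEquivQuotSMul C I) h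
  have h3 : TensorProduct.quotTensorEquivQuotSMul C I ((1 : A ⧸ I) ⊗ₜ[A] c) = Submodule.Quotient.mk c :=
    TensorProduct.quotTensorEquivQuotSMul_mk_one_tmul I c
  rw [h3, map_zero, Submodule.Quotient.mk_eq_zero, Ideal.smul_top_eq_map] at h2
  exact h2

theorem exists_nbhd' [Algebra.Etale (A ⧸ I) ((A ⧸ I) ⊗[A] C)]
    (hflat : ∀ (q : Ideal C) [q.IsPrime], I.map (algebraMap A C) ≤ q → Module.Flat A (Localization.AtPrime q)) :
    ∃ (A' : Type u) (_ : CommRing A') (_ : Algebra A A') (C₀ : Type u) (_ : CommRing C₀) (_ : Algebra A C₀)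
      (ι : C →ₐ[A] C₀) (B : Type u) (_ : CommRing B) (β : A' ⊗[A] C₀ →+* B),
      Algebra.Etale A A' ∧ ι.toRingHom.Flat ∧ β.Flat ∧
      (β.comp (Algebra.TensorProduct.includeLeftRingHom (R := A) (A := A') (B := C₀))).Flat ∧
      (∀ b : B, ∃ a' : A', b - β (a' ⊗ₜ[A] 1) ∈ (I.map (algebraMap A A')).map
        (β.comp (Algebra.TensorProduct.includeLeftRingHom (R := A) (A := A') (B := C₀)))) ∧
      (∀ (p' : Ideal A') [p'.IsPrime], I.map (algebraMap A A') ≤ p' → ∃ b : Ideal B, b.IsPrime ∧
        b.comap (β.comp (Algebra.TensorProduct.includeLeftRingHom (R := A) (A := A') (B := C₀))) = p') ∧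
      (∀ (r : Ideal C) [r.IsPrime], I.map (algebraMap A C) ≤ r → ∃ p' : Ideal A', p'.IsPrime ∧
        I.map (algebraMap A A') ≤ p' ∧ p'.comap (algebraMap A A') = r.comap (algebraMap A C)) :=
  exists_nbhd I (Algebra.TensorProduct.includeRight : C →ₐ[A] (A ⧸ I) ⊗[A] C)
    (fun x => by
      obtain ⟨c, rfl⟩ := exists_one_tmul I x
      exact ⟨c, rfl⟩)
    (fun c hc => mem_map_of_one_tmul I hc) hflat

/-- flatness of the stalk map of `Spec S ⟶ Spec R` at a prime `Q` -/
theorem flat_localization_of_stalkMap {R S : Type u} [CommRing R] [CommRing S] [Algebra R S]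
    (Q : PrimeSpectrum S)
    (h : ((Spec.map (CommRingCat.ofHom (algebraMap R S))).stalkMap Q).hom.Flat) :
    Module.Flat R (Localization.AtPrime Q.asIdeal) := by
  have h1 := (RingHom.Flat.respectsIso.arrow_mk_iso_iff
    (Scheme.arrowStalkMapSpecIso (CommRingCat.ofHom (algebraMap R S)) Q)).1 h
  have h2 : (Localization.localRingHom (Q.asIdeal.comap (algebraMap R S)) Q.asIdeal
    (algebraMap R S) rfl).Flat := h1
  have h3 : (algebraMap R (Localization.AtPrime (Q.asIdeal.comap (algebraMap R S)))).Flat := by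
    rw [RingHom.flat_algebraMap_iff]
    exact IsLocalization.flat _ (Q.asIdeal.comap (algebraMap R S)).primeCompl
  have h4 := h3.comp h2
  have h5 : (Localization.localRingHom (Q.asIdeal.comap (algebraMap R S)) Q.asIdeal
      (algebraMap R S) rfl).comp
      (algebraMap R (Localization.AtPrime (Q.asIdeal.comap (algebraMap R S)))) =
      algebraMap R (Localization.AtPrime Q.asIdeal) := by
    ext r
    rw [RingHom.comp_apply, Localization.localRingHom_to_map]
    rfl
  rw [h5] at h4
  exact RingHom.flat_algebraMap_iff.1 h4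

end K616.Nbhd
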