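import Groth.Agent.AlgSp.K616.BaseChange
import Groth.Agent.AlgSp.K639.Diag
import Groth.Agent.AlgSp.K613.Chart
import Groth.Agent.AlgSp.K609.Points
import Groth.Agent.AlgSp.K621.FiniteMor
import Groth.Agent.Flat2D.FlatAtPt
import Groth.Prelude.Def_AlgSpMor5
import Groth.Prelude.Def_AlgSp3

/-!
# Glueing configurations

* `isFlatAtMor_baseChange`: flatness at a point is stable under base change.
* `Cfg f i s j`: `f : Y ⟶ X`, a closed immersion of finite presentation `i : Z ⟶ X` with complement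
  `j : U ⟶ X`, a section `s : Z ⟶ Y` of `f` over `Z` with `Y ×_X Z = Z`, and `f` flat at the points of `s(Z)`.
* `Cfg.exists_chart_at`: étale charts of `T ×_X Y` through the point over a point of `T` lying over `Z`.
-/

set_option autoImplicit false
universe u
open CategoryTheory CategoryTheory.Limits AlgebraicGeometry Opposite

namespace K616.GCfg

open AlgSp K616.Refine K616.Inv K616.BaseChange Groth.Agent.Flat2D.FlatAtPt

variable {S : Scheme.{u}}

theorem flat_source_iff {U' U V : Scheme.{u}} (π : U' ⟶ U) [Etale π] (h : U ⟶ V) (u' : U') :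
    ((π ≫ h).stalkMap u').hom.Flat ↔ (h.stalkMap (π u')).hom.Flat :=
  ⟨fun H => flat_stalkMap_of_comp π h u' H (Flat.stalkMap π u'),
    fun H => flat_stalkMap_comp π h u' (Flat.stalkMap π u') H⟩

theorem flat_target_iff {U V V' : Scheme.{u}} (h : U ⟶ V) (e : V ⟶ V') [Etale e] (u : U) :
    ((h ≫ e).stalkMap u).hom.Flat ↔ (h.stalkMap u).hom.Flat := by
  refine ⟨fun H => ?_, fun H => flat_stalkMap_comp h e u H (Flat.stalkMap e _)⟩
  let γ : U ⟶ pullback (h ≫ e) e := pullback.lift (𝟙 U) h (by simp)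
  have hγ1 : γ ≫ pullback.fst _ _ = 𝟙 U := pullback.lift_fst _ _ _
  have hγ2 : γ ≫ pullback.snd _ _ = h := pullback.lift_snd _ _ _
  have hγ : Etale γ := by
    refine MorphismProperty.of_postcomp @Etale (W' := @Etale) γ (pullback.fst _ _) inferInstance ?_
    rw [hγ1]
    infer_instance
  have h1 : ((pullback.snd (h ≫ e) e).stalkMap (γ u)).hom.Flat := by
    refine flat_stalkMap_of_isPullback (IsPullback.of_hasPullback (h ≫ e) e) (γ u) ?_
    have h2 : (pullback.fst (h ≫ e) e) (γ u) = u := by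
      rw [← Scheme.Hom.comp_apply, hγ1]
      rfl
    exact flat_stalkMap_congr (h ≫ e) h2.symm H
  have h3 := flat_stalkMap_comp γ (pullback.snd (h ≫ e) e) u (Flat.stalkMap γ u) h1
  rwa [hγ2] at h3

theorem flatInv : K639.Diag.EtInv.{u} (fun h u => (Scheme.Hom.stalkMap h u).hom.Flat) where
  source π h u' _ := flat_source_iff π h u'
  target h e u _ := flat_target_iff h e u

/-- Flatness at a point is stable under base change. -/
theorem isFlatAtMor_baseChange {X Y Y' X' : Sp S} (hX : IsAlgSpace X) (hY : IsAlgSpace Y)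
    (hY' : IsAlgSpace Y') (hX' : IsAlgSpace X') {f : X ⟶ Y} {g : Y' ⟶ Y} {g' : X' ⟶ X} {f' : X' ⟶ Y'}
    (sq : IsPullback g' f' f g) (x' : Points X') (h : IsFlatAtMor f (Points.map g' x')) :
    IsFlatAtMor f' x' := by
  obtain ⟨U, V, U', V', h', k, p, q, a, b, a', b', u', sq', ha, hb, ha', hb', w, w', h1, h2, hu', hpu⟩ :=
    exists_cartesian_diagram hX hY hY' hX' sq x'
  have h3 := h a b h' (p.left u') ha hb w hpu
  have h4 : (q.left.stalkMap u').hom.Flat :=
    flat_stalkMap_of_isPullback (sq'.map (Over.forget S)) u' h3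
  rw [← hu']
  exact (flatInv.locPAt_iff ha' hb' h2 u').2 h4

/-- The data of the glueing situation. -/
structure Cfg {X Y Z U : Sp S} (f : Y ⟶ X) (i : Z ⟶ X) (s : Z ⟶ Y) (j : U ⟶ X) : Prop where
  hX : IsAlgSpace X
  hY : IsAlgSpace Y
  hi : RepWith @IsClosedImmersion i
  hifp : RepWith @LocallyOfFinitePresentation i
  hs : s ≫ f = i
  hs' : ∀ {L : Over S} (y : (yon S).obj L ⟶ Y) (z : (yon S).obj L ⟶ Z), y ≫ f = z ≫ i → y = z ≫ s
  hflat : ∀ z : Points Z, IsFlatAtMor f (Points.map s z)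
  hj : RepWith @IsOpenImmersion j
  hU : Set.range (Points.map j) = (Set.range (Points.map i))ᶜ

variable {X Y Z U : Sp S} {f : Y ⟶ X} {i : Z ⟶ X} {s : Z ⟶ Y} {j : U ⟶ X}

namespace Cfg

/-- A point of `T` over the image of a representable `i` is hit by the base change of `i`. -/
theorem exists_pt {T : Over S} (x : (yon S).obj T ⟶ X) (t : T.left)
    (ht : Points.ofPt x t ∈ Set.range (Points.map i)) {L : Over S} {l : L ⟶ T} {z : (yon S).obj L ⟶ Z}
    (sq : IsPullback z ((yon S).map l) i x) : ∃ m : L.left, l.left m = t := by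
  obtain ⟨z₀, hz₀⟩ := ht
  obtain ⟨w, -, hw⟩ := exists_point_of_isPullback sq z₀ (Points.ofScheme T t)
    (by rw [hz₀, ← Points.ofPt_eq_map_ofScheme])
  obtain ⟨m, rfl⟩ := exists_ofPt_of_yon w
  refine ⟨m, ?_⟩
  rw [Points.map_ofPt, Category.id_comp] at hw
  have := congrArg (Points.toScheme T) hw
  rwa [Points.toScheme_ofPt, Points.toScheme_ofScheme] at this

/-- The base change of the closed immersion. -/
theorem exists_over_Z (c : Cfg f i s j) {T : Over S} (x : (yon S).obj T ⟶ X) :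
    ∃ (L : Over S) (l : L ⟶ T) (z : (yon S).obj L ⟶ Z), IsClosedImmersion l.left ∧
      LocallyOfFinitePresentation l.left ∧ IsPullback z ((yon S).map l) i x := by
  obtain ⟨L, l, z, sq⟩ := c.hi.rep x
  exact ⟨L, l, z, c.hi.property _ _ _ sq, c.hifp.property _ _ _ sq, sq⟩

/-- The base change of the open immersion. -/
theorem exists_over_U (c : Cfg f i s j) {T : Over S} (x : (yon S).obj T ⟶ X) :
    ∃ (L : Over S) (l : L ⟶ T) (u : (yon S).obj L ⟶ U), IsOpenImmersion l.left ∧
      IsPullback u ((yon S).map l) j x := by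
  obtain ⟨L, l, u, sq⟩ := c.hj.rep x
  exact ⟨L, l, u, c.hj.property _ _ _ sq, sq⟩

theorem mem_range_i {T L : Over S} (x : (yon S).obj T ⟶ X) (l : L ⟶ T) (z : (yon S).obj L ⟶ Z)
    (h : z ≫ i = (yon S).map l ≫ x) (m : L.left) :
    Points.ofPt x (l.left m) ∈ Set.range (Points.map i) := by
  refine ⟨Points.ofPt z m, ?_⟩
  rw [Points.map_ofPt, h, ofPt_comp]

theorem not_mem_range_i (c : Cfg f i s j) {T L : Over S} (x : (yon S).obj T ⟶ X) (l : L ⟶ T)
    (u : (yon S).obj L ⟶ U) (h : u ≫ j = (yon S).map l ≫ x) (m : L.left) :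
    Points.ofPt x (l.left m) ∉ Set.range (Points.map i) := by
  have h1 : Points.ofPt x (l.left m) ∈ Set.range (Points.map j) := by
    refine ⟨Points.ofPt u m, ?_⟩
    rw [Points.map_ofPt, h, ofPt_comp]
  rw [c.hU] at h1
  exact h1

theorem isAlgSpace_pullback (c : Cfg f i s j) {T : Over S} (x : (yon S).obj T ⟶ X) :
    IsAlgSpace (pullback x f) :=
  K613.Chart.isAlgSpace_pullback (IsAlgSpace.yon_obj T) c.hY c.hX x f

/-- Flatness of `T ×_X Y ⟶ T` at the points over `Z`. -/
theorem isFlatAtMor_fst (c : Cfg f i s j) {T : Over S} (x : (yon S).obj T ⟶ X) (w : Points (pullback x f))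
    (hw : Points.map (pullback.snd x f) w ∈ Set.range (Points.map s)) :
    IsFlatAtMor (pullback.fst x f) w := by
  obtain ⟨z, hz⟩ := hw
  refine isFlatAtMor_baseChange c.hY c.hX (IsAlgSpace.yon_obj T) (c.isAlgSpace_pullback x)
    (IsPullback.of_hasPullback x f).flip w ?_
  rw [← hz]
  exact c.hflat z

/-- Étale charts of `T ×_X Y` at the point over a point of `T` lying over `Z`. -/
theorem exists_chart_at (c : Cfg f i s j) {T : Over S} (x : (yon S).obj T ⟶ X) (t : T.left)
    (ht : Points.ofPt x t ∈ Set.range (Points.map i)) :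
    ∃ (G : Over S) (γ : G ⟶ T) (y : (yon S).obj G ⟶ Y) (w : (yon S).map γ ≫ x = y ≫ f) (g : G.left),
      IsAffine G.left ∧ γ.left g = t ∧ RepWith @Etale (pullback.lift ((yon S).map γ) y w) ∧
      ∀ g' : G.left, Points.ofPt x (γ.left g') ∈ Set.range (Points.map i) → (γ.left.stalkMap g').hom.Flat := by
  obtain ⟨L, l, z, -, -, sq⟩ := c.exists_over_Z x
  obtain ⟨m, hm⟩ := exists_pt x t ht sq
  have w₀ : (yon S).map l ≫ x = (z ≫ s) ≫ f := by rw [Category.assoc, c.hs, sq.w]
  obtain ⟨G, a, g, hG, ha, hg⟩ := K621.FiniteMor.exists_affine_chart (c.isAlgSpace_pullback x)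
    (Points.ofPt (pullback.lift ((yon S).map l) (z ≫ s) w₀) m)
  obtain ⟨γ, hγ⟩ := (yon S).map_surjective (a ≫ pullback.fst x f)
  have w : (yon S).map γ ≫ x = (a ≫ pullback.snd x f) ≫ f := by
    rw [hγ, Category.assoc, Category.assoc, pullback.condition]
  have hlift : pullback.lift ((yon S).map γ) (a ≫ pullback.snd x f) w = a := by
    apply pullback.hom_ext
    · rw [pullback.lift_fst, hγ]
    · rw [pullback.lift_snd]
  refine ⟨G, γ, a ≫ pullback.snd x f, w, g, hG, ?_, by rw [hlift]; exact ha, fun g' hg' => ?_⟩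
  · have h1 := congrArg (Points.map (pullback.fst x f)) hg
    rw [Points.map_ofPt, Points.map_ofPt, pullback.lift_fst, ← hγ, K609.Points.ofPt_yon_map,
      K609.Points.ofPt_yon_map, hm] at h1
    have h2 := congrArg (Points.toScheme T) h1
    rwa [Points.toScheme_ofScheme, Points.toScheme_ofScheme] at h2
  · obtain ⟨L', l', z', -, -, sq'⟩ := c.exists_over_Z ((yon S).map γ ≫ x)
    obtain ⟨m', hm'⟩ := exists_pt ((yon S).map γ ≫ x) g' (by rw [ofPt_comp]; exact hg') sq'
    have h1 : (yon S).map l' ≫ a ≫ pullback.snd x f = z' ≫ s := by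
      refine c.hs' _ _ ?_
      rw [Category.assoc, Category.assoc, ← pullback.condition, sq'.w, hγ]
      simp only [Category.assoc]
    have h2 : IsFlatAtMor (pullback.fst x f) (Points.ofPt a g') := by
      refine c.isFlatAtMor_fst x _ ⟨Points.ofPt z' m', ?_⟩
      rw [Points.map_ofPt, Points.map_ofPt, ← h1, ofPt_comp, hm']
    exact h2 a (𝟙 _) γ g' ha (repWith_id _ T) (by rw [hγ, Category.comp_id]) rfl

end Cfg

end K616.GCfg
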