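import Groth.Agent.AlgSp.K616.GLoc2

/-!
# Glueing configurations: existence of local data, II
-/

set_option autoImplicit false
universe u
open CategoryTheory CategoryTheory.Limits AlgebraicGeometry Opposite TensorProduct

namespace K616.GCfg

open AlgSp K616.Refine K616.Inv K616.BaseChange

variable {S : Scheme.{u}} {X Y Z U : Sp S} {f : Y ⟶ X} {i : Z ⟶ X} {s : Z ⟶ Y} {j : U ⟶ X}

section Tensor

variable {A : Type u} (A' C : Type u) [CommRing A] [CommRing A'] [CommRing C] [Algebra A A'] [Algebra A C]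
  (str : Spec (CommRingCat.of A) ⟶ S)

noncomputable def tl : so (algebraMap A (A' ⊗[A] C)) str ⟶ so (algebraMap A A') str :=
  Over.homMk (Spec.map (CommRingCat.ofHom (Algebra.TensorProduct.includeLeftRingHom (R := A) (A := A') (B := C))))
    (by
      change Spec.map _ ≫ Spec.map _ ≫ str = Spec.map _ ≫ str
      rw [← Spec.map_comp_assoc, ← CommRingCat.ofHom_comp])

noncomputable def tr : so (algebraMap A (A' ⊗[A] C)) str ⟶ so (algebraMap A C) str :=
  Over.homMk (Spec.map (CommRingCat.ofHom (Algebra.TensorProduct.includeRight (R := A) (A := A') (B := C)).toRingHom))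
    (by
      change Spec.map _ ≫ Spec.map _ ≫ str = Spec.map _ ≫ str
      rw [← Spec.map_comp_assoc, ← CommRingCat.ofHom_comp, AlgHom.toRingHom_eq_coe, AlgHom.comp_algebraMap])

/-- The tensor product square over `S`. -/
theorem isPullback_tensor :
    IsPullback (tl A' C str) (tr A' C str) (sh (algebraMap A A') str) (sh (algebraMap A C) str) :=
  isPullback_over (isPullback_SpecMap_of_isPushout _ _ _ _ (CommRingCat.isPushout_tensorProduct A A' C))

end Tensor

theorem Cfg.etale_quot (c : Cfg f i s j) {A C : Type u} [CommRing A] [CommRing C] [Algebra A C]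
    (str : Spec (CommRingCat.of A) ⟶ S) (x : (yon S).obj (Over.mk str) ⟶ X)
    (y : (yon S).obj (so (algebraMap A C) str) ⟶ Y)
    (w : (yon S).map (sh (algebraMap A C) str) ≫ x = y ≫ f)
    (ha : RepWith @Etale (pullback.lift ((yon S).map (sh (algebraMap A C) str)) y w)) (I : Ideal A)
    (z : (yon S).obj (so (Ideal.Quotient.mk I) str) ⟶ Z)
    (hz : z ≫ i = (yon S).map (sh (Ideal.Quotient.mk I) str) ≫ x) :
    Algebra.Etale (A ⧸ I) ((A ⧸ I) ⊗[A] C) := by
  have sq : IsPullback (tl (A ⧸ I) C str) (tr (A ⧸ I) C str) (sh (Ideal.Quotient.mk I) str)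
      (sh (algebraMap A C) str) := isPullback_tensor (A ⧸ I) C str
  have h1 : Etale (tl (A ⧸ I) C str).left := c.etale_over_Z w ha hz sq.flip
  have h2 : (Algebra.TensorProduct.includeLeftRingHom (R := A) (A := A ⧸ I) (B := C)).Etale :=
    (HasRingHomProperty.Spec_iff (P := @Etale)).1 h1
  exact RingHom.etale_algebraMap.1 h2

theorem flat_fst {P A B T : Over S} {a : P ⟶ A} {b : P ⟶ B} {f : A ⟶ T} {g : B ⟶ T} (sq : IsPullback a b f g)
    (h : Flat g.left) : Flat a.left :=
  MorphismProperty.of_isPullback (P := @Flat) (sq.map (Over.forget S)).flip h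

theorem exists_pt_pullback {P A B T : Over S} {a : P ⟶ A} {b : P ⟶ B} {f : A ⟶ T} {g : B ⟶ T}
    (sq : IsPullback a b f g) (p : A.left) (q : B.left) (h : f.left p = g.left q) :
    ∃ z : P.left, a.left z = p ∧ b.left z = q := by
  have sq' : IsPullback a.left b.left f.left g.left := sq.map (Over.forget S)
  obtain ⟨z, hz1, hz2⟩ := Scheme.Pullback.exists_preimage_pullback p q h
  refine ⟨sq'.isoPullback.inv z, ?_, ?_⟩
  · have h1 : sq'.isoPullback.inv ≫ a.left = pullback.fst f.left g.left := sq'.isoPullback_inv_fst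
    rw [← Scheme.Hom.comp_apply, h1]
    exact hz1
  · have h1 : sq'.isoPullback.inv ≫ b.left = pullback.snd f.left g.left := sq'.isoPullback_inv_snd
    rw [← Scheme.Hom.comp_apply, h1]
    exact hz2

/-- lifting near the points over `Z` -/
theorem Cfg.exists_lift (c : Cfg f i s j) {T T' G G₀ K B : Over S} {x : (yon S).obj T ⟶ X} {γ : G ⟶ T}
    {y : (yon S).obj G ⟶ Y} (w : (yon S).map γ ≫ x = y ≫ f)
    (ha : RepWith @Etale (pullback.lift ((yon S).map γ) y w)) {τ : T' ⟶ T} {ι : G₀ ⟶ G} (hι : Flat ι.left)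
    {kl : K ⟶ T'} {kr : K ⟶ G₀} (sq : IsPullback kl kr τ (ι ≫ γ)) {β : B ⟶ K} (hβ : Flat β.left)
    (hpts : ∀ t' : T'.left, Points.ofPt x (τ.left t') ∈ Set.range (Points.map i) →
      ∃ b : B.left, (β ≫ kl).left b = t')
    {L : Over S} (l : L ⟶ T') (y₁ : (yon S).obj L ⟶ Y) (hy₁ : y₁ ≫ f = (yon S).map (l ≫ τ) ≫ x) (m : L.left)
    (hm : Points.ofPt x ((l ≫ τ).left m) ∈ Set.range (Points.map i)) :
    ∃ (L' : Over S) (u : L' ⟶ L) (v : L' ⟶ B), Flat u.left ∧ m ∈ Set.range u.left ∧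
      v ≫ β ≫ kl = u ≫ l ∧ (yon S).map v ≫ (yon S).map (β ≫ kr ≫ ι) ≫ y = (yon S).map u ≫ y₁ := by
  obtain ⟨H, hL, hG, sqH⟩ := ha.rep (pullback.lift ((yon S).map (l ≫ τ)) y₁ hy₁.symm)
  obtain ⟨hG, rfl⟩ := (yon S).map_surjective hG
  have et : Etale hL.left := ha.property _ _ _ sqH
  have e1 : hG ≫ γ = hL ≫ l ≫ τ := by
    apply (yon S).map_injective
    have := congrArg (· ≫ pullback.fst x f) sqH.w
    rw [Category.assoc, Category.assoc, pullback.lift_fst, pullback.lift_fst] at this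
    rw [Functor.map_comp, this, Functor.map_comp, Functor.map_comp, Functor.map_comp]
  have e2 : (yon S).map hG ≫ y = (yon S).map hL ≫ y₁ := by
    have := congrArg (· ≫ pullback.snd x f) sqH.w
    rwa [Category.assoc, Category.assoc, pullback.lift_snd, pullback.lift_snd] at this
  -- `H₀ = H ×_G G₀`
  have sq0 := IsPullback.of_hasPullback hG ι
  let H₀ := pullback hG ι
  have e3 : (pullback.fst hG ι ≫ hL ≫ l) ≫ τ = pullback.snd hG ι ≫ ι ≫ γ := by
    rw [← Category.assoc (pullback.snd hG ι), ← pullback.condition, Category.assoc, Category.assoc, Category.assoc,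
      e1]
  let k₀ : H₀ ⟶ K := sq.lift (pullback.fst hG ι ≫ hL ≫ l) (pullback.snd hG ι) e3
  have k₀l : k₀ ≫ kl = pullback.fst hG ι ≫ hL ≫ l := sq.lift_fst _ _ _
  have k₀r : k₀ ≫ kr = pullback.snd hG ι := sq.lift_snd _ _ _
  -- `L' = H₀ ×_K B`
  have sq1 := IsPullback.of_hasPullback k₀ β
  let L' := pullback k₀ β
  have f1 : Flat (pullback.fst k₀ β).left := flat_fst sq1 hβ
  have f2 : Flat (pullback.fst hG ι).left := flat_fst sq0 hι
  refine ⟨L', pullback.fst k₀ β ≫ pullback.fst hG ι ≫ hL, pullback.snd k₀ β, ?_, ?_, ?_, ?_⟩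
  · rw [Over.comp_left, Over.comp_left]
    infer_instance
  · -- the point
    obtain ⟨b, hb⟩ := hpts (l.left m) (by rwa [Over.comp_left, Scheme.Hom.comp_apply] at hm)
    obtain ⟨z₁, hz1, -⟩ := exists_pt_pullback (IsPullback.of_hasPullback l (β ≫ kl)) m b hb.symm
    let D₀ := pullback l (β ≫ kl)
    obtain ⟨D, d, zD, -, -, sqD⟩ := c.exists_over_Z ((yon S).map (pullback.fst l (β ≫ kl) ≫ l ≫ τ) ≫ x)
    obtain ⟨z₂, hz2⟩ := Cfg.exists_pt ((yon S).map (pullback.fst l (β ≫ kl) ≫ l ≫ τ) ≫ x) z₁ (by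
      rw [ofPt_comp, Over.comp_left, Scheme.Hom.comp_apply, hz1]
      exact hm) sqD
    obtain ⟨d₁, hd₁⟩ : ∃ d₁ : D ⟶ L, d₁ = d ≫ pullback.fst l (β ≫ kl) := ⟨_, rfl⟩
    obtain ⟨d₂, hd₂⟩ : ∃ d₂ : D ⟶ B, d₂ = d ≫ pullback.snd l (β ≫ kl) := ⟨_, rfl⟩
    have hd : d₁ ≫ l = d₂ ≫ β ≫ kl := by
      rw [hd₁, hd₂, Category.assoc, Category.assoc, pullback.condition]
    have hd3 : d ≫ pullback.fst l (β ≫ kl) ≫ l ≫ τ = d₁ ≫ l ≫ τ := by rw [hd₁, Category.assoc]
    have e4 : (yon S).map d₁ ≫ y₁ = zD ≫ s := by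
      refine c.hs' _ _ ?_
      rw [Category.assoc, hy₁, sqD.w, ← Category.assoc, ← Category.assoc, ← Functor.map_comp, ← Functor.map_comp,
        hd3]
    have hd' : d₁ ≫ l ≫ τ = d₂ ≫ β ≫ kr ≫ ι ≫ γ := by
      rw [← Category.assoc d₁, hd, Category.assoc, Category.assoc, sq.w]
    have e5 : (yon S).map (d₂ ≫ β ≫ kr ≫ ι) ≫ y = zD ≫ s := by
      refine c.hs' _ _ ?_
      have h7 : (d₂ ≫ β ≫ kr ≫ ι) ≫ γ = d ≫ pullback.fst l (β ≫ kl) ≫ l ≫ τ := by
        rw [Category.assoc, Category.assoc, Category.assoc, ← hd', hd3]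
      rw [Category.assoc, ← w, sqD.w, ← Category.assoc, ← Category.assoc ((yon S).map d), ← Functor.map_comp, h7,
        Functor.map_comp]
    have e6 : (yon S).map (d₂ ≫ β ≫ kr ≫ ι) ≫ pullback.lift ((yon S).map γ) y w =
        (yon S).map d₁ ≫ pullback.lift ((yon S).map (l ≫ τ)) y₁ hy₁.symm := by
      apply pullback.hom_ext
      · rw [Category.assoc, Category.assoc, pullback.lift_fst, pullback.lift_fst, ← Functor.map_comp,
          ← Functor.map_comp, hd']
        simp only [Category.assoc]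
      · rw [Category.assoc, Category.assoc, pullback.lift_snd, pullback.lift_snd, e4, e5]
    obtain ⟨e, he⟩ := (yon S).map_surjective (sqH.lift _ _ e6)
    have he1 : e ≫ hG = d₂ ≫ β ≫ kr ≫ ι := by
      apply (yon S).map_injective
      rw [Functor.map_comp, he, sqH.lift_fst]
    have he2 : e ≫ hL = d₁ := by
      apply (yon S).map_injective
      rw [Functor.map_comp, he, sqH.lift_snd]
    let e₀ : D ⟶ H₀ := pullback.lift e (d₂ ≫ β ≫ kr) (by rw [he1]; simp only [Category.assoc])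
    have he₀1 : e₀ ≫ pullback.fst hG ι = e := pullback.lift_fst _ _ _
    have he₀2 : e₀ ≫ pullback.snd hG ι = d₂ ≫ β ≫ kr := pullback.lift_snd _ _ _
    have hk : e₀ ≫ k₀ = d₂ ≫ β := by
      apply sq.hom_ext
      · rw [Category.assoc, k₀l, ← Category.assoc, he₀1, ← Category.assoc, he2, hd, Category.assoc]
      · rw [Category.assoc, k₀r, he₀2, Category.assoc]
    let e₁ : D ⟶ L' := pullback.lift e₀ d₂ hk
    have he₁ : e₁ ≫ pullback.fst k₀ β = e₀ := pullback.lift_fst _ _ _
    refine ⟨e₁.left z₂, ?_⟩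
    rw [← Scheme.Hom.comp_apply, ← Over.comp_left, ← Category.assoc, he₁, ← Category.assoc, he₀1, he2, hd₁,
      Over.comp_left, Scheme.Hom.comp_apply, hz2, hz1]
  · rw [← Category.assoc, ← pullback.condition, Category.assoc, k₀l]
    simp only [Category.assoc]
  · have h1 : pullback.snd k₀ β ≫ β ≫ kr ≫ ι = pullback.fst k₀ β ≫ pullback.fst hG ι ≫ hG := by
      rw [← Category.assoc, ← pullback.condition, Category.assoc, ← Category.assoc k₀, k₀r, pullback.condition]
    rw [← Category.assoc, ← Functor.map_comp, h1, Functor.map_comp, Functor.map_comp, Category.assoc,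
      Category.assoc, e2, Functor.map_comp, Functor.map_comp, Category.assoc, Category.assoc]

end K616.GCfg
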