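import Mathlib.RingTheory.Flat.Stability
import Mathlib.RingTheory.TensorProduct.Basic
import Mathlib.RingTheory.Ideal.Operations
import Mathlib.RingTheory.Finiteness.Ideal
import Mathlib.LinearAlgebra.TensorProduct.Pi

/-!
# Torsion in the kernel of multiplication

Let `A → B` be flat, `I` a finitely generated ideal of `A` with `B = A + I B`. An `I`-power torsion element of
`B ⊗ B` in the kernel of the multiplication is `0`.
-/

set_option autoImplicit false
universe u
open TensorProduct

namespace K616.TorsKer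

variable {A B : Type u} [CommRing A] [CommRing B] [Algebra A B] {I : Ideal A}

theorem sub_mem_pow (h : ∀ b : B, ∃ a : A, b - algebraMap A B a ∈ (I • ⊤ : Submodule A B)) (n : ℕ) :
    ∀ b : B, ∃ a : A, b - algebraMap A B a ∈ (I ^ n • ⊤ : Submodule A B) := by
  induction n with
  | zero =>
    intro b
    refine ⟨0, ?_⟩
    rw [pow_zero, Ideal.one_eq_top, Submodule.top_smul]
    trivial
  | succ n ih =>
    have key : ∀ y ∈ (I • ⊤ : Submodule A B), ∃ a : A, y - algebraMap A B a ∈ (I ^ (n + 1) • ⊤ : Submodule A B) := by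
      intro y hy
      refine Submodule.smul_induction_on (p := fun y => ∃ a : A, y - algebraMap A B a ∈
        (I ^ (n + 1) • ⊤ : Submodule A B)) hy ?_ ?_
      · intro i hi b _
        obtain ⟨a, ha⟩ := ih b
        refine ⟨i * a, ?_⟩
        have h1 : i • b - algebraMap A B (i * a) = i • (b - algebraMap A B a) := by
          rw [smul_sub, Algebra.smul_def i (algebraMap A B a), map_mul]
        rw [h1, pow_succ', Submodule.mul_smul]
        exact Submodule.smul_mem_smul hi ha
      · rintro x y ⟨a, ha⟩ ⟨a', ha'⟩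
        refine ⟨a + a', ?_⟩
        have h1 : x + y - algebraMap A B (a + a') = (x - algebraMap A B a) + (y - algebraMap A B a') := by
          rw [map_add]; ring
        rw [h1]
        exact Submodule.add_mem _ ha ha'
    intro b
    obtain ⟨a, ha⟩ := h b
    obtain ⟨a', ha'⟩ := key _ ha
    refine ⟨a + a', ?_⟩
    have h1 : b - algebraMap A B (a + a') = b - algebraMap A B a - algebraMap A B a' := by
      rw [map_add]; ring
    rw [h1]
    exact ha'

/-- Elements of a flat module killed by a finite family come from elements of the ring killed by it. -/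
theorem mem_of_smul_eq_zero {D : Type u} [AddCommGroup D] [Module A D] [Module.Flat A D] {ι : Type*} [Finite ι]
    (g : ι → A) (x : D) (hx : ∀ j, g j • x = 0) :
    x ∈ ((⨅ j, LinearMap.ker (LinearMap.lsmul A A (g j)) : Ideal A) • ⊤ : Submodule A D) := by
  classical
  have := Fintype.ofFinite ι
  let M : Ideal A := ⨅ j, LinearMap.ker (LinearMap.lsmul A A (g j))
  let ψ : A →ₗ[A] (ι → A) := LinearMap.pi fun j => LinearMap.lsmul A A (g j)
  have hex : Function.Exact M.subtype ψ := by
    intro a
    constructor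
    · intro ha
      refine ⟨⟨a, ?_⟩, rfl⟩
      refine (Submodule.mem_iInf _).2 fun j => ?_
      exact congrFun ha j
    · rintro ⟨⟨a, ha⟩, rfl⟩
      funext j
      exact (Submodule.mem_iInf _).1 ha j
  have hex' := Module.Flat.lTensor_exact D hex
  have h0 : (ψ.lTensor D) (x ⊗ₜ[A] (1 : A)) = 0 := by
    rw [LinearMap.lTensor_tmul]
    apply (TensorProduct.piRight A A D (fun _ : ι => A)).injective
    rw [map_zero]
    funext j
    rw [TensorProduct.piRight_apply, TensorProduct.piRightHom_tmul]
    change x ⊗ₜ[A] (g j * 1) = 0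
    rw [mul_comm, ← smul_eq_mul, one_smul]
    have h1 : x ⊗ₜ[A] (g j) = (g j • x) ⊗ₜ[A] (1 : A) := by
      rw [TensorProduct.smul_tmul, smul_eq_mul, mul_one]
    rw [h1, hx, TensorProduct.zero_tmul]
  obtain ⟨y, hy⟩ := (hex' _).1 h0
  have h2 : ∀ y : D ⊗[A] M, TensorProduct.rid A D ((M.subtype.lTensor D) y) ∈ (M • ⊤ : Submodule A D) := by
    intro y
    induction y with
    | zero => rw [map_zero, map_zero]; exact Submodule.zero_mem _
    | add y z hy hz => rw [map_add, map_add]; exact Submodule.add_mem _ hy hz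
    | tmul d m =>
      rw [LinearMap.lTensor_tmul, TensorProduct.rid_tmul]
      exact Submodule.smul_mem_smul m.2 trivial
  have h3 := h2 y
  rw [hy, TensorProduct.rid_tmul, one_smul] at h3
  exact h3

theorem eq_zero_of_tors [Module.Flat A B] (hI : I.FG)
    (h : ∀ b : B, ∃ a : A, b - algebraMap A B a ∈ (I • ⊤ : Submodule A B)) {ι : Type*} [Finite ι]
    (g : ι → A) (hg : I ≤ (Ideal.span (Set.range g)).radical) (x : B ⊗[A] B)
    (hx : ∀ j, g j • x = 0) (hμ : Algebra.TensorProduct.lmul' A (S := B) x = 0) : x = 0 := by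
  let K : Ideal A := Ideal.span (Set.range g)
  obtain ⟨n, hn⟩ := Ideal.exists_pow_le_of_le_radical_of_fg hg hI
  -- every element of `B ⊗ B` is `b ⊗ 1` modulo `K`
  have h1 : ∀ d : B ⊗[A] B, ∃ b : B, d - b ⊗ₜ[A] (1 : B) ∈ (K • ⊤ : Submodule A (B ⊗[A] B)) := by
    intro d
    induction d with
    | zero => exact ⟨0, by simp⟩
    | add y z hy hz =>
      obtain ⟨b, hb⟩ := hy
      obtain ⟨b', hb'⟩ := hz
      refine ⟨b + b', ?_⟩
      have e : y + z - (b + b') ⊗ₜ[A] (1 : B) = (y - b ⊗ₜ[A] (1 : B)) + (z - b' ⊗ₜ[A] (1 : B)) := by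
        rw [TensorProduct.add_tmul]; abel
      rw [e]
      exact Submodule.add_mem _ hb hb'
    | tmul b b' =>
      obtain ⟨a, ha⟩ := sub_mem_pow h n b'
      refine ⟨a • b, ?_⟩
      have e : b ⊗ₜ[A] b' - (a • b) ⊗ₜ[A] (1 : B) = b ⊗ₜ[A] (b' - algebraMap A B a) := by
        rw [TensorProduct.tmul_sub, TensorProduct.smul_tmul, Algebra.algebraMap_eq_smul_one]
      rw [e]
      have h2 : ∀ y ∈ (I ^ n • ⊤ : Submodule A B), b ⊗ₜ[A] y ∈ (K • ⊤ : Submodule A (B ⊗[A] B)) := by
        intro y hy
        refine Submodule.smul_induction_on (p := fun y => b ⊗ₜ[A] y ∈ (K • ⊤ : Submodule A (B ⊗[A] B))) hy ?_ ?_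
        · intro i hi c _
          rw [TensorProduct.tmul_smul]
          exact Submodule.smul_mem_smul (hn hi) trivial
        · intro c c' hc hc'
          rw [TensorProduct.tmul_add]
          exact Submodule.add_mem _ hc hc'
      exact h2 _ ha
  -- `x` is `b ⊗ 1`
  have h2 := mem_of_smul_eq_zero g x hx
  have h3 : ∃ b : B, x = b ⊗ₜ[A] (1 : B) := by
    refine Submodule.smul_induction_on (p := fun x => ∃ b : B, x = b ⊗ₜ[A] (1 : B)) h2 ?_ ?_
    · intro a ha d _
      obtain ⟨b, hb⟩ := h1 d
      refine ⟨a • b, ?_⟩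
      have h4 : ∀ z ∈ (K • ⊤ : Submodule A (B ⊗[A] B)), a • z = 0 := by
        intro z hz
        refine Submodule.smul_induction_on (p := fun z => a • z = 0) hz ?_ ?_
        · intro k hk c _
          have h5 : K ≤ LinearMap.ker (LinearMap.mulRight A a) := by
            refine Ideal.span_le.2 ?_
            rintro _ ⟨j, rfl⟩
            exact (Submodule.mem_iInf _).1 ha j
          have h6 : k * a = 0 := h5 hk
          rw [← mul_smul, mul_comm, h6, zero_smul]
        · intro y z hy hz
          rw [smul_add, hy, hz, add_zero]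
      have h5 := h4 _ hb
      rw [smul_sub, sub_eq_zero] at h5
      rw [h5, TensorProduct.smul_tmul']
    · rintro y z ⟨b, rfl⟩ ⟨b', rfl⟩
      exact ⟨b + b', (TensorProduct.add_tmul _ _ _).symm⟩
  obtain ⟨b, rfl⟩ := h3
  rw [Algebra.TensorProduct.lmul'_apply_tmul, mul_one] at hμ
  rw [hμ, TensorProduct.zero_tmul]

end K616.TorsKer
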