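import Groth.Agent.AlgSp.K616.GSol
import Groth.Agent.AlgSp.K616.GLoc3
import Groth.Agent.AlgSp.K616.TorsKer

/-!
# Glueing of morphisms: the descent datum on local data
-/

set_option autoImplicit false
universe u
open CategoryTheory CategoryTheory.Limits AlgebraicGeometry Opposite TensorProduct

namespace K616.GCfg

open AlgSp K616.Refine K616.Inv K616.BaseChange

variable {S : Scheme.{u}}

theorem eq_zero_of_appTop {D E : Type u} [CommRing D] [CommRing E] (ψ : D →+* E) (x : D)
    (h : (Spec.map (CommRingCat.ofHom ψ)).appTop.hom ((Scheme.ΓSpecIso (CommRingCat.of D)).inv.hom x) = 0) :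
    ψ x = 0 := by
  have h1 : (Spec.map (CommRingCat.ofHom ψ)).appTop.hom ((Scheme.ΓSpecIso (CommRingCat.of D)).inv.hom x) =
      (Scheme.ΓSpecIso (CommRingCat.of E)).inv.hom (ψ x) := by
    have := Scheme.ΓSpecIso_inv_naturality (CommRingCat.ofHom ψ)
    exact (congrArg (fun k => k.hom x) this).symm
  rw [h1] at h
  have h2 : Function.Injective (Scheme.ΓSpecIso (CommRingCat.of E)).inv.hom :=
    ((ConcreteCategory.isIso_iff_bijective _).1 inferInstance).injective
  exact h2 (h.trans (map_zero _).symm)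

theorem tl_sh {A A' C : Type u} [CommRing A] [CommRing A'] [CommRing C] [Algebra A A'] [Algebra A C]
    (str : Spec (CommRingCat.of A) ⟶ S) :
    tl A' C str ≫ sh (algebraMap A A') str = sh (algebraMap A (A' ⊗[A] C)) str := by
  apply Over.OverMorphism.ext
  change Spec.map _ ≫ Spec.map _ = Spec.map _
  rw [← Spec.map_comp, ← CommRingCat.ofHom_comp]

variable {X Y Z U : Sp S} {f : Y ⟶ X} {i : Z ⟶ X} {s : Z ⟶ Y} {j : U ⟶ X} {D : GData f j}

namespace GData

/-- The value on `Spec B` satisfies the descent condition. -/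
theorem diag_eq (c : Cfg f i s j) (hq : IsSeparatedMor D.q) {A B : Type u} [CommRing A] [CommRing B] [Algebra A B]
    {str : Spec (CommRingCat.of A) ⟶ S} {m : (yon S).obj (Over.mk str) ⟶ D.M}
    {y : (yon S).obj (so (algebraMap A B) str) ⟶ Y} {I : Ideal A}
    (hd : LocData f i str (m ≫ D.p) (algebraMap A B) y I)
    (v₀ : (yon S).obj (so (algebraMap A B) str) ⟶ D.PY) (hv₀ : v₀ ≫ D.kM = (yon S).map (sh (algebraMap A B) str) ≫ m)
    (R : Over S) (x x' : R ⟶ so (algebraMap A B) str) (hx : x ≫ sh (algebraMap A B) str = x' ≫ sh (algebraMap A B) str) :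
    (yon S).map x ≫ v₀ ≫ D.σY = (yon S).map x' ≫ v₀ ≫ D.σY := by
  -- reduce to the universal case
  suffices H : (yon S).map (tl B B str) ≫ v₀ ≫ D.σY = (yon S).map (tr B B str) ≫ v₀ ≫ D.σY by
    have sq := isPullback_tensor B B str
    have h1 := sq.lift_fst x x' hx
    have h2 := sq.lift_snd x x' hx
    calc (yon S).map x ≫ v₀ ≫ D.σY = (yon S).map (sq.lift x x' hx) ≫ (yon S).map (tl B B str) ≫ v₀ ≫ D.σY := by
          rw [← Functor.map_comp_assoc, h1]
      _ = (yon S).map x' ≫ v₀ ≫ D.σY := by rw [H, ← Functor.map_comp_assoc, h2]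
  have hov : (v₀ ≫ D.σY) ≫ D.q = (yon S).map (sh (algebraMap A B) str) ≫ m ≫ D.p := by
    rw [Category.assoc, D.hσY, ← Category.assoc, hv₀, Category.assoc]
  have htr : tr B B str ≫ sh (algebraMap A B) str = sh (algebraMap A (B ⊗[A] B)) str := by
    rw [← (isPullback_tensor B B str).w, tl_sh]
  have hτ : ((yon S).map (tl B B str) ≫ v₀ ≫ D.σY) ≫ D.q = ((yon S).map (tr B B str) ≫ v₀ ≫ D.σY) ≫ D.q := by
    rw [Category.assoc, hov, Category.assoc, hov, ← Functor.map_comp_assoc, ← Functor.map_comp_assoc, tl_sh, htr]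
  obtain ⟨J, hJ1, hJ2⟩ := K616.SepEq.exists_ideal hq (D := B ⊗[A] B)
    (Spec.map (CommRingCat.ofHom (algebraMap A (B ⊗[A] B))) ≫ str) _ _ hτ
  refine hJ2 ((Submodule.eq_bot_iff _).2 fun x hxJ => ?_)
  have : Module.Flat A B := RingHom.flat_algebraMap_iff.1 hd.flat
  -- generators
  obtain ⟨n, g, hg⟩ := Submodule.fg_iff_exists_fin_generating_family.1 hd.fg
  -- killed by powers of the generators
  have hk : ∀ k : Fin n, ∃ e : ℕ, g k ^ e • x = 0 := by
    intro k
    let r : B ⊗[A] B := algebraMap A (B ⊗[A] B) (g k)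
    let ψ : B ⊗[A] B →+* Localization.Away r := algebraMap _ _
    let str₂ : Spec (CommRingCat.of (B ⊗[A] B)) ⟶ S := Spec.map (CommRingCat.ofHom (algebraMap A (B ⊗[A] B))) ≫ str
    let γ : so ψ str₂ ⟶ Over.mk str₂ := sh ψ str₂
    obtain ⟨v, hv⟩ := exists_lift_PU c ((yon S).map (γ ≫ sh (algebraMap A (B ⊗[A] B)) str) ≫ m) (by
      intro t ht
      rw [Category.assoc, ofPt_comp] at ht
      have h1 := (hd.mem _).1 ht
      have h2 : g k ∈ I := by
        rw [← hg]
        exact Submodule.subset_span ⟨k, rfl⟩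
      have h3 := h1 h2
      have h4 : ψ r ∈ PrimeSpectrum.asIdeal t := h3
      exact (PrimeSpectrum.isPrime t).ne_top (Ideal.eq_top_of_isUnit_mem _ h4
        (IsLocalization.Away.algebraMap_isUnit r)))
    have key : ∀ (w : Over.mk str₂ ⟶ so (algebraMap A B) str)
        (_ : w ≫ sh (algebraMap A B) str = sh (algebraMap A (B ⊗[A] B)) str),
        (yon S).map γ ≫ (yon S).map w ≫ v₀ ≫ D.σY = v ≫ D.σU := by
      intro w hw
      have h1 := D.hc v ((yon S).map (γ ≫ w) ≫ v₀) (by
        rw [hv, Category.assoc, hv₀, ← Category.assoc, ← Functor.map_comp, Category.assoc, hw])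
      rw [h1, Functor.map_comp, Category.assoc, Category.assoc]
    have h1 := hJ1 _ γ ((key _ (tl_sh str)).trans (key _ htr).symm) x hxJ
    have h2 : ψ x = 0 := eq_zero_of_appTop ψ x h1
    obtain ⟨⟨_, e, rfl⟩, he⟩ := (IsLocalization.map_eq_zero_iff (Submonoid.powers r) (Localization.Away r) x).1 h2
    refine ⟨e, ?_⟩
    rw [Algebra.smul_def, map_pow]
    exact he
  choose e he using hk
  -- in the kernel of the multiplication
  have hμ : Algebra.TensorProduct.lmul' A (S := B) x = 0 := by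
    let ψ : B ⊗[A] B →+* B := (Algebra.TensorProduct.lmul' A (S := B)).toRingHom
    let δ : so (algebraMap A B) str ⟶ so (algebraMap A (B ⊗[A] B)) str :=
      Over.homMk (Spec.map (CommRingCat.ofHom ψ)) (by
        change Spec.map _ ≫ Spec.map _ ≫ str = Spec.map _ ≫ str
        rw [← Spec.map_comp_assoc, ← CommRingCat.ofHom_comp]
        congr 3
        ext a
        exact (Algebra.TensorProduct.lmul' A (S := B)).commutes a)
    have h1 : δ ≫ tl B B str = 𝟙 _ := by
      apply Over.OverMorphism.ext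
      change Spec.map _ ≫ Spec.map _ = 𝟙 _
      rw [← Spec.map_comp, ← CommRingCat.ofHom_comp, ← Spec.map_id]
      congr 1
      ext b
      change Algebra.TensorProduct.lmul' A (S := B) (b ⊗ₜ 1) = b
      rw [Algebra.TensorProduct.lmul'_apply_tmul, mul_one]
    have h2 : δ ≫ tr B B str = 𝟙 _ := by
      apply Over.OverMorphism.ext
      change Spec.map _ ≫ Spec.map _ = 𝟙 _
      rw [← Spec.map_comp, ← CommRingCat.ofHom_comp, ← Spec.map_id]
      congr 1
      ext b
      change Algebra.TensorProduct.lmul' A (S := B) (1 ⊗ₜ b) = b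
      rw [Algebra.TensorProduct.lmul'_apply_tmul, one_mul]
    have h3 := hJ1 _ δ (by
      rw [← Functor.map_comp_assoc, ← Functor.map_comp_assoc, h1, h2]) x hxJ
    exact eq_zero_of_appTop ψ x h3
  refine K616.TorsKer.eq_zero_of_tors (I := I) hd.fg (fun b => ?_) (fun k => g k ^ e k) ?_ x he hμ
  · obtain ⟨a, ha⟩ := hd.adic b
    refine ⟨a, ?_⟩
    rw [Ideal.smul_top_eq_map]
    exact ha
  · have h1 : I = Ideal.span (Set.range g) := hg.symm
    rw [h1, Ideal.span_le]
    rintro _ ⟨k, rfl⟩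
    exact ⟨e k, Ideal.subset_span ⟨k, rfl⟩⟩

end GData

end K616.GCfg
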