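import Groth.Agent.AlgSp.K616.GCfg

/-!
# Glueing configurations: charts over `Z`

* `isPullback_of_postcomp`: a commutative square over `W` which is cartesian over `T` is cartesian.
* `Cfg.etale_over_Z`: for a chart `G` of `T ×_X Y` and `L ⟶ T` over `Z` the map `G ×_T L ⟶ L` is étale.
-/

set_option autoImplicit false
universe u v w
open CategoryTheory CategoryTheory.Limits AlgebraicGeometry Opposite

namespace K616.GCfg

open AlgSp K616.Refine K616.Inv K616.BaseChange

theorem isPullback_of_postcomp {C : Type v} [Category.{w} C] {P G L W T : C} {p : P ⟶ G} {q : P ⟶ L}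
    {a : G ⟶ W} {b : L ⟶ W} (m : W ⟶ T) {γ : G ⟶ T} {l : L ⟶ T} (hγ : a ≫ m = γ) (hl : b ≫ m = l)
    (sq : IsPullback p q γ l) (h : p ≫ a = q ≫ b) : IsPullback p q a b := by
  refine ⟨⟨h⟩, ⟨PullbackCone.IsLimit.mk _ (fun c => sq.lift c.fst c.snd ?_) (fun c => sq.lift_fst _ _ _)
    (fun c => sq.lift_snd _ _ _) fun c m' h1 h2 => ?_⟩⟩
  · rw [← hγ, ← hl, ← Category.assoc, ← Category.assoc, c.condition]
  · apply sq.hom_ext
    · rw [h1, sq.lift_fst]
    · rw [h2, sq.lift_snd]

variable {S : Scheme.{u}} {X Y Z U : Sp S} {f : Y ⟶ X} {i : Z ⟶ X} {s : Z ⟶ Y} {j : U ⟶ X}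

namespace Cfg

/-- The two maps to `Y` agree over `Z`. -/
theorem eq_over_Z (c : Cfg f i s j) {T L G : Over S} {x : (yon S).obj T ⟶ X} {γ : G ⟶ T}
    {y : (yon S).obj G ⟶ Y} (w : (yon S).map γ ≫ x = y ≫ f) {l : L ⟶ T} {z : (yon S).obj L ⟶ Z}
    (hz : z ≫ i = (yon S).map l ≫ x) {P : Over S} {p : P ⟶ G} {q : P ⟶ L} (h : p ≫ γ = q ≫ l) :
    (yon S).map p ≫ y = (yon S).map q ≫ z ≫ s := by
  rw [← Category.assoc ((yon S).map q)]
  refine c.hs' _ _ ?_
  rw [Category.assoc, Category.assoc, ← w, hz, ← Category.assoc, ← Category.assoc, ← Functor.map_comp,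
    ← Functor.map_comp, h]

theorem etale_over_Z (c : Cfg f i s j) {T L G : Over S} {x : (yon S).obj T ⟶ X} {γ : G ⟶ T}
    {y : (yon S).obj G ⟶ Y} (w : (yon S).map γ ≫ x = y ≫ f)
    (ha : RepWith @Etale (pullback.lift ((yon S).map γ) y w)) {l : L ⟶ T} {z : (yon S).obj L ⟶ Z}
    (hz : z ≫ i = (yon S).map l ≫ x) {P : Over S} {p : P ⟶ G} {q : P ⟶ L} (sq : IsPullback p q γ l) :
    Etale q.left := by
  have w' : (yon S).map l ≫ x = (z ≫ s) ≫ f := by rw [Category.assoc, c.hs, hz]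
  have h1 : IsPullback ((yon S).map p) ((yon S).map q) (pullback.lift ((yon S).map γ) y w)
      (pullback.lift ((yon S).map l) (z ≫ s) w') := by
    refine isPullback_of_postcomp (pullback.fst x f) (pullback.lift_fst _ _ _) (pullback.lift_fst _ _ _)
      (sq.map (yon S)) ?_
    apply pullback.hom_ext
    · rw [Category.assoc, Category.assoc, pullback.lift_fst, pullback.lift_fst, ← Functor.map_comp,
        ← Functor.map_comp, sq.w]
    · rw [Category.assoc, Category.assoc, pullback.lift_snd, pullback.lift_snd]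
      exact c.eq_over_Z w hz sq.w
  exact ha.property _ _ _ h1

end Cfg

end K616.GCfg
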