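import Groth.Agent.S10207
import Groth.Agent.AlgSp.K630.FpqcBasic
import Groth.Agent.AlgSp.K635.Glue

/-!
# Gluing maps from affine schemes to algebraic spaces along finite flat families
-/

set_option autoImplicit false
universe u
open CategoryTheory CategoryTheory.Limits AlgebraicGeometry Opposite

namespace K616.GFpqc

open AlgSp K635.Glue

variable {S : Scheme.{u}}

theorem ofArrows_mem_over {T : Over S} [IsAffine T.left] {κ : Type} [Finite κ] (W : κ → Over S)
    (c : ∀ k, W k ⟶ T) (hW : ∀ k, IsAffine (W k).left) (hc : ∀ k, Flat (c k).left)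
    (hs : ∀ z : T.left, ∃ k, z ∈ Set.range (c k).left) :
    Sieve.ofArrows W c ∈ (Scheme.fpqcTopology.over S) T := by
  rw [GrothendieckTopology.mem_over_iff, Sieve.overEquiv_ofArrows]
  obtain ⟨m, ⟨e⟩⟩ := Finite.exists_equiv_fin κ
  have h1 := K630.ofArrows_mem_fpqcTopology (Z := T.left) (fun k : Fin m => (W (e.symm k)).left)
    (fun k => (c (e.symm k)).left) (fun k => hW _) (fun k => hc _) (fun z => by
      obtain ⟨k, hk⟩ := hs z
      exact ⟨e k, by rw [e.symm_apply_apply]; exact hk⟩)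
  refine Scheme.fpqcTopology.superset_covering ?_ h1
  rw [Sieve.ofArrows, Sieve.generate_le_iff]
  rintro Y f ⟨k⟩
  exact Sieve.ofArrows_mk (fun k => (W k).left) (fun k => (c k).left) (e.symm k)

/-- Descent of maps to an algebraic space along a finite flat family of affine schemes over an affine scheme. -/
theorem existsUnique_glue {N : Sp S} (hN : IsAlgSpace N) {T : Over S} [IsAffine T.left] {κ : Type} [Finite κ]
    (W : κ → Over S) (c : ∀ k, W k ⟶ T) (hW : ∀ k, IsAffine (W k).left) (hc : ∀ k, Flat (c k).left)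
    (hs : ∀ z : T.left, ∃ k, z ∈ Set.range (c k).left) (b : ∀ k, (yon S).obj (W k) ⟶ N)
    (hb : ∀ (k l : κ) (R : Over S) (x : R ⟶ W k) (y : R ⟶ W l), x ≫ c k = y ≫ c l →
      (yon S).map x ≫ b k = (yon S).map y ≫ b l) :
    ∃! a : (yon S).obj T ⟶ N, ∀ k, (yon S).map (c k) ≫ a = b k := by
  have h1 : Presieve.IsSheaf (Scheme.fpqcTopology.over S) N.obj :=
    (isSheaf_iff_isSheaf_of_type _ _).1 (Groth.Agent.S10207.result (⟨N, hN⟩ : AlgSp.Space S))
  have h2 := h1 _ (ofArrows_mem_over W c hW hc hs)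
  rw [Sieve.ofArrows, ← Presieve.isSheafFor_iff_generate, Presieve.isSheafFor_arrows_iff] at h2
  obtain ⟨t, ht, hu⟩ := h2 (fun k => secEquiv N (W k) (b k)) (fun k l R x y hxy => by
    dsimp only
    rw [← secEquiv_map, ← secEquiv_map, hb k l R x y hxy])
  refine ⟨(secEquiv N T).symm t, fun k => ?_, fun a ha => ?_⟩
  · rw [← secEquiv_symm_map, ht k, Equiv.symm_apply_apply]
  · rw [← hu (secEquiv N T a) (fun k => by rw [← secEquiv_map, ha k]), Equiv.symm_apply_apply]

theorem hom_ext {N : Sp S} (hN : IsAlgSpace N) {T : Over S} [IsAffine T.left] {κ : Type} [Finite κ]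
    (W : κ → Over S) (c : ∀ k, W k ⟶ T) (hW : ∀ k, IsAffine (W k).left) (hc : ∀ k, Flat (c k).left)
    (hs : ∀ z : T.left, ∃ k, z ∈ Set.range (c k).left) {a a' : (yon S).obj T ⟶ N}
    (h : ∀ k, (yon S).map (c k) ≫ a = (yon S).map (c k) ≫ a') : a = a' := by
  obtain ⟨t, -, hu⟩ := existsUnique_glue hN W c hW hc hs (fun k => (yon S).map (c k) ≫ a) (by
    intro k l R x y hxy
    rw [← Category.assoc, ← Category.assoc, ← Functor.map_comp, ← Functor.map_comp, hxy])
  rw [hu a fun k => rfl, hu a' fun k => (h k).symm]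

end K616.GFpqc
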