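import Groth.Agent.AlgSp.K616.GDesc
import Groth.Agent.AlgSp.K616.GFpqc

/-!
# Glueing of morphisms: existence of solutions on local data
-/

set_option autoImplicit false
universe u
open CategoryTheory CategoryTheory.Limits AlgebraicGeometry Opposite TensorProduct

namespace K616.GCfg

open AlgSp K616.Refine K616.Inv K616.BaseChange

variable {S : Scheme.{u}} {X Y Z U : Sp S} {f : Y ⟶ X} {i : Z ⟶ X} {s : Z ⟶ Y} {j : U ⟶ X} {D : GData f j}

namespace GData

/-- The charts used: `Spec B` and the basic opens `D(g k)`. -/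
noncomputable def cW {A B : Type u} [CommRing A] [CommRing B] (φ : A →+* B) (str : Spec (CommRingCat.of A) ⟶ S)
    {n : ℕ} (g : Fin n → A) : Option (Fin n) → Over S
  | none => so φ str
  | some k => so (algebraMap A (Localization.Away (g k))) str

noncomputable def cc {A B : Type u} [CommRing A] [CommRing B] (φ : A →+* B) (str : Spec (CommRingCat.of A) ⟶ S)
    {n : ℕ} (g : Fin n → A) : ∀ o, cW φ str g o ⟶ Over.mk str
  | none => sh φ str
  | some k => sh (algebraMap A (Localization.Away (g k))) str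

/-- the family of values -/
def cb {A B : Type u} [CommRing A] [CommRing B] {φ : A →+* B} {str : Spec (CommRingCat.of A) ⟶ S}
    {n : ℕ} {g : Fin n → A} {N : Sp S} (b₀ : (yon S).obj (so φ str) ⟶ N)
    (b : ∀ k, (yon S).obj (so (algebraMap A (Localization.Away (g k))) str) ⟶ N) :
    ∀ o, (yon S).obj (cW φ str g o) ⟶ N
  | none => b₀
  | some k => b k

theorem isAffine_cW {A B : Type u} [CommRing A] [CommRing B] (φ : A →+* B) (str : Spec (CommRingCat.of A) ⟶ S)
    {n : ℕ} (g : Fin n → A) : ∀ o, IsAffine (cW φ str g o).left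
  | none => inferInstanceAs (IsAffine (Spec (CommRingCat.of B)))
  | some k => inferInstanceAs (IsAffine (Spec (CommRingCat.of (Localization.Away (g k)))))

theorem flat_cc {A B : Type u} [CommRing A] [CommRing B] (φ : A →+* B) (hφ : φ.Flat)
    (str : Spec (CommRingCat.of A) ⟶ S) {n : ℕ} (g : Fin n → A) : ∀ o, Flat (cc φ str g o).left
  | none => by
    change Flat (Spec.map (CommRingCat.ofHom φ))
    rw [Flat.SpecMap_iff]
    exact hφ
  | some k => by
    change Flat (Spec.map (CommRingCat.ofHom (algebraMap A (Localization.Away (g k)))))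
    rw [Flat.SpecMap_iff]
    exact RingHom.flat_algebraMap_iff.2 (IsLocalization.flat _ (Submonoid.powers (g k)))

theorem mem_range_away {A : Type u} [CommRing A] (g : A) (z : PrimeSpectrum A) (h : g ∉ z.asIdeal) :
    ∃ z' : PrimeSpectrum (Localization.Away g), z'.comap (algebraMap A (Localization.Away g)) = z := by
  have h1 := PrimeSpectrum.localization_away_comap_range (Localization.Away g) g
  have h2 : z ∈ (PrimeSpectrum.basicOpen g : Set (PrimeSpectrum A)) := h
  rw [← h1] at h2
  exact h2

theorem surj_cc {A B : Type u} [CommRing A] [CommRing B] (φ : A →+* B)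
    (str : Spec (CommRingCat.of A) ⟶ S) {n : ℕ} (g : Fin n → A) (I : Ideal A) (hg : Ideal.span (Set.range g) = I)
    (hp : ∀ p : PrimeSpectrum A, I ≤ p.asIdeal → ∃ b : PrimeSpectrum B, b.asIdeal.comap φ = p.asIdeal)
    (z : (Over.mk str).left) : ∃ o, z ∈ Set.range (cc φ str g o).left := by
  by_cases hz : I ≤ PrimeSpectrum.asIdeal z
  · obtain ⟨b, hb⟩ := hp z hz
    exact ⟨none, b, PrimeSpectrum.ext hb⟩
  · rw [← hg, Ideal.span_le, Set.range_subset_iff, not_forall] at hz
    obtain ⟨k, hk⟩ := hz
    obtain ⟨z', hz'⟩ := mem_range_away (g k) z hk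
    exact ⟨some k, z', hz'⟩

theorem exists_sol (c : Cfg f i s j) (hN : IsAlgSpace D.N) (hq : IsSeparatedMor D.q) {A B : Type u} [CommRing A]
    [CommRing B] {str : Spec (CommRingCat.of A) ⟶ S} {m : (yon S).obj (Over.mk str) ⟶ D.M} {φ : A →+* B}
    {y : (yon S).obj (so φ str) ⟶ Y} {I : Ideal A} (hd : LocData f i str (m ≫ D.p) φ y I) :
    ∃ a : (yon S).obj (Over.mk str) ⟶ D.N, D.IsSol m a := by
  obtain ⟨n, g, hg⟩ := Submodule.fg_iff_exists_fin_generating_family.1 hd.fg
  have hgI : ∀ k, g k ∈ I := fun k => by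
    rw [← hg]
    exact Submodule.subset_span ⟨k, rfl⟩
  -- lifts
  have hv : ∀ k, ∃ v : (yon S).obj (so (algebraMap A (Localization.Away (g k))) str) ⟶ D.PU,
      v ≫ D.jM = (yon S).map (sh (algebraMap A (Localization.Away (g k))) str) ≫ m := by
    intro k
    refine exists_lift_PU c _ fun t ht => ?_
    rw [Category.assoc, ofPt_comp] at ht
    have h1 := (hd.mem _).1 ht
    have h4 : algebraMap A (Localization.Away (g k)) (g k) ∈ PrimeSpectrum.asIdeal t := h1 (hgI k)
    exact (PrimeSpectrum.isPrime t).ne_top (Ideal.eq_top_of_isUnit_mem _ h4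
      (IsLocalization.Away.algebraMap_isUnit (g k)))
  choose v hv using hv
  obtain ⟨v₀, hv₀, hv₀'⟩ : ∃ v₀ : (yon S).obj (so φ str) ⟶ D.PY,
      v₀ ≫ D.kM = (yon S).map (sh φ str) ≫ m ∧ v₀ ≫ D.rY = y :=
    ⟨D.sqY.lift ((yon S).map (sh φ str) ≫ m) y (by rw [Category.assoc, ← hd.w]), D.sqY.lift_fst _ _ _,
      D.sqY.lift_snd _ _ _⟩
  have hs := surj_cc φ str g I hg hd.pts
  have haff : IsAffine (Over.mk str).left := inferInstanceAs (IsAffine (Spec (CommRingCat.of A)))
  have hYU : ∀ (k : Fin n) (R : Over S) (x : R ⟶ so φ str) (x' : R ⟶ so (algebraMap A (Localization.Away (g k))) str),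
      x ≫ sh φ str = x' ≫ sh (algebraMap A (Localization.Away (g k))) str →
      (yon S).map x ≫ v₀ ≫ D.σY = (yon S).map x' ≫ v k ≫ D.σU := by
    intro k R x x' hx
    have h1 := D.hc ((yon S).map x' ≫ v k) ((yon S).map x ≫ v₀) (by
      rw [Category.assoc, Category.assoc, hv, hv₀, ← Functor.map_comp_assoc, ← Functor.map_comp_assoc, hx])
    rw [Category.assoc, Category.assoc] at h1
    exact h1.symm
  have hUU : ∀ (k l : Fin n) (R : Over S) (x : R ⟶ so (algebraMap A (Localization.Away (g k))) str)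
      (x' : R ⟶ so (algebraMap A (Localization.Away (g l))) str),
      x ≫ sh (algebraMap A (Localization.Away (g k))) str = x' ≫ sh (algebraMap A (Localization.Away (g l))) str →
      (yon S).map x ≫ v k ≫ D.σU = (yon S).map x' ≫ v l ≫ D.σU := by
    intro k l R x x' hx
    have h1 : (yon S).map x ≫ v k = (yon S).map x' ≫ v l := eq_PU c (by
      rw [Category.assoc, Category.assoc, hv, hv, ← Functor.map_comp_assoc, ← Functor.map_comp_assoc, hx])
    rw [← Category.assoc, h1, Category.assoc]
  obtain ⟨a, ha, -⟩ := K616.GFpqc.existsUnique_glue hN (cW φ str g) (cc φ str g) (isAffine_cW φ str g)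
    (flat_cc φ hd.flat str g) hs (cb (v₀ ≫ D.σY) fun k => v k ≫ D.σU) (by
      rintro (_ | k) (_ | l) R x x' hx
      · let _ := φ.toAlgebra
        exact diag_eq c hq (B := B) hd v₀ hv₀ R x x' hx
      · exact hYU l R x x' hx
      · exact (hYU k R x' x hx.symm).symm
      · exact hUU k l R x x' hx)
  have ha0 : (yon S).map (sh φ str) ≫ a = v₀ ≫ D.σY := ha none
  have hak : ∀ k, (yon S).map (sh (algebraMap A (Localization.Away (g k))) str) ≫ a = v k ≫ D.σU :=
    fun k => ha (some k)
  have hover : a ≫ D.q = m ≫ D.p := by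
    refine K616.GFpqc.hom_ext c.hX (cW φ str g) (cc φ str g) (isAffine_cW φ str g)
      (flat_cc φ hd.flat str g) hs ?_
    rintro (_ | k)
    · change (yon S).map (sh φ str) ≫ a ≫ D.q = (yon S).map (sh φ str) ≫ m ≫ D.p
      rw [← Category.assoc, ha0, Category.assoc, D.hσY, ← Category.assoc, hv₀, Category.assoc]
    · change (yon S).map (sh (algebraMap A (Localization.Away (g k))) str) ≫ a ≫ D.q = 
        (yon S).map (sh (algebraMap A (Localization.Away (g k))) str) ≫ m ≫ D.p
      rw [← Category.assoc, hak, Category.assoc, D.hσU, ← Category.assoc, hv, Category.assoc]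
  have honU : ∀ {L : Over S} (l : L ⟶ Over.mk str) (w : (yon S).obj L ⟶ D.PU), w ≫ D.jM = (yon S).map l ≫ m →
      (yon S).map l ≫ a = w ≫ D.σU := by
    intro L l w hw
    refine K616.SepEq.eq_of_flat hq ?_ fun t => ?_
    · rw [Category.assoc, hover, Category.assoc, D.hσU, ← Category.assoc w, hw, Category.assoc]
    have h1 : ¬ I ≤ PrimeSpectrum.asIdeal (l.left t) := by
      intro h1
      have h2 := (hd.mem (l.left t)).2 h1
      refine Cfg.not_mem_range_i c (m ≫ D.p) l (w ≫ D.rU) ?_ t h2
      rw [Category.assoc, ← D.sqU.w, ← Category.assoc, hw, Category.assoc]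
    rw [← hg, Submodule.span_le, Set.range_subset_iff, not_forall] at h1
    obtain ⟨k, hk⟩ := h1
    obtain ⟨z', hz'⟩ := mem_range_away (g k) (l.left t) hk
    have sq := IsPullback.of_hasPullback l (sh (algebraMap A (Localization.Away (g k))) str)
    obtain ⟨z, hz1, -⟩ := exists_pt_pullback sq t z' hz'.symm
    have hfl : Flat (sh (algebraMap A (Localization.Away (g k))) str).left := by
      change Flat (Spec.map (CommRingCat.ofHom (algebraMap A (Localization.Away (g k)))))
      rw [Flat.SpecMap_iff]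
      exact RingHom.flat_algebraMap_iff.2 (IsLocalization.flat _ (Submonoid.powers (g k)))
    refine ⟨_, pullback.fst l (sh (algebraMap A (Localization.Away (g k))) str), flat_fst sq hfl, ⟨z, hz1⟩, ?_⟩
    have h2 : (yon S).map (pullback.fst l (sh (algebraMap A (Localization.Away (g k))) str)) ≫ w =
        (yon S).map (pullback.snd l (sh (algebraMap A (Localization.Away (g k))) str)) ≫ v k := eq_PU c (by
      rw [Category.assoc, Category.assoc, hw, hv, ← Functor.map_comp_assoc, ← Functor.map_comp_assoc,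
        pullback.condition])
    rw [← Category.assoc _ w, h2, Category.assoc, ← hak, ← Functor.map_comp_assoc, ← Functor.map_comp_assoc,
      pullback.condition]
  refine ⟨a, hover, honU, ?_⟩
  intro L l w hw
  refine K616.SepEq.eq_of_flat hq ?_ fun t => ?_
  · rw [Category.assoc, hover, Category.assoc, D.hσY, ← Category.assoc w, hw, Category.assoc]
  by_cases ht : Points.ofPt (m ≫ D.p) (l.left t) ∈ Set.range (Points.map i)
  · obtain ⟨L', u, v', hu, hut, h1, h2⟩ := hd.lift L l (w ≫ D.rY) (by
      rw [Category.assoc, ← D.sqY.w, ← Category.assoc, hw, Category.assoc]) t ht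
    refine ⟨L', u, hu, hut, ?_⟩
    have h3 : (yon S).map v' ≫ v₀ = (yon S).map u ≫ w := by
      apply D.sqY.hom_ext
      · rw [Category.assoc, Category.assoc, hv₀, hw, ← Functor.map_comp_assoc, ← Functor.map_comp_assoc, h1]
      · rw [Category.assoc, Category.assoc, hv₀', h2]
    rw [← Category.assoc _ w, ← h3, Category.assoc, ← ha0, ← Functor.map_comp_assoc, ← Functor.map_comp_assoc, h1]
  · obtain ⟨L', l', u, hl', sq⟩ := c.exists_over_U ((yon S).map l ≫ m ≫ D.p)
    have h1 : Points.ofPt ((yon S).map l ≫ m ≫ D.p) t ∈ Set.range (Points.map j) := by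
      rw [c.hU, ofPt_comp]
      exact ht
    obtain ⟨z, hz⟩ := Cfg.exists_pt _ t h1 sq
    obtain ⟨w', hw'⟩ : ∃ w' : (yon S).obj L' ⟶ D.PU, w' ≫ D.jM = (yon S).map (l' ≫ l) ≫ m :=
      ⟨D.sqU.lift ((yon S).map (l' ≫ l) ≫ m) u (by
        rw [sq.w, Functor.map_comp, Category.assoc, Category.assoc]), D.sqU.lift_fst _ _ _⟩
    refine ⟨L', l', inferInstance, ⟨z, hz⟩, ?_⟩
    rw [← Functor.map_comp_assoc, honU (l' ≫ l) w' hw', ← Category.assoc]
    exact D.hc w' ((yon S).map l' ≫ w) (by
      rw [hw', Category.assoc, hw, ← Functor.map_comp_assoc])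

end GData

end K616.GCfg
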