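import Groth.Agent.AlgSp.K616.GEt
import Groth.Agent.AlgSp.K616.GAlg
import Groth.Agent.AlgSp.K625.Tensor

/-!
# Glueing configurations: the local data

`LocData`: for `T' = Spec A' ⟶ X` a ring `B` flat over `A'` and a map `Spec B ⟶ Y` over `X`, such that
`B = A' + I B` where `V(I)` is the locus over `Z`, and every map `L ⟶ T' ×_X Y` lifts flat-locally to `Spec B` near
the points over `Z`.
-/

set_option autoImplicit false
universe u
open CategoryTheory CategoryTheory.Limits AlgebraicGeometry Opposite TensorProduct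

namespace K616.GCfg

open AlgSp K616.Refine K616.Inv K616.BaseChange

variable {S : Scheme.{u}} {X Y Z U : Sp S} {f : Y ⟶ X} {i : Z ⟶ X} {s : Z ⟶ Y} {j : U ⟶ X}

/-- `Spec B` over `S` for `φ : A → B` -/
noncomputable abbrev so {A B : Type u} [CommRing A] [CommRing B] (φ : A →+* B)
    (str : Spec (CommRingCat.of A) ⟶ S) : Over S := Over.mk (Spec.map (CommRingCat.ofHom φ) ≫ str)

/-- the structure map `Spec B ⟶ Spec A` -/
noncomputable abbrev sh {A B : Type u} [CommRing A] [CommRing B] (φ : A →+* B)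
    (str : Spec (CommRingCat.of A) ⟶ S) : so φ str ⟶ Over.mk str :=
  Over.homMk (Spec.map (CommRingCat.ofHom φ)) rfl

structure LocData {A B : Type u} [CommRing A] [CommRing B] (f : Y ⟶ X) (i : Z ⟶ X)
    (str : Spec (CommRingCat.of A) ⟶ S) (x : (yon S).obj (Over.mk str) ⟶ X) (φ : A →+* B)
    (y : (yon S).obj (so φ str) ⟶ Y) (I : Ideal A) : Prop where
  flat : φ.Flat
  w : y ≫ f = (yon S).map (sh φ str) ≫ x
  fg : I.FG
  mem : ∀ p : PrimeSpectrum A, Points.ofPt (T := Over.mk str) x p ∈ Set.range (Points.map i) ↔ I ≤ p.asIdeal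
  adic : ∀ b : B, ∃ a : A, b - φ a ∈ I.map φ
  lift : ∀ (L : Over S) (l : L ⟶ Over.mk str) (y₁ : (yon S).obj L ⟶ Y), y₁ ≫ f = (yon S).map l ≫ x →
    ∀ m : L.left, Points.ofPt x (l.left m) ∈ Set.range (Points.map i) →
    ∃ (L' : Over S) (u : L' ⟶ L) (v : L' ⟶ so φ str), Flat u.left ∧ m ∈ Set.range u.left ∧
      v ≫ sh φ str = u ≫ l ∧ (yon S).map v ≫ y = (yon S).map u ≫ y₁
  pts : ∀ p : PrimeSpectrum A, I ≤ p.asIdeal → ∃ b : PrimeSpectrum B, b.asIdeal.comap φ = p.asIdeal

theorem exists_ideal_of_closed {A : Type u} [CommRing A] {L : Scheme.{u}} (l : L ⟶ Spec (CommRingCat.of A))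
    [IsClosedImmersion l] [LocallyOfFinitePresentation l] :
    ∃ (I : Ideal A) (e : Spec (CommRingCat.of (A ⧸ I)) ≅ L), I.FG ∧
      e.hom ≫ l = Spec.map (CommRingCat.ofHom (Ideal.Quotient.mk I)) := by
  obtain ⟨I, e, he⟩ := (IsClosedImmersion.Spec_iff (R := CommRingCat.of A) (f := l)).1 ‹IsClosedImmersion l›
  have h1 : e.inv ≫ l = Spec.map (CommRingCat.ofHom (Ideal.Quotient.mk I)) := by
    rw [he, Iso.inv_hom_id_assoc]
  refine ⟨I, e.symm, ?_, h1⟩
  have h2 : LocallyOfFinitePresentation (Spec.map (CommRingCat.ofHom (Ideal.Quotient.mk I))) := by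
    rw [← h1]
    infer_instance
  have h3 : (Ideal.Quotient.mk I).FinitePresentation :=
    (HasRingHomProperty.Spec_iff (P := @LocallyOfFinitePresentation)).1 h2
  have h4 : Algebra.FinitePresentation A (A ⧸ I) := h3
  have h5 := Algebra.FinitePresentation.ker_fG_of_surjective (Algebra.ofId A (A ⧸ I)) Ideal.Quotient.mk_surjective
  have h6 : RingHom.ker (Algebra.ofId A (A ⧸ I)).toRingHom = I := Ideal.mk_ker
  rwa [h6] at h5

/-- The locus over `Z` in an affine scheme. -/
theorem Cfg.exists_ideal (c : Cfg f i s j) {A : Type u} [CommRing A] (str : Spec (CommRingCat.of A) ⟶ S)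
    (x : (yon S).obj (Over.mk str) ⟶ X) :
    ∃ (I : Ideal A) (z : (yon S).obj (so (Ideal.Quotient.mk I) str) ⟶ Z), I.FG ∧
      IsPullback z ((yon S).map (sh (Ideal.Quotient.mk I) str)) i x := by
  obtain ⟨L, l, z, h1, h2, sq⟩ := c.exists_over_Z x
  obtain ⟨I, e, hI, he⟩ := exists_ideal_of_closed l.left
  let e' : so (Ideal.Quotient.mk I) str ≅ L := Over.isoMk e (by
    change e.hom ≫ L.hom = _ ≫ str
    rw [← he, Category.assoc]
    congr 1
    exact (Over.w l).symm)
  refine ⟨I, (yon S).map e'.hom ≫ z, hI, ?_⟩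
  refine IsPullback.of_iso sq ((yon S).mapIso e'.symm) (Iso.refl _) (Iso.refl _) (Iso.refl _) ?_ ?_ ?_ ?_
  · simp only [Iso.refl_hom, Category.comp_id, Functor.mapIso_hom, Iso.symm_hom, ← Category.assoc, ← Functor.map_comp]
    rw [Iso.inv_hom_id, CategoryTheory.Functor.map_id, Category.id_comp]
  · simp only [Iso.refl_hom, Category.comp_id, Functor.mapIso_hom, Iso.symm_hom, ← Functor.map_comp]
    congr 1
    apply Over.OverMorphism.ext
    change l.left = e.inv ≫ Spec.map _
    rw [← he, Iso.inv_hom_id_assoc]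
  · simp
  · simp

theorem mem_range_iff {A : Type u} [CommRing A] {str : Spec (CommRingCat.of A) ⟶ S}
    {x : (yon S).obj (Over.mk str) ⟶ X} {I : Ideal A} {z : (yon S).obj (so (Ideal.Quotient.mk I) str) ⟶ Z}
    (sq : IsPullback z ((yon S).map (sh (Ideal.Quotient.mk I) str)) i x) (p : PrimeSpectrum A) :
    Points.ofPt (T := Over.mk str) x p ∈ Set.range (Points.map i) ↔ I ≤ p.asIdeal := by
  have h0 : I ≤ p.asIdeal ↔ p ∈ Set.range (Spec.map (CommRingCat.ofHom (Ideal.Quotient.mk I))) := by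
    have h1 : Set.range (Spec.map (CommRingCat.ofHom (Ideal.Quotient.mk I))) = PrimeSpectrum.zeroLocus I := by
      have := _root_.range_comap_of_surjective _ (Ideal.Quotient.mk I) Ideal.Quotient.mk_surjective
      rw [Ideal.mk_ker] at this
      exact this
    rw [h1]
    exact Iff.rfl
  rw [h0]
  constructor
  · intro h
    obtain ⟨m, hm⟩ := Cfg.exists_pt x p h sq
    exact ⟨m, hm⟩
  · rintro ⟨m, rfl⟩
    exact Cfg.mem_range_i x (sh (Ideal.Quotient.mk I) str) z sq.w m

end K616.GCfg
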