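import Groth.Agent.AlgSp.K616.GLoc

/-!
# Glueing configurations: existence of local data
-/

set_option autoImplicit false
universe u
open CategoryTheory CategoryTheory.Limits AlgebraicGeometry Opposite TensorProduct

namespace K616.GCfg

open AlgSp K616.Refine K616.Inv K616.BaseChange

variable {S : Scheme.{u}} {X Y Z U : Sp S} {f : Y ⟶ X} {i : Z ⟶ X} {s : Z ⟶ Y} {j : U ⟶ X}

theorem isPullback_over {P A B T : Over S} {a : P ⟶ A} {b : P ⟶ B} {f : A ⟶ T} {g : B ⟶ T}
    (h : IsPullback a.left b.left f.left g.left) : IsPullback a b f g :=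
  IsPullback.of_map (Over.forget S) (Over.OverMorphism.ext h.w) h

/-- Charts of `T ×_X Y` by spectra of algebras. -/
theorem Cfg.exists_alg_chart (c : Cfg f i s j) {A : Type u} [CommRing A] (str : Spec (CommRingCat.of A) ⟶ S)
    (x : (yon S).obj (Over.mk str) ⟶ X) (t : PrimeSpectrum A)
    (ht : Points.ofPt (T := Over.mk str) x t ∈ Set.range (Points.map i)) :
    ∃ (C : Type u) (_ : CommRing C) (_ : Algebra A C) (y : (yon S).obj (so (algebraMap A C) str) ⟶ Y)
      (w : (yon S).map (sh (algebraMap A C) str) ≫ x = y ≫ f) (g : PrimeSpectrum C),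
      g.asIdeal.comap (algebraMap A C) = t.asIdeal ∧
      RepWith @Etale (pullback.lift ((yon S).map (sh (algebraMap A C) str)) y w) ∧
      ∀ q : PrimeSpectrum C, Points.ofPt (T := Over.mk str) x (q.comap (algebraMap A C)) ∈ Set.range (Points.map i) →
        Module.Flat A (Localization.AtPrime q.asIdeal) := by
  obtain ⟨G, γ, y, w, g, hG, hg, ha, hfl⟩ := c.exists_chart_at x t ht
  let ψ : Spec Γ(G.left, ⊤) ⟶ Spec (CommRingCat.of A) := G.left.isoSpec.inv ≫ γ.left
  let _ : Algebra A Γ(G.left, ⊤) := (Spec.preimage ψ).hom.toAlgebra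
  have h1 : CommRingCat.ofHom (algebraMap A Γ(G.left, ⊤)) = Spec.preimage ψ := rfl
  have h2 : Spec.map (CommRingCat.ofHom (algebraMap A Γ(G.left, ⊤))) = G.left.isoSpec.inv ≫ γ.left := by
    rw [h1, Spec.map_preimage]
  let e : so (algebraMap A Γ(G.left, ⊤)) str ≅ G := Over.isoMk G.left.isoSpec.symm (by
    change G.left.isoSpec.inv ≫ G.hom = Spec.map (CommRingCat.ofHom (algebraMap A Γ(G.left, ⊤))) ≫ str
    rw [h2, Category.assoc]
    congr 1
    exact (Over.w γ).symm)
  have he : e.hom ≫ γ = sh (algebraMap A Γ(G.left, ⊤)) str := by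
    apply Over.OverMorphism.ext
    exact h2.symm
  have w' : (yon S).map (sh (algebraMap A Γ(G.left, ⊤)) str) ≫ x = ((yon S).map e.hom ≫ y) ≫ f := by
    rw [← he, Functor.map_comp, Category.assoc, Category.assoc, w]
  have hlift : pullback.lift ((yon S).map (sh (algebraMap A Γ(G.left, ⊤)) str)) ((yon S).map e.hom ≫ y) w' =
      (yon S).map e.hom ≫ pullback.lift ((yon S).map γ) y w := by
    apply pullback.hom_ext
    · rw [Category.assoc, pullback.lift_fst, pullback.lift_fst, ← he, Functor.map_comp]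
    · rw [Category.assoc, pullback.lift_snd, pullback.lift_snd]
  have hi : IsIso e.hom.left := inferInstanceAs (IsIso ((Over.forget S).map e.hom))
  obtain ⟨q₀, hq₀⟩ := e.hom.left.surjective g
  refine ⟨Γ(G.left, ⊤), inferInstance, inferInstance, (yon S).map e.hom ≫ y, w', q₀, ?_, ?_, ?_⟩
  · have h3 : (sh (algebraMap A Γ(G.left, ⊤)) str).left q₀ = t := by
      rw [← he, Over.comp_left, Scheme.Hom.comp_apply, hq₀, hg]
    exact congrArg PrimeSpectrum.asIdeal h3
  · rw [hlift]
    have : Etale e.hom.left := inferInstance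
    exact (RepWith (S := S) @Etale).comp_mem _ _ ((repWith_yon_map_iff _ _).2 this) ha
  · intro q hq
    refine K616.Nbhd.flat_localization_of_stalkMap q ?_
    have h3 : γ.left (e.hom.left q) = q.comap (algebraMap A Γ(G.left, ⊤)) := by
      rw [← Scheme.Hom.comp_apply, ← Over.comp_left, he]
      rfl
    have h4 := hfl (e.hom.left q) (by rw [h3]; exact hq)
    have h5 := (flat_source_iff e.hom.left γ.left q).2 h4
    have h6 : e.hom.left ≫ γ.left = Spec.map (CommRingCat.ofHom (algebraMap A Γ(G.left, ⊤))) := h2.symm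
    rw [h6] at h5
    exact h5

end K616.GCfg
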