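import Groth.Agent.AlgSp.K616.GLoc3

/-!
# Glueing configurations: existence of local data, III
-/

set_option autoImplicit false
universe u
open CategoryTheory CategoryTheory.Limits AlgebraicGeometry Opposite TensorProduct

namespace K616.GCfg

open AlgSp K616.Refine K616.Inv K616.BaseChange

variable {S : Scheme.{u}} {X Y Z U : Sp S} {f : Y ⟶ X} {i : Z ⟶ X} {s : Z ⟶ Y} {j : U ⟶ X}

/-- Étale neighbourhoods with local data at the points over `Z`. -/
theorem Cfg.exists_locData (c : Cfg f i s j) {A : Type u} [CommRing A] (str : Spec (CommRingCat.of A) ⟶ S)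
    (x : (yon S).obj (Over.mk str) ⟶ X) (t : PrimeSpectrum A)
    (ht : Points.ofPt (T := Over.mk str) x t ∈ Set.range (Points.map i)) :
    ∃ (A' : Type u) (_ : CommRing A') (θ : A →+* A') (t' : PrimeSpectrum A') (B : Type u) (_ : CommRing B)
      (φ : A' →+* B) (y : (yon S).obj (so φ (Spec.map (CommRingCat.ofHom θ) ≫ str)) ⟶ Y) (I : Ideal A'),
      θ.Etale ∧ t'.asIdeal.comap θ = t.asIdeal ∧
      LocData f i (Spec.map (CommRingCat.ofHom θ) ≫ str) ((yon S).map (sh θ str) ≫ x) φ y I := by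
  obtain ⟨I, z, hI, sqZ⟩ := c.exists_ideal str x
  obtain ⟨C, _, _, y, w, g, hg, ha, hfl⟩ := c.exists_alg_chart str x t ht
  have hmem : ∀ q : PrimeSpectrum C, I.map (algebraMap A C) ≤ q.asIdeal ↔
      Points.ofPt (T := Over.mk str) x (q.comap (algebraMap A C)) ∈ Set.range (Points.map i) := by
    intro q
    rw [mem_range_iff sqZ, Ideal.map_le_iff_le_comap]
    rfl
  have het : Algebra.Etale (A ⧸ I) ((A ⧸ I) ⊗[A] C) := c.etale_quot str x y w ha I z sqZ.w
  obtain ⟨A', _, _, C₀, _, _, ι, B, _, β, h1, h2, h3, h4, h5, h6, h7⟩ := K616.Nbhd.exists_nbhd' (C := C) I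
    (fun q _ hq => hfl ⟨q, inferInstance⟩ ((hmem ⟨q, inferInstance⟩).1 hq))
  obtain ⟨p', hp', hIp', hpg⟩ := h7 g.asIdeal ((hmem g).2 (by
    have : g.comap (algebraMap A C) = t := PrimeSpectrum.ext hg
    rw [this]
    exact ht))
  let φ : A' →+* B := β.comp (Algebra.TensorProduct.includeLeftRingHom (R := A) (A := A') (B := C₀))
  let str' : Spec (CommRingCat.of A') ⟶ S := Spec.map (CommRingCat.ofHom (algebraMap A A')) ≫ str
  have hφ : (β.comp (algebraMap A (A' ⊗[A] C₀))) = φ.comp (algebraMap A A') := by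
    ext a
    rfl
  let bK : so φ str' ⟶ so (algebraMap A (A' ⊗[A] C₀)) str := Over.homMk (Spec.map (CommRingCat.ofHom β)) (by
    change Spec.map _ ≫ Spec.map _ ≫ str = Spec.map _ ≫ Spec.map _ ≫ str
    rw [← Spec.map_comp_assoc, ← Spec.map_comp_assoc, ← CommRingCat.ofHom_comp, ← CommRingCat.ofHom_comp, hφ])
  let ιG : so (algebraMap A C₀) str ⟶ so (algebraMap A C) str :=
    Over.homMk (Spec.map (CommRingCat.ofHom ι.toRingHom)) (by
      change Spec.map _ ≫ Spec.map _ ≫ str = Spec.map _ ≫ str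
      rw [← Spec.map_comp_assoc, ← CommRingCat.ofHom_comp, AlgHom.toRingHom_eq_coe, AlgHom.comp_algebraMap])
  have hιG : ιG ≫ sh (algebraMap A C) str = sh (algebraMap A C₀) str := by
    apply Over.OverMorphism.ext
    change Spec.map _ ≫ Spec.map _ = Spec.map _
    rw [← Spec.map_comp, ← CommRingCat.ofHom_comp, AlgHom.toRingHom_eq_coe, AlgHom.comp_algebraMap]
  have sqK : IsPullback (tl A' C₀ str) (tr A' C₀ str) (sh (algebraMap A A') str) (ιG ≫ sh (algebraMap A C) str) := by
    rw [hιG]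
    exact isPullback_tensor A' C₀ str
  have hbKl : bK ≫ tl A' C₀ str = sh φ str' := by
    apply Over.OverMorphism.ext
    change Spec.map _ ≫ Spec.map _ = Spec.map _
    rw [← Spec.map_comp, ← CommRingCat.ofHom_comp]
  have fl1 : Flat ιG.left := by
    change Flat (Spec.map (CommRingCat.ofHom ι.toRingHom))
    rw [Flat.SpecMap_iff]
    exact h2
  have fl2 : Flat bK.left := by
    change Flat (Spec.map (CommRingCat.ofHom β))
    rw [Flat.SpecMap_iff]
    exact h3
  have hmem' : ∀ p : PrimeSpectrum A',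
      Points.ofPt (T := Over.mk str') ((yon S).map (sh (algebraMap A A') str) ≫ x) p ∈ Set.range (Points.map i) ↔
        I.map (algebraMap A A') ≤ p.asIdeal := by
    intro p
    have e1 := ofPt_comp (sh (algebraMap A A') str) x p
    rw [e1, Ideal.map_le_iff_le_comap]
    exact mem_range_iff sqZ (p.comap (algebraMap A A'))
  have hpts : ∀ t' : (Over.mk str').left, Points.ofPt x ((sh (algebraMap A A') str).left t') ∈
      Set.range (Points.map i) → ∃ b : (so φ str').left, (bK ≫ tl A' C₀ str).left b = t' := by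
    intro t' ht'
    obtain ⟨b, hb, hb'⟩ := h6 (PrimeSpectrum.asIdeal t') ((hmem' t').1 (by
      rw [ofPt_comp]
      exact ht'))
    refine ⟨(⟨b, hb⟩ : PrimeSpectrum B), ?_⟩
    rw [hbKl]
    exact PrimeSpectrum.ext hb'
  refine ⟨A', inferInstance, algebraMap A A', ⟨p', hp'⟩, B, inferInstance, φ,
    (yon S).map (bK ≫ tr A' C₀ str ≫ ιG) ≫ y, I.map (algebraMap A A'), RingHom.etale_algebraMap.2 h1, ?_, ?_⟩
  · exact hpg.trans hg
  refine ⟨h4, ?_, hI.map _, hmem', ?_, ?_, ?_⟩
  · have e8 : (bK ≫ tr A' C₀ str ≫ ιG) ≫ sh (algebraMap A C) str = sh φ str' ≫ sh (algebraMap A A') str := by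
      rw [Category.assoc, Category.assoc, ← sqK.w, ← Category.assoc, hbKl]
    rw [Category.assoc, ← w, ← Category.assoc, ← Functor.map_comp, e8, Functor.map_comp, Category.assoc]
  · intro b
    obtain ⟨a', ha'⟩ := h5 b
    exact ⟨a', ha'⟩
  · intro L l y₁ hy₁ m hm
    obtain ⟨L', u, v, hu, hm', e1, e2⟩ := c.exists_lift w ha fl1 sqK fl2 hpts l y₁ (by
      rw [hy₁, Functor.map_comp, Category.assoc]) m (by
        rw [Over.comp_left, Scheme.Hom.comp_apply, ← ofPt_comp]
        exact hm)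
    refine ⟨L', u, v, hu, hm', ?_, e2⟩
    rw [← e1, hbKl]
  · intro p hp
    obtain ⟨b, hb, hb'⟩ := h6 p.asIdeal hp
    exact ⟨⟨b, hb⟩, hb'⟩

end K616.GCfg
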