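import Groth.Agent.AlgSp.K616.GExist
import Groth.Agent.AlgSp.K616.GLoc4
import Groth.Agent.AlgSp.K642.EtCov

/-!
# Glueing of morphisms: the main theorem
-/

set_option autoImplicit false
universe u
open CategoryTheory CategoryTheory.Limits AlgebraicGeometry Opposite

namespace K616.GCfg

open AlgSp K616.Refine K616.Inv K616.BaseChange

variable {S : Scheme.{u}} {X Y Z U : Sp S} {f : Y ⟶ X} {i : Z ⟶ X} {s : Z ⟶ Y} {j : U ⟶ X} {D : GData f j}

namespace GData

theorem exists_local (c : Cfg f i s j) (hM : IsAlgSpace D.M) (hN : IsAlgSpace D.N) (hq : IsSeparatedMor D.q)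
    (μ : Points D.M) :
    ∃ (T : Over S) (m : (yon S).obj T ⟶ D.M) (t : T.left) (a : (yon S).obj T ⟶ D.N), RepWith @Etale m ∧
      Points.ofPt m t = μ ∧ D.IsSol m a := by
  obtain ⟨T₀, m₀, t₀, hT₀, hm₀, ht₀⟩ := K621.FiniteMor.exists_affine_chart hM μ
  by_cases h : Points.ofPt (m₀ ≫ D.p) t₀ ∈ Set.range (Points.map i)
  · let str : Spec (CommRingCat.of Γ(T₀.left, ⊤)) ⟶ S := T₀.left.isoSpec.inv ≫ T₀.hom
    let e : Over.mk str ≅ T₀ := Over.isoMk T₀.left.isoSpec.symm rfl
    have hi : IsIso e.hom.left := inferInstanceAs (IsIso ((Over.forget S).map e.hom))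
    obtain ⟨t₁, ht₁⟩ := e.hom.left.surjective t₀
    obtain ⟨A', _, θ, t', B, _, φ, y, I, hθ, htt', hd⟩ := c.exists_locData str
      (((yon S).map e.hom ≫ m₀) ≫ D.p) t₁ (by
        rw [Category.assoc, ofPt_comp, ht₁]
        exact h)
    rw [← Category.assoc ((yon S).map (sh θ str))] at hd
    obtain ⟨a, ha⟩ := exists_sol c hN hq hd
    have h1 : Etale (sh θ str).left := (HasRingHomProperty.Spec_iff (P := @Etale)).2 hθ
    have h2 : Etale e.hom.left := inferInstance
    have h3 : RepWith @Etale ((yon S).map e.hom ≫ m₀) :=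
      (RepWith (S := S) @Etale).comp_mem _ _ ((repWith_yon_map_iff _ _).2 h2) hm₀
    refine ⟨_, (yon S).map (sh θ str) ≫ (yon S).map e.hom ≫ m₀, t', a,
      (RepWith (S := S) @Etale).comp_mem _ _ ((repWith_yon_map_iff _ _).2 h1) h3, ?_, ha⟩
    have h4 : (sh θ str).left t' = t₁ := PrimeSpectrum.ext htt'
    rw [ofPt_comp, ofPt_comp, h4, ht₁, ht₀]
  · obtain ⟨L, l, u, hl, sq⟩ := c.exists_over_U (m₀ ≫ D.p)
    have h1 : Points.ofPt (m₀ ≫ D.p) t₀ ∈ Set.range (Points.map j) := by
      rw [c.hU]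
      exact h
    obtain ⟨z, hz⟩ := Cfg.exists_pt (m₀ ≫ D.p) t₀ h1 sq
    obtain ⟨v, hv⟩ : ∃ v : (yon S).obj L ⟶ D.PU, v ≫ D.jM = (yon S).map l ≫ m₀ :=
      ⟨D.sqU.lift ((yon S).map l ≫ m₀) u (by rw [sq.w, Category.assoc]), D.sqU.lift_fst _ _ _⟩
    have h2 : Etale l.left := inferInstance
    refine ⟨L, (yon S).map l ≫ m₀, z, v ≫ D.σU,
      (RepWith (S := S) @Etale).comp_mem _ _ ((repWith_yon_map_iff _ _).2 h2) hm₀, ?_, ?_, ?_, ?_⟩
    · rw [ofPt_comp, hz, ht₀]
    · rw [Category.assoc, D.hσU, ← Category.assoc, hv]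
    · intro L' l' w hw
      have h3 : (yon S).map l' ≫ v = w := eq_PU c (by rw [hw, Category.assoc, hv])
      rw [← Category.assoc, h3]
    · intro L' l' w hw
      rw [← Category.assoc]
      exact D.hc _ _ (by rw [hw, Category.assoc, hv])

theorem existsUnique_hom (c : Cfg f i s j) (hM : IsAlgSpace D.M) (hN : IsAlgSpace D.N)
    (hq : IsSeparatedMor D.q) : ∃! h : D.M ⟶ D.N, h ≫ D.q = D.p ∧ D.jM ≫ h = D.σU ∧ D.kM ≫ h = D.σY := by
  choose T m t a hm ht ha using fun μ => exists_local c hM hN hq μ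
  have hp := K642.EtCov.jls_of_repWith_etale m hm fun x => ⟨x, t x, ht x⟩
  obtain ⟨h, hh, hu⟩ := hp.exists_hom_of_isPullback a (fun μ ν => pullback (m μ) (m ν))
    (fun μ ν => pullback.fst _ _) (fun μ ν => pullback.snd _ _) (fun μ ν => IsPullback.of_hasPullback _ _) (by
      intro μ ν
      refine K635.Glue.hom_ext_yon fun L l => ?_
      obtain ⟨x, hx⟩ := (yon S).map_surjective (l ≫ pullback.fst (m μ) (m ν))
      obtain ⟨x', hx'⟩ := (yon S).map_surjective (l ≫ pullback.snd (m μ) (m ν))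
      rw [← Category.assoc, ← Category.assoc, ← hx, ← hx']
      have h1 := (ha μ).precomp x
      have h2 := (ha ν).precomp x'
      have h3 : (yon S).map x ≫ m μ = (yon S).map x' ≫ m ν := by
        rw [hx, hx', Category.assoc, Category.assoc, pullback.condition]
      rw [h3] at h1
      exact h1.unique c hq h2)
  refine ⟨h, ⟨?_, ?_, ?_⟩, fun h' hh' => ?_⟩
  · refine hp.hom_ext fun μ => ?_
    rw [← Category.assoc, hh, (ha μ).over]
  · refine (hp.baseChange D.jM (fun μ => pullback.fst (m μ) D.jM) (fun μ => pullback.snd (m μ) D.jM)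
      (fun μ => IsPullback.of_hasPullback _ _)).hom_ext fun μ => ?_
    rw [← Category.assoc, ← pullback.condition, Category.assoc, hh]
    refine K635.Glue.hom_ext_yon fun L l => ?_
    obtain ⟨x, hx⟩ := (yon S).map_surjective (l ≫ pullback.fst (m μ) D.jM)
    rw [← Category.assoc, ← Category.assoc, ← hx]
    refine (ha μ).onU x _ ?_
    rw [hx, Category.assoc, Category.assoc, pullback.condition]
  · refine (hp.baseChange D.kM (fun μ => pullback.fst (m μ) D.kM) (fun μ => pullback.snd (m μ) D.kM)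
      (fun μ => IsPullback.of_hasPullback _ _)).hom_ext fun μ => ?_
    rw [← Category.assoc, ← pullback.condition, Category.assoc, hh]
    refine K635.Glue.hom_ext_yon fun L l => ?_
    obtain ⟨x, hx⟩ := (yon S).map_surjective (l ≫ pullback.fst (m μ) D.kM)
    rw [← Category.assoc, ← Category.assoc, ← hx]
    refine (ha μ).onY x _ ?_
    rw [hx, Category.assoc, Category.assoc, pullback.condition]
  · refine hu h' fun μ => ?_
    have h1 : D.IsSol (m μ) (m μ ≫ h') :=
      { over := by rw [Category.assoc, hh'.1]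
        onU := fun l v hv => by rw [← Category.assoc, ← hv, Category.assoc, hh'.2.1]
        onY := fun l v hv => by rw [← Category.assoc, ← hv, Category.assoc, hh'.2.2] }
    exact h1.unique c hq (ha μ)

end GData

end K616.GCfg
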