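import Groth.Agent.AlgSp.K635.Glue
import Groth.Prelude.Def_AlgSp3
import Mathlib.AlgebraicGeometry.Morphisms.ClosedImmersion
import Mathlib.AlgebraicGeometry.Morphisms.Flat
import Mathlib.RingTheory.Flat.FaithfullyFlat.Algebra

/-!
# Equality of maps into a separated algebraic space

* `exists_ideal`: the locus in an affine scheme where two maps over `X` into `N`, separated over `X`, agree is
  given by an ideal.
* `eq_of_flat`: two such maps are equal if they are equal after flat maps hitting every point.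
-/

set_option autoImplicit false
universe u
open CategoryTheory CategoryTheory.Limits AlgebraicGeometry Opposite AlgSp

namespace K616.SepEq

/-- A global function killed by a flat morphism has zero germ at the image of every point. -/
theorem germ_eq_zero_of_flat {T T' : Scheme.{u}} (φ : T' ⟶ T) [Flat φ] (b : Γ(T, ⊤))
    (hb : φ.appTop.hom b = 0) (x : T') : (T.presheaf.germ ⊤ (φ x) trivial).hom b = 0 := by
  have h1 : (φ.stalkMap x).hom ((T.presheaf.germ ⊤ (φ x) trivial).hom b) =
      (T'.presheaf.germ ⊤ x trivial).hom (φ.appTop.hom b) := by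
    exact Scheme.Hom.germ_stalkMap_apply φ ⊤ x trivial b
  rw [hb, map_zero] at h1
  have h2 : (φ.stalkMap x).hom.Flat := Flat.stalkMap φ x
  algebraize [(φ.stalkMap x).hom]
  have : IsLocalHom (algebraMap (T.presheaf.stalk (φ x)) (T'.presheaf.stalk x)) :=
    inferInstanceAs (IsLocalHom (φ.stalkMap x).hom)
  have : Module.FaithfullyFlat (T.presheaf.stalk (φ x)) (T'.presheaf.stalk x) :=
    Module.FaithfullyFlat.of_flat_of_isLocalHom
  exact (FaithfulSMul.algebraMap_injective (T.presheaf.stalk (φ x)) (T'.presheaf.stalk x))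
    (h1.trans (map_zero _).symm)

/-- A global function is zero if it is so flat-locally. -/
theorem eq_zero_of_flat_local {T : Scheme.{u}} (b : Γ(T, ⊤))
    (h : ∀ t : T, ∃ (T' : Scheme.{u}) (φ : T' ⟶ T), Flat φ ∧ t ∈ Set.range φ ∧ φ.appTop.hom b = 0) :
    b = 0 := by
  refine TopCat.Presheaf.section_ext T.sheaf ⊤ b 0 fun x _ => ?_
  obtain ⟨T', φ, _, ⟨y, rfl⟩, hy⟩ := h x
  have := germ_eq_zero_of_flat φ b hy y
  exact this.trans (map_zero (T.presheaf.germ ⊤ (φ y) trivial).hom).symm

variable {S : Scheme.{u}} {N X : Sp S} {q : N ⟶ X}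

theorem exists_ideal (hq : IsSeparatedMor q) {D : Type u} [CommRing D] (str : Spec (CommRingCat.of D) ⟶ S)
    (τ₁ τ₂ : (yon S).obj (Over.mk str) ⟶ N) (h : τ₁ ≫ q = τ₂ ≫ q) :
    ∃ J : Ideal D, (∀ (T₁ : Over S) (g : T₁ ⟶ Over.mk str), (yon S).map g ≫ τ₁ = (yon S).map g ≫ τ₂ →
      ∀ x ∈ J, g.left.appTop.hom ((Scheme.ΓSpecIso (CommRingCat.of D)).inv.hom x) = 0) ∧
      (J = ⊥ → τ₁ = τ₂) := by
  obtain ⟨E, e, fst, sq⟩ := hq.rep (pullback.lift τ₁ τ₂ h)
  have he : IsClosedImmersion e.left := hq.property _ _ _ sq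
  obtain ⟨J, ε, hε⟩ := IsClosedImmersion.Spec_iff.1 he
  have h1 : (yon S).map e ≫ τ₁ = fst := by
    rw [← pullback.lift_fst τ₁ τ₂ h, ← Category.assoc, ← sq.w, Category.assoc, pullback.diagonal_fst,
      Category.comp_id]
  have h2 : (yon S).map e ≫ τ₂ = fst := by
    rw [← pullback.lift_snd τ₁ τ₂ h, ← Category.assoc, ← sq.w, Category.assoc, pullback.diagonal_snd,
      Category.comp_id]
  refine ⟨J, ?_, ?_⟩
  · intro T₁ g hg x hx
    have w : ((yon S).map g ≫ τ₁) ≫ pullback.diagonal q = (yon S).map g ≫ pullback.lift τ₁ τ₂ h := by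
      apply pullback.hom_ext
      · simp only [Category.assoc, pullback.diagonal_fst, pullback.lift_fst, Category.comp_id]
      · simp only [Category.assoc, pullback.diagonal_snd, pullback.lift_snd, Category.comp_id]
        exact hg
    obtain ⟨d, hd⟩ := (yon S).map_surjective (sq.lift _ _ w)
    have hde : d ≫ e = g := by
      apply (yon S).map_injective
      rw [Functor.map_comp, hd, sq.lift_snd]
    have hg' : g.left = (d.left ≫ ε.hom) ≫ Spec.map (CommRingCat.ofHom (Ideal.Quotient.mk J)) := by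
      rw [Category.assoc, ← hε, ← Over.comp_left, hde]
    rw [hg', Scheme.Hom.comp_appTop]
    change (d.left ≫ ε.hom).appTop.hom ((Spec.map (CommRingCat.ofHom (Ideal.Quotient.mk J))).appTop.hom
      ((Scheme.ΓSpecIso (CommRingCat.of D)).inv.hom x)) = 0
    have h3 : (Spec.map (CommRingCat.ofHom (Ideal.Quotient.mk J))).appTop.hom
        ((Scheme.ΓSpecIso (CommRingCat.of D)).inv.hom x) =
        (Scheme.ΓSpecIso (CommRingCat.of (D ⧸ J))).inv.hom (Ideal.Quotient.mk J x) := by
      have := Scheme.ΓSpecIso_inv_naturality (CommRingCat.ofHom (Ideal.Quotient.mk J))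
      exact (congrArg (fun k => k.hom x) this).symm
    rw [h3, Ideal.Quotient.eq_zero_iff_mem.2 hx, map_zero, map_zero]
  · intro hJ
    subst hJ
    have hiso : IsIso (Spec.map (CommRingCat.ofHom (Ideal.Quotient.mk (⊥ : Ideal D)))) := by
      have : IsIso (CommRingCat.ofHom (Ideal.Quotient.mk (⊥ : Ideal D))) := by
        rw [ConcreteCategory.isIso_iff_bijective]
        exact (RingEquiv.quotientBot D).symm.bijective
      infer_instance
    have hi : IsIso e.left := by
      rw [hε]
      infer_instance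
    have hi' : IsIso e := by
      have : IsIso ((Over.forget S).map e) := hi
      exact isIso_of_reflects_iso e (Over.forget S)
    rw [← cancel_epi ((yon S).map e), h1, h2]

/-- Two maps over `X` into a sheaf separated over `X` are equal if they are equal after flat maps hitting every
point. -/
theorem eq_of_flat (hq : IsSeparatedMor q) {T : Over S} {τ₁ τ₂ : (yon S).obj T ⟶ N} (h : τ₁ ≫ q = τ₂ ≫ q)
    (H : ∀ t : T.left, ∃ (L : Over S) (l : L ⟶ T), Flat l.left ∧ t ∈ Set.range l.left ∧
      (yon S).map l ≫ τ₁ = (yon S).map l ≫ τ₂) : τ₁ = τ₂ := by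
  -- affine case
  have key : ∀ (D : CommRingCat.{u}) (str : Spec D ⟶ S)
      (τ₁ τ₂ : (yon S).obj (Over.mk str) ⟶ N) (_ : τ₁ ≫ q = τ₂ ≫ q)
      (_ : ∀ t : (Over.mk str).left, ∃ (L : Over S) (l : L ⟶ Over.mk str), Flat l.left ∧ t ∈ Set.range l.left ∧
      (yon S).map l ≫ τ₁ = (yon S).map l ≫ τ₂), τ₁ = τ₂ := by
    intro D str τ₁ τ₂ h H
    obtain ⟨J, hJ1, hJ2⟩ := exists_ideal hq (D := D) str τ₁ τ₂ h
    refine hJ2 ((Submodule.eq_bot_iff _).2 fun x hx => ?_)
    have h1 : (Scheme.ΓSpecIso (CommRingCat.of D)).inv.hom x = 0 := by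
      refine eq_zero_of_flat_local _ fun t => ?_
      obtain ⟨L, l, hl, ht, hl'⟩ := H t
      exact ⟨L.left, l.left, hl, ht, hJ1 L l hl' x hx⟩
    have h2 : Function.Injective (Scheme.ΓSpecIso (CommRingCat.of D)).inv.hom :=
      ((ConcreteCategory.isIso_iff_bijective _).1 inferInstance).injective
    exact h2 (h1.trans (map_zero _).symm)
  let ι := {O : T.left.Opens // IsAffineOpen O}
  let W : ι → Over S := fun j => Over.mk (j.2.fromSpec ≫ T.hom)
  let w : ∀ j, W j ⟶ T := fun j => Over.homMk j.2.fromSpec rfl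
  have hw : ∀ j, IsOpenImmersion (w j).left := fun j => inferInstanceAs (IsOpenImmersion j.2.fromSpec)
  refine K635.Glue.hom_ext_cover W w (fun j => ?_) (fun j => ?_) (fun x => ?_) fun j => ?_
  · have := hw j
    infer_instance
  · have := hw j
    infer_instance
  · obtain ⟨_, ⟨O, hO, rfl⟩, hO1, -⟩ := T.left.isBasis_affineOpens.exists_subset_of_mem_open
      (Set.mem_univ x) isOpen_univ
    refine ⟨⟨O, hO⟩, ?_⟩
    have h1 : Set.range (w ⟨O, hO⟩).left = O := IsAffineOpen.range_fromSpec hO
    rw [h1]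
    exact hO1
  · refine key _ _ _ _ ?_ fun t => ?_
    · rw [Category.assoc, Category.assoc, h]
    · obtain ⟨L, l, hl, ⟨y, hy⟩, hl'⟩ := H ((w j).left t)
      have hfl : Flat (pullback.snd l.left (w j).left) := inferInstance
      obtain ⟨z, -, hz⟩ := Scheme.Pullback.exists_preimage_pullback y t hy
      let P : Over S := Over.mk (pullback.snd l.left (w j).left ≫ (W j).hom)
      let π : P ⟶ W j := Over.homMk (pullback.snd l.left (w j).left) rfl
      let π' : P ⟶ L := Over.homMk (pullback.fst l.left (w j).left) (by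
          change pullback.fst l.left (w j).left ≫ L.hom = pullback.snd l.left (w j).left ≫ (W j).hom
          rw [← Over.w l, ← Over.w (w j), ← Category.assoc, pullback.condition, Category.assoc])
      have hsq : π' ≫ l = π ≫ w j := by
        apply Over.OverMorphism.ext
        exact pullback.condition
      refine ⟨P, π, hfl, ⟨z, hz⟩, ?_⟩
      rw [← Category.assoc, ← Category.assoc, ← Functor.map_comp, ← hsq, Functor.map_comp, Category.assoc,
        Category.assoc, hl']

end K616.SepEq
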