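import Groth.Agent.AlgSp.K616.GLoc
import Groth.Agent.AlgSp.K616.SepEq
import Groth.Agent.AlgSp.K613.ZGlue

/-!
# Glueing of morphisms: solutions

`GData`: an object `M` over `X` with its base changes `PU`, `PY` to `U`, `Y` and compatible maps to `N` over `X`.
`IsSol m a`: `a : h_T ⟶ N` is a solution over `m : h_T ⟶ M`; uniqueness of solutions.
-/

set_option autoImplicit false
universe u
open CategoryTheory CategoryTheory.Limits AlgebraicGeometry Opposite

namespace K616.GCfg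

open AlgSp K616.Refine K616.Inv K616.BaseChange Groth.Agent.Flat2D.FlatAtPt

variable {S : Scheme.{u}}

structure GData {X Y U : Sp S} (f : Y ⟶ X) (j : U ⟶ X) where
  M : Sp S
  N : Sp S
  PU : Sp S
  PY : Sp S
  p : M ⟶ X
  q : N ⟶ X
  jM : PU ⟶ M
  rU : PU ⟶ U
  sqU : IsPullback jM rU p j
  kM : PY ⟶ M
  rY : PY ⟶ Y
  sqY : IsPullback kM rY p f
  σU : PU ⟶ N
  σY : PY ⟶ N
  hσU : σU ≫ q = jM ≫ p
  hσY : σY ≫ q = kM ≫ p
  hc : ∀ {L : Over S} (a : (yon S).obj L ⟶ PU) (b : (yon S).obj L ⟶ PY), a ≫ jM = b ≫ kM → a ≫ σU = b ≫ σY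

variable {X Y Z U : Sp S} {f : Y ⟶ X} {i : Z ⟶ X} {s : Z ⟶ Y} {j : U ⟶ X}

namespace GData

variable (D : GData f j)

structure IsSol {T : Over S} (m : (yon S).obj T ⟶ D.M) (a : (yon S).obj T ⟶ D.N) : Prop where
  over : a ≫ D.q = m ≫ D.p
  onU : ∀ {L : Over S} (l : L ⟶ T) (v : (yon S).obj L ⟶ D.PU), v ≫ D.jM = (yon S).map l ≫ m →
    (yon S).map l ≫ a = v ≫ D.σU
  onY : ∀ {L : Over S} (l : L ⟶ T) (v : (yon S).obj L ⟶ D.PY), v ≫ D.kM = (yon S).map l ≫ m →
    (yon S).map l ≫ a = v ≫ D.σY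

variable {D}

theorem IsSol.precomp {T T' : Over S} {m : (yon S).obj T ⟶ D.M} {a : (yon S).obj T ⟶ D.N} (h : D.IsSol m a)
    (t : T' ⟶ T) : D.IsSol ((yon S).map t ≫ m) ((yon S).map t ≫ a) where
  over := by rw [Category.assoc, h.over, Category.assoc]
  onU l v hv := by
    rw [← Category.assoc, ← Functor.map_comp]
    exact h.onU (l ≫ t) v (by rw [hv, Functor.map_comp, Category.assoc])
  onY l v hv := by
    rw [← Category.assoc, ← Functor.map_comp]
    exact h.onY (l ≫ t) v (by rw [hv, Functor.map_comp, Category.assoc])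

theorem openImm_jM (c : Cfg f i s j) (D : GData f j) : RepWith @IsOpenImmersion D.jM :=
  MorphismProperty.of_isPullback D.sqU.flip c.hj

/-- the two ways of lifting to `PU` -/
theorem eq_PU (c : Cfg f i s j) {L : Over S} {a b : (yon S).obj L ⟶ D.PU} (h : a ≫ D.jM = b ≫ D.jM) : a = b :=
  K613.ZGlue.mono_of_openImm (openImm_jM c D) h

/-- A map to `X` avoiding `Z` lifts to `U`. -/
theorem _root_.K616.GCfg.Cfg.exists_lift_U (c : Cfg f i s j) {L : Over S} (x : (yon S).obj L ⟶ X)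
    (h : ∀ m : L.left, Points.ofPt x m ∉ Set.range (Points.map i)) : ∃ u : (yon S).obj L ⟶ U, u ≫ j = x := by
  obtain ⟨L', l, u, hl, sq⟩ := c.exists_over_U x
  have hs : Surjective l.left := ⟨fun m => by
    have h1 := h m
    rw [← Set.mem_compl_iff, ← c.hU] at h1
    exact Cfg.exists_pt x m h1 sq⟩
  have hi : IsIso l.left := by
    have : Epi l.left.base := by
      rw [TopCat.epi_iff_surjective]
      exact hs.surj
    exact IsOpenImmersion.isIso l.left
  have hi' : IsIso l := by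
    have : IsIso ((Over.forget S).map l) := hi
    exact isIso_of_reflects_iso l (Over.forget S)
  refine ⟨(yon S).map (inv l) ≫ u, ?_⟩
  rw [Category.assoc, sq.w, ← Category.assoc, ← Functor.map_comp, IsIso.inv_hom_id, CategoryTheory.Functor.map_id,
    Category.id_comp]

theorem exists_lift_PU (c : Cfg f i s j) {L : Over S} (m : (yon S).obj L ⟶ D.M)
    (h : ∀ t : L.left, Points.ofPt (m ≫ D.p) t ∉ Set.range (Points.map i)) :
    ∃ v : (yon S).obj L ⟶ D.PU, v ≫ D.jM = m := by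
  obtain ⟨u, hu⟩ := c.exists_lift_U (m ≫ D.p) h
  exact ⟨D.sqU.lift m u hu.symm, D.sqU.lift_fst _ _ _⟩

/-- Solutions are unique. -/
theorem IsSol.unique (c : Cfg f i s j) (hq : IsSeparatedMor D.q) {T : Over S} {m : (yon S).obj T ⟶ D.M}
    {a a' : (yon S).obj T ⟶ D.N} (h : D.IsSol m a) (h' : D.IsSol m a') : a = a' := by
  refine K616.SepEq.eq_of_flat hq (h.over.trans h'.over.symm) fun t => ?_
  by_cases ht : Points.ofPt (m ≫ D.p) t ∈ Set.range (Points.map i)
  · obtain ⟨G, γ, y, w, g, -, hg, -, hfl⟩ := c.exists_chart_at (m ≫ D.p) t ht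
    let L : Over S := Over.mk (G.left.fromSpecStalk g ≫ G.hom)
    let l₀ : L ⟶ G := Over.homMk (G.left.fromSpecStalk g) rfl
    let v : (yon S).obj G ⟶ D.PY := D.sqY.lift ((yon S).map γ ≫ m) y (by rw [Category.assoc, w])
    have hv : v ≫ D.kM = (yon S).map γ ≫ m := D.sqY.lift_fst _ _ _
    have h1 : (yon S).map γ ≫ a = (yon S).map γ ≫ a' := (h.onY γ v hv).trans (h'.onY γ v hv).symm
    refine ⟨L, l₀ ≫ γ, ?_, ?_, ?_⟩
    · have h2 := hfl g (by rw [hg]; exact ht)
      exact (flat_fromSpecStalk_comp_iff γ.left g).2 h2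
    · refine ⟨IsLocalRing.closedPoint _, ?_⟩
      rw [Over.comp_left, Scheme.Hom.comp_apply]
      have h3 : l₀.left (IsLocalRing.closedPoint (G.left.presheaf.stalk g)) = g := Scheme.fromSpecStalk_closedPoint
      rw [h3, hg]
    · rw [Functor.map_comp, Category.assoc, Category.assoc, h1]
  · obtain ⟨L, l, u, hl, sq⟩ := c.exists_over_U (m ≫ D.p)
    have h1 := ht
    rw [← Set.mem_compl_iff, ← c.hU] at h1
    obtain ⟨n, hn⟩ := Cfg.exists_pt (m ≫ D.p) t h1 sq
    let v : (yon S).obj L ⟶ D.PU := D.sqU.lift ((yon S).map l ≫ m) u (by rw [Category.assoc, sq.w])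
    have hv : v ≫ D.jM = (yon S).map l ≫ m := D.sqU.lift_fst _ _ _
    exact ⟨L, l, inferInstance, ⟨n, hn⟩, (h.onU l v hv).trans (h'.onU l v hv).symm⟩

end GData

end K616.GCfg
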