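import Groth.Agent.S13834
import Groth.Agent.S2255
import Groth.Agent.AlgSp.K610.CodimZero
import Groth.Agent.AlgSp.K597.EtLocDef

/-!
# Schemes with locally finitely many irreducible components

* `LFC U`: every compact open of `U` has finitely many irreducible components.
* `lfc_of_flat_lft`: ascent along flat morphisms locally of finite type.
* `lfc_of_etale_surjective`: descent along open surjective morphisms.
* `finite_irreducibleComponents_iff`: finiteness of components = finiteness of codimension `0` points.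
-/

set_option autoImplicit false
universe u
open CategoryTheory CategoryTheory.Limits AlgebraicGeometry Opposite

namespace K616.LocFin

/-- every compact open has finitely many irreducible components -/
def LFC (U : Scheme.{u}) : Prop := ∀ W : U.Opens, IsCompact (W : Set ↥U) → (irreducibleComponents ↥W).Finite

theorem finite_of_images {X : Type*} [TopologicalSpace X] {ι : Type*} [Finite ι] {V : ι → Type*}
    [∀ i, TopologicalSpace (V i)] (j : ∀ i, V i → X) (hj : ∀ i, Continuous (j i))
    (hcov : ∀ x, ∃ i, x ∈ Set.range (j i)) (h : ∀ i, (irreducibleComponents (V i)).Finite) :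
    (irreducibleComponents X).Finite := by
  have h1 : (⋃ i, (fun W => closure (j i '' W)) '' irreducibleComponents (V i)).Finite :=
    Set.finite_iUnion fun i => (h i).image _
  refine h1.subset fun Z hZ => ?_
  have h2 := isIrreducible_iff_sUnion_isClosed.1 hZ.1 h1.toFinset (by
    intro z hz
    rw [Set.Finite.mem_toFinset] at hz
    obtain ⟨i, W, hW, rfl⟩ := Set.mem_iUnion.1 hz
    exact isClosed_closure) (by
    rw [Set.Finite.coe_toFinset]
    intro x hx
    obtain ⟨i, v, rfl⟩ := hcov x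
    exact Set.mem_sUnion.2 ⟨closure (j i '' irreducibleComponent v),
      Set.mem_iUnion.2 ⟨i, irreducibleComponent v, irreducibleComponent_mem_irreducibleComponents v, rfl⟩,
      subset_closure ⟨v, mem_irreducibleComponent, rfl⟩⟩)
  obtain ⟨z, hz, hZz⟩ := h2
  rw [Set.Finite.mem_toFinset] at hz
  obtain ⟨i, W, hW, hWz⟩ := Set.mem_iUnion.1 hz
  have h3 : IsIrreducible z := by
    rw [← hWz]
    exact (hW.1.image (j i) (hj i).continuousOn).closure
  have h4 : Z = z := subset_antisymm hZz (hZ.2 h3 hZz)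
  rw [h4]
  exact hz

theorem finite_of_flat_ft (A B : Type u) [CommRing A] [CommRing B] [Algebra A B]
    [Module.Flat A B] [Algebra.FiniteType A B] (h : (irreducibleComponents (PrimeSpectrum A)).Finite) :
    (irreducibleComponents (PrimeSpectrum B)).Finite := by
  rw [Groth.Agent.S1148.finite_irreducibleComponents_iff] at h ⊢
  have h1 : (⋃ p ∈ {p : PrimeSpectrum A | p.asIdeal ∈ minimalPrimes A},
      {q : PrimeSpectrum B | PrimeSpectrum.comap (algebraMap A B) q = p ∧
        q.asIdeal ∈ minimalPrimes B}).Finite := by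
    refine Set.Finite.biUnion ?_ fun p _ ↦ Groth.Agent.S1148.finite_minimalPrimes_over A B p
    refine Set.Finite.preimage (f := PrimeSpectrum.asIdeal) ?_ h
    intro a _ b _ h
    exact PrimeSpectrum.ext h
  refine (h1.image PrimeSpectrum.asIdeal).subset ?_
  intro q hq
  have hqp : q.IsPrime := hq.1.1
  refine ⟨⟨q, hqp⟩, ?_, rfl⟩
  simp only [Set.mem_iUnion]
  exact ⟨PrimeSpectrum.comap (algebraMap A B) ⟨q, hqp⟩,
    Groth.Agent.S1148.mem_minimalPrimes_comap A B q hq, rfl, hq⟩

theorem lfc_of_flat_lft {U V : Scheme.{u}} (f : U ⟶ V) [Flat f] [LocallyOfFiniteType f] (hV : LFC V) :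
    LFC U := by
  intro O hO
  have key : ∀ x : U, x ∈ O → ∃ W : U.Opens, x ∈ W ∧ W ≤ O ∧ (irreducibleComponents ↥W).Finite := by
    intro x hx
    obtain ⟨V', hV', hxV', -⟩ := exists_isAffineOpen_mem_and_subset (x := f x) (U := ⊤) trivial
    obtain ⟨W, hW, hxW, hWle⟩ := exists_isAffineOpen_mem_and_subset (x := x)
      (U := O ⊓ f ⁻¹ᵁ V') ⟨hx, hxV'⟩
    have hWV : W ≤ O := fun z hz => (hWle hz).1
    have hWU : W ≤ f ⁻¹ᵁ V' := fun z hz => (hWle hz).2
    refine ⟨W, hxW, hWV, ?_⟩
    let _ : Algebra Γ(V, V') Γ(U, W) := (f.appLE V' W hWU).hom.toAlgebra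
    have : Module.Flat Γ(V, V') Γ(U, W) := f.flat_appLE hV' hW hWU
    have : Algebra.FiniteType Γ(V, V') Γ(U, W) := f.finiteType_appLE hV' hW hWU
    have h1 : (irreducibleComponents (PrimeSpectrum Γ(U, W))).Finite := by
      refine finite_of_flat_ft Γ(V, V') Γ(U, W) ?_
      obtain ⟨j, hj, -⟩ := Groth.Agent.S13834.isOpenEmbedding_fromSpec V' V' hV' le_rfl
      exact Groth.Agent.S13834.finite_of_isOpenEmbedding j hj (hV V' hV'.isCompact)
    exact Groth.Agent.S13834.finite_of_isOpenEmbedding (hW.isoSpec.hom : W → _)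
      hW.isoSpec.hom.isOpenEmbedding h1
  choose! W hxW hWV hfin using key
  obtain ⟨t, ht⟩ := hO.elim_finite_subcover (fun x : O => (W x.1 : Set U)) (fun x => (W x.1).2)
    (fun x hx => Set.mem_iUnion.2 ⟨⟨x, hx⟩, hxW x hx⟩)
  refine finite_of_images (ι := t) (V := fun i => ↥(W i.1.1))
    (fun i w => (⟨w.1, hWV i.1.1 i.1.2 w.2⟩ : O)) (fun i => by fun_prop) ?_ (fun i => hfin i.1.1 i.1.2)
  intro y
  obtain ⟨x, hx⟩ := Set.mem_iUnion.1 (ht y.2)
  obtain ⟨hxt, hyx⟩ := Set.mem_iUnion.1 hx
  exact ⟨⟨x, hxt⟩, ⟨y.1, hyx⟩, rfl⟩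

theorem lfc_of_etale_surjective {U V : Scheme.{u}} (f : U ⟶ V) [Etale f] [Surjective f] (hU : LFC U) :
    LFC V := by
  intro O hO
  have key : ∀ y : V, y ∈ O → ∃ W : U.Opens, y ∈ f '' (W : Set U) ∧ W ≤ f ⁻¹ᵁ O ∧ IsCompact (W : Set U) := by
    intro y hy
    obtain ⟨x, rfl⟩ := f.surjective y
    obtain ⟨W, hW, hxW, hWle⟩ := exists_isAffineOpen_mem_and_subset (x := x) (U := f ⁻¹ᵁ O) hy
    exact ⟨W, ⟨x, hxW, rfl⟩, hWle, hW.isCompact⟩
  choose! W hxW hWV hc using key
  obtain ⟨t, ht⟩ := hO.elim_finite_subcover (fun x : O => f '' (W x.1 : Set U))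
    (fun x => f.isOpenMap _ (W x.1).2) (fun x hx => Set.mem_iUnion.2 ⟨⟨x, hx⟩, hxW x hx⟩)
  refine finite_of_images (ι := t) (V := fun i => ↥(W i.1.1))
    (fun i w => (⟨f w.1, hWV i.1.1 i.1.2 w.2⟩ : O)) (fun i => ?_) ?_
    (fun i => hU _ (hc i.1.1 i.1.2))
  · exact (f.continuous.comp continuous_subtype_val).subtype_mk _
  · intro y
    obtain ⟨x, hx⟩ := Set.mem_iUnion.1 (ht y.2)
    obtain ⟨hxt, w, hw, hwy⟩ := Set.mem_iUnion.1 hx
    exact ⟨⟨x, hxt⟩, ⟨w, hw⟩, Subtype.ext hwy⟩

/-- Finitely many components iff finitely many points of codimension `0`. -/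
theorem finite_irreducibleComponents_iff (T : Scheme.{u}) :
    (irreducibleComponents ↥T).Finite ↔ {t : T | ringKrullDim (T.presheaf.stalk t) = 0}.Finite := by
  have key : ∀ t : T, ringKrullDim (T.presheaf.stalk t) = 0 ↔
      closure ({t} : Set T) ∈ irreducibleComponents ↥T := by
    intro t
    rw [K610.CodimZero.ringKrullDim_eq_zero_iff, Groth.Agent.S2255.closure_singleton_mem_irreducibleComponents_iff]
    exact forall₂_congr fun y hy => ⟨fun h => (hy.antisymm h).eq, fun h => by rw [h]⟩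
  constructor
  · intro h
    refine Set.Finite.of_finite_image (f := fun t => closure ({t} : Set T)) (h.subset ?_) ?_
    · rintro _ ⟨t, ht, rfl⟩
      exact (key t).1 ht
    · intro a _ b _ hab
      have h1 : a ⤳ b := specializes_iff_closure_subset.2 hab.ge
      have h2 : b ⤳ a := specializes_iff_closure_subset.2 hab.le
      exact (h1.antisymm h2).eq
  · intro h
    refine (h.image (fun t => closure ({t} : Set T))).subset fun Z hZ => ?_
    obtain ⟨z, hz⟩ := QuasiSober.sober hZ.1 (isClosed_of_mem_irreducibleComponents _ hZ)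
    refine ⟨z, ?_, hz⟩
    change ringKrullDim _ = 0
    rw [key, hz.def]
    exact hZ

end K616.LocFin
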