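import Groth.Agent.AlgSp.K616.Inv
import Groth.Agent.S0116
/-!
# Étale local properties of schemes and charts; locally Noetherian spaces

* `chart_of_etaleLocally`: a property of schemes inherited by étale maps and descending along étale surjections
  holds for every étale chart of a sheaf having it étale locally.
* `isLocallyNoetherian_chart`.
-/

set_option autoImplicit false
universe u
open CategoryTheory CategoryTheory.Limits AlgebraicGeometry Opposite

namespace K616.LocNoeth

open AlgSp K616.Refine K616.Inv

variable {S : Scheme.{u}}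

theorem chart_of_etaleLocally {P : Scheme.{u} → Prop}
    (h1 : ∀ ⦃U V : Scheme.{u}⦄ (f : U ⟶ V) [Etale f], P V → P U)
    (h2 : ∀ ⦃U V : Scheme.{u}⦄ (f : U ⟶ V) [Etale f] [Surjective f], P U → P V)
    {F : Sp S} (hF : EtaleLocally P F) {U : Over S} (a : (yon S).obj U ⟶ F) (ha : RepWith @Etale a) :
    P U.left := by
  obtain ⟨W, p, hp, hs, hW⟩ := hF
  obtain ⟨T, snd, fst, sq⟩ := hp.rep a
  obtain ⟨fst, rfl⟩ := (yon S).map_surjective fst
  have e1 : Etale snd.left := hp.property a _ _ sq
  have e2 : Surjective snd.left := hs.property a _ _ sq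
  have e3 : Etale fst.left := ha.property p _ _ sq.flip
  exact h2 snd.left (h1 fst.left hW)

theorem isLocallyNoetherian_of_lft {U V : Scheme.{u}} (f : U ⟶ V) [LocallyOfFiniteType f]
    [IsLocallyNoetherian V] : IsLocallyNoetherian U :=
  LocallyOfFiniteType.isLocallyNoetherian f

/-- Every étale chart of a locally Noetherian space is locally Noetherian. -/
theorem isLocallyNoetherian_chart {F : Sp S} (hF : IsLocNoethSp F) {U : Over S} (a : (yon S).obj U ⟶ F)
    (ha : RepWith @Etale a) : IsLocallyNoetherian U.left :=
  chart_of_etaleLocally (P := IsLocallyNoetherian)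
    (fun _ _ f _ _ => isLocallyNoetherian_of_lft f)
    (fun _ _ f _ _ _ => Groth.Agent.S0116.result f) hF a ha

end K616.LocNoeth
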