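import Mathlib.RingTheory.Flat.Localization
import Mathlib.RingTheory.Flat.Stability
import Mathlib.RingTheory.Localization.AtPrime.Basic
import Mathlib.RingTheory.Ideal.Over
import Mathlib.RingTheory.Spectrum.Prime.Basic
import Mathlib.RingTheory.Localization.LocalizationLocalization
import Mathlib.Tactic.LinearCombination

/-!
# The localization along a closed subscheme

For a ring homomorphism `ρ : R → E` the submonoid `oneFib ρ = {x | ρ x = 1}`; `Localization (oneFib ρ)` is the
localization of `Spec R` along the closed subscheme `V(ker ρ)` when `ρ` is surjective.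
-/

set_option autoImplicit false
universe u

namespace K616.LocOne

variable {R E : Type u} [CommRing R] [CommRing E] (ρ : R →+* E)

/-- the elements mapped to `1` -/
def oneFib : Submonoid R := (⊥ : Submonoid E).comap ρ

theorem mem_oneFib {x : R} : x ∈ oneFib ρ ↔ ρ x = 1 := by
  rw [oneFib, Submonoid.mem_comap, Submonoid.mem_bot]

/-- `ρ` on the localization -/
noncomputable def lift : Localization (oneFib ρ) →+* E :=
  IsLocalization.lift (M := oneFib ρ) (g := ρ) fun y => by
    rw [(mem_oneFib ρ).1 y.2]
    exact isUnit_one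

theorem lift_algebraMap (x : R) : lift ρ (algebraMap R _ x) = ρ x :=
  IsLocalization.lift_eq _ x

theorem lift_comp : (lift ρ).comp (algebraMap R _) = ρ :=
  RingHom.ext (lift_algebraMap ρ)

theorem lift_surjective (h : Function.Surjective ρ) : Function.Surjective (lift ρ) := fun e => by
  obtain ⟨x, rfl⟩ := h e
  exact ⟨_, lift_algebraMap ρ x⟩

theorem exists_eq (b : Localization (oneFib ρ)) : ∃ (r s : R), ρ s = 1 ∧ b * algebraMap R _ s = algebraMap R _ r ∧
    lift ρ b = ρ r := by
  obtain ⟨⟨r, s⟩, h⟩ := IsLocalization.surj (oneFib ρ) b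
  refine ⟨r, s, (mem_oneFib ρ).1 s.2, h, ?_⟩
  have h1 := congrArg (lift ρ) h
  rw [map_mul, lift_algebraMap, lift_algebraMap, (mem_oneFib ρ).1 s.2, mul_one] at h1
  exact h1

theorem isUnit {s : R} (hs : ρ s = 1) : IsUnit (algebraMap R (Localization (oneFib ρ)) s) :=
  IsLocalization.map_units (Localization (oneFib ρ)) (⟨s, (mem_oneFib ρ).2 hs⟩ : oneFib ρ)

theorem mem_of_isMaximal (m : Ideal (Localization (oneFib ρ))) [hm : m.IsMaximal] {x : R} (hx : ρ x = 0) :
    algebraMap R _ x ∈ m := by
  by_contra hc
  obtain ⟨b, hb⟩ := hm.exists_inv hc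
  obtain ⟨r, s, hs, hrs, -⟩ := exists_eq ρ b
  obtain ⟨i, hi, hbi⟩ := hb
  have h1 : algebraMap R (Localization (oneFib ρ)) (s - r * x) ∈ m := by
    have h2 : algebraMap R (Localization (oneFib ρ)) (s - r * x) = algebraMap R _ s * i := by
      rw [map_sub, map_mul, ← hrs]
      linear_combination (-algebraMap R (Localization (oneFib ρ)) s) * hbi
    rw [h2]
    exact m.mul_mem_left _ hi
  have h3 : ρ (s - r * x) = 1 := by rw [map_sub, map_mul, hs, hx, mul_zero, sub_zero]
  exact hm.ne_top (Ideal.eq_top_of_isUnit_mem _ h1 (isUnit ρ h3))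

/-- Flatness of the localization along `V(ker ρ)` can be tested at the points of `V(ker ρ)`. -/
theorem flat {A : Type u} [CommRing A] [Algebra A R]
    (h : ∀ (q : Ideal R) [q.IsPrime], RingHom.ker ρ ≤ q → Module.Flat A (Localization.AtPrime q)) :
    Module.Flat A (Localization (oneFib ρ)) := by
  let B := Localization (oneFib ρ)
  refine Module.flat_of_isLocalized_maximal (R := A) B B (fun P _ => Localization.AtPrime P)
    (fun P _ => Algebra.linearMap B (Localization.AtPrime P)) fun P hP => ?_
  let q : Ideal R := P.comap (algebraMap R B)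
  have hq : RingHom.ker ρ ≤ q := fun x hx => mem_of_isMaximal ρ P hx
  have h1 := h q hq
  have h2 : IsLocalization.AtPrime (Localization.AtPrime P) q :=
    IsLocalization.isLocalization_isLocalization_atPrime_isLocalization (oneFib ρ) (Localization.AtPrime P) P
  let e : Localization.AtPrime q ≃ₐ[R] Localization.AtPrime P :=
    IsLocalization.algEquiv q.primeCompl (Localization.AtPrime q) (Localization.AtPrime P)
  exact Module.Flat.of_linearEquiv (e.restrictScalars A).symm.toLinearEquiv

/-- Primes containing the kernel come from the localization. -/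
theorem exists_prime (hρ : Function.Surjective ρ) (q : Ideal R) [q.IsPrime] (hq : RingHom.ker ρ ≤ q) :
    ∃ b : Ideal (Localization (oneFib ρ)), b.IsPrime ∧ b.comap (algebraMap R _) = q := by
  have : (q.map ρ).IsPrime := Ideal.map_isPrime_of_surjective hρ hq
  refine ⟨(q.map ρ).comap (lift ρ), inferInstance, ?_⟩
  rw [Ideal.comap_comap, lift_comp, Ideal.comap_map_of_surjective _ hρ, ← RingHom.ker_eq_comap_bot, sup_eq_left]
  exact hq

end K616.LocOne
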