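import Groth.Agent.AlgSp.K616.Inv
import Groth.Agent.AlgSp.K609.Points
import Mathlib.Topology.Spectral.Basic

/-!
# Loci defined by pointwise conditions: openness, retrocompactness

* `preimage_setOf_hasAt`, `preimage_setOf_hasAtMor`: the preimage of the locus in a chart.
* `isOpen_hasAtMor`, `isOpen_hasAt`.
* `isCompact_inter_hasAtMor`: retrocompactness of the locus from the scheme statement.
-/

set_option autoImplicit false
universe u
open CategoryTheory CategoryTheory.Limits AlgebraicGeometry Opposite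

namespace K616.Loci

open AlgSp K616.Refine K616.Inv

variable {S : Scheme.{u}}

theorem preimage_setOf_hasAt {Q : ∀ U : Scheme.{u}, ↥U → Prop} (hQ : EtInvAt Q) {F : Sp S} {U : Over S}
    (a : (yon S).obj U ⟶ F) (ha : RepWith @Etale a) :
    Points.ofPt a ⁻¹' {x | HasAt Q F x} = {u | Q U.left u} := by
  ext u
  exact hasAt_iff hQ a ha u

theorem preimage_setOf_hasAtMor {P : MorphismProperty Scheme.{u}}
    {Q : ∀ (U V : Scheme.{u}), (U ⟶ V) → ↥U → Prop}
    (hQ : EtInvOn P Q) {F G : Sp S} {f : F ⟶ G} (hf : LocP P f) {U V : Over S} (a : (yon S).obj U ⟶ F)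
    (b : (yon S).obj V ⟶ G) (h : U ⟶ V) (ha : RepWith @Etale a) (hb : RepWith @Etale b)
    (w : a ≫ f = (yon S).map h ≫ b) :
    Points.ofPt a ⁻¹' {x | HasAtMor Q f x} = {u | Q U.left V.left h.left u} := by
  ext u
  exact hasAtMor_iff hQ hf a b h ha hb w u

theorem isOpen_hasAt {Q : ∀ U : Scheme.{u}, ↥U → Prop}
    (hO : ∀ U : Scheme.{u}, IsOpen {u : U | Q U u}) (F : Sp S) : IsOpen {x : Points F | HasAt Q F x} := by
  rw [isOpen_iff_forall_mem_open]
  rintro x ⟨U, a, u, ha, rfl, hu⟩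
  refine ⟨Points.ofPt a '' {u : U.left | Q U.left u}, ?_, K609.Points.isOpenMap_ofPt ha _ (hO _), ⟨u, hu, rfl⟩⟩
  rintro _ ⟨u', hu', rfl⟩
  exact ⟨U, a, u', ha, rfl, hu'⟩

/-- Openness of a locus, from the scheme statement. -/
theorem isOpen_hasAtMor {P : MorphismProperty Scheme.{u}}
    {Q : ∀ (U V : Scheme.{u}), (U ⟶ V) → ↥U → Prop}
    (hO : ∀ ⦃U V : Scheme.{u}⦄ (h : U ⟶ V), P h → IsOpen {u : U | Q U V h u})
    {F G : Sp S} {f : F ⟶ G} (hf : LocP P f) : IsOpen {x : Points F | HasAtMor Q f x} := by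
  rw [isOpen_iff_forall_mem_open]
  rintro x ⟨U, V, a, b, h, u, ha, hb, w, rfl, hu⟩
  refine ⟨Points.ofPt a '' {u : U.left | Q U.left V.left h.left u}, ?_,
    K609.Points.isOpenMap_ofPt ha _ (hO _ (hf a b h ha hb w)), ⟨u, hu, rfl⟩⟩
  rintro _ ⟨u', hu', rfl⟩
  exact ⟨U, V, a, b, h, u', ha, hb, w, rfl, hu'⟩

/-- Retrocompactness of a locus, from the scheme statement. -/
theorem isCompact_inter_hasAtMor {P : MorphismProperty Scheme.{u}}
    {Q : ∀ (U V : Scheme.{u}), (U ⟶ V) → ↥U → Prop} (hQ : EtInvOn P Q)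
    (hR : ∀ ⦃U V : Scheme.{u}⦄ (h : U ⟶ V), P h → IsRetrocompact {u : U | Q U V h u})
    {F G : Sp S} {f : F ⟶ G} (hF : IsAlgSpace F) (hG : IsAlgSpace G) (hf : LocP P f)
    (O : Set (Points F)) (hO : IsOpen O) (hOc : IsCompact O) :
    IsCompact (O ∩ {x : Points F | HasAtMor Q f x}) := by
  have key : ∀ x : O, ∃ (D : Set (Points F)), IsOpen D ∧ x.1 ∈ D ∧ D ⊆ O ∧
      IsCompact (D ∩ {x : Points F | HasAtMor Q f x}) := by
    rintro ⟨x, hx⟩
    obtain ⟨U, V, a, b, h, u, ha, hb, w, rfl⟩ := exists_diagram hF hG f x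
    obtain ⟨W, hW, huW, hWO⟩ := exists_isAffineOpen_mem_and_subset (x := u)
      (U := ⟨Points.ofPt a ⁻¹' O, hO.preimage (Points.continuous_ofPt a)⟩) hx
    refine ⟨Points.ofPt a '' (W : Set U.left), K609.Points.isOpenMap_ofPt ha _ W.isOpen,
      ⟨u, huW, rfl⟩, ?_, ?_⟩
    · rintro _ ⟨w, hw, rfl⟩
      exact hWO hw
    · rw [← Set.image_inter_preimage, preimage_setOf_hasAtMor hQ hf a b h ha hb w]
      refine IsCompact.image ?_ (Points.continuous_ofPt a)
      rw [Set.inter_comm]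
      exact hR _ (hf a b h ha hb w) hW.isCompact W.isOpen
  choose D h1 h2 h3 h4 using key
  obtain ⟨t, ht⟩ := hOc.elim_finite_subcover D h1 (fun x hx => Set.mem_iUnion.2 ⟨⟨x, hx⟩, h2 _⟩)
  have : O ∩ {x : Points F | HasAtMor Q f x} = ⋃ i ∈ t, (D i ∩ {x : Points F | HasAtMor Q f x}) := by
    apply subset_antisymm
    · rintro x ⟨hx, hx'⟩
      obtain ⟨i, hi, hxi⟩ := Set.mem_iUnion₂.1 (ht hx)
      exact Set.mem_iUnion₂.2 ⟨i, hi, hxi, hx'⟩
    · refine Set.iUnion₂_subset fun i hi => ?_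
      exact Set.inter_subset_inter_left _ (h3 i)
  rw [this]
  exact t.finite_toSet.isCompact_biUnion fun i _ => h4 i

end K616.Loci
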