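import Groth.Agent.Pi1A.EtaleLift
import Mathlib.RingTheory.Unramified.Finite
import Mathlib.RingTheory.Etale.Basic
import Mathlib.RingTheory.Flat.Localization
import Mathlib.RingTheory.Ideal.Over
import Mathlib.RingTheory.Spectrum.Prime.Basic

/-!
# Étale neighbourhoods of closed subschemes

`A → C` a ring map, `I` an ideal of `A` with `C/IC` étale over `A/I`. There are an étale `A`-algebra `A'` and a
localization `B` of `A' ⊗ C` such that `B = A' + I B` and every prime of `A'` containing `I` is the trace of a prime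
of `B`; the primes of `A` which are traces of primes of `C` containing `I` lift to `A'`.
-/

set_option autoImplicit false
universe u
open TensorProduct

namespace K616.Nbhd

variable {A C : Type u} [CommRing A] [CommRing C] [Algebra A C] (I : Ideal A)

section Core

variable {A' : Type u} [CommRing A'] [Algebra A A']

theorem exists_elem {E : Type u} [CommRing E] [Algebra (A ⧸ I) E] [Algebra A E] [IsScalarTower A (A ⧸ I) E]
    [Algebra.Etale (A ⧸ I) E] (ε : (A ⧸ I) ⊗[A] A' ≃ₐ[A ⧸ I] E) (κ : C →ₐ[A] E)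
    (hκ : Function.Surjective κ) (hκ' : ∀ c, κ c = 0 → c ∈ I.map (algebraMap A C))
    (ρ : A' ⊗[A] C →ₐ[A] E) (hρ : ∀ a c, ρ (a ⊗ₜ[A] c) = ε (1 ⊗ₜ[A] a) * κ c) :
    ∃ s : A' ⊗[A] C, ρ s = 1 ∧ ∀ k : A' ⊗[A] C, ρ k = 0 → k * s ∈ I.map (algebraMap A (A' ⊗[A] C)) := by
  let C' := A' ⊗[A] C
  let IC' := I.map (algebraMap A C')
  let C'' := C' ⧸ IC'
  let π : C' →ₐ[A] C'' := Ideal.Quotient.mkₐ A IC'
  have hπ : ∀ x, π x = 0 ↔ x ∈ IC' := fun x => Ideal.Quotient.eq_zero_iff_mem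
  have hsc : ∀ (a : A), algebraMap (A ⧸ I) C'' (Ideal.Quotient.mk I a) = algebraMap A C'' a := fun a => rfl
  -- the two maps `E → C''`
  let lam0 : A' →ₐ[A] C'' := π.comp (Algebra.TensorProduct.includeLeft : A' →ₐ[A] A' ⊗[A] C)
  let lam1 : (A ⧸ I) ⊗[A] A' →ₐ[A ⧸ I] C'' :=
    Algebra.TensorProduct.lift (Algebra.ofId (A ⧸ I) C'') lam0 (fun _ _ => Commute.all _ _)
  have hlam1 : ∀ a' : A', lam1 (1 ⊗ₜ[A] a') = lam0 a' := fun a' => by
    rw [Algebra.TensorProduct.lift_tmul, map_one, one_mul]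
  let lam : E →ₐ[A ⧸ I] C'' := lam1.comp ε.symm.toAlgHom
  have hlam : ∀ a' : A', lam (ε (1 ⊗ₜ[A] a')) = lam0 a' := fun a' => by
    change lam1 (ε.symm (ε (1 ⊗ₜ[A] a'))) = _
    rw [AlgEquiv.symm_apply_apply, hlam1]
  let r0 : C →ₐ[A] C'' := π.comp (Algebra.TensorProduct.includeRight : C →ₐ[A] A' ⊗[A] C)
  have hr0 : ∀ c, κ c = 0 → r0 c = 0 := by
    intro c hc
    have h1 : I.map (algebraMap A C) ≤ RingHom.ker r0 := by
      refine Ideal.map_le_iff_le_comap.2 fun a ha => ?_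
      rw [Ideal.mem_comap, RingHom.mem_ker, AlgHom.commutes]
      change Ideal.Quotient.mk IC' (algebraMap A C' a) = 0
      exact Ideal.Quotient.eq_zero_iff_mem.2 (Ideal.mem_map_of_mem _ ha)
    exact h1 (hκ' c hc)
  obtain ⟨r, hr⟩ : ∃ r : E →ₐ[A ⧸ I] C'', ∀ c, r (κ c) = r0 c := by
    let g : E →+* C'' := RingHom.liftOfSurjective κ.toRingHom hκ ⟨r0.toRingHom, fun c hc => hr0 c hc⟩
    have hg : ∀ c, g (κ c) = r0 c := fun c => by
      exact RingHom.liftOfRightInverse_comp_apply _ _ _ _ c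
    refine ⟨{ g with commutes' := ?_ }, hg⟩
    intro a
    obtain ⟨a, rfl⟩ := Ideal.Quotient.mk_surjective a
    have h1 : algebraMap (A ⧸ I) E (Ideal.Quotient.mk I a) = κ (algebraMap A C a) := by
      rw [AlgHom.commutes, IsScalarTower.algebraMap_apply A (A ⧸ I) E]
      rfl
    change g (algebraMap (A ⧸ I) E (Ideal.Quotient.mk I a)) = _
    rw [h1, hg, AlgHom.commutes, hsc]
  let T : E ⊗[A ⧸ I] E →ₐ[A ⧸ I] C'' := Algebra.TensorProduct.lift lam r (fun _ _ => Commute.all _ _)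
  have hT : ∀ x y, T (x ⊗ₜ[A ⧸ I] y) = lam x * r y := fun x y => Algebra.TensorProduct.lift_tmul _ _ _ _ _
  obtain ⟨t, ht1, ht2⟩ := (Algebra.FormallyUnramified.iff_exists_tensorProduct (R := A ⧸ I) (S := E)).1 inferInstance
  have hρI : ∀ x ∈ IC', ρ x = 0 := by
    intro x hx
    have h1 : IC' ≤ RingHom.ker ρ := by
      refine Ideal.map_le_iff_le_comap.2 fun a ha => ?_
      rw [Ideal.mem_comap, RingHom.mem_ker, AlgHom.commutes, IsScalarTower.algebraMap_apply A (A ⧸ I) E]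
      change algebraMap (A ⧸ I) E (Ideal.Quotient.mk I a) = 0
      rw [Ideal.Quotient.eq_zero_iff_mem.2 ha, map_zero]
    exact h1 hx
  let ρ' : C'' →+* E := Ideal.Quotient.lift IC' ρ.toRingHom hρI
  have hρ' : ∀ x, ρ' (π x) = ρ x := fun x => rfl
  -- every element of `E` is `ε (1 ⊗ a')`
  have hε : ∀ x : E, ∃ a' : A', x = ε (1 ⊗ₜ[A] a') := by
    intro x
    obtain ⟨y, rfl⟩ := ε.surjective x
    have h1 : ∀ y : (A ⧸ I) ⊗[A] A', ∃ a' : A', y = 1 ⊗ₜ[A] a' := by
      intro y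
      induction y with
      | zero => exact ⟨0, (TensorProduct.tmul_zero _ _).symm⟩
      | add y z hy hz =>
        obtain ⟨a, rfl⟩ := hy
        obtain ⟨b, rfl⟩ := hz
        exact ⟨a + b, (TensorProduct.tmul_add _ _ _).symm⟩
      | tmul a b =>
        obtain ⟨a, rfl⟩ := Ideal.Quotient.mk_surjective a
        refine ⟨a • b, ?_⟩
        rw [← TensorProduct.smul_tmul]
        congr 1
        rw [Algebra.smul_def, mul_one]
        rfl
    obtain ⟨a', ha'⟩ := h1 y
    exact ⟨a', by rw [ha']⟩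
  have hρlam : ∀ x, ρ' (lam x) = x := by
    intro x
    obtain ⟨a', rfl⟩ := hε x
    rw [hlam]
    change ρ (a' ⊗ₜ[A] (1 : C)) = _
    rw [hρ, map_one, mul_one]
  have hρr : ∀ x, ρ' (r x) = x := by
    intro x
    obtain ⟨c, rfl⟩ := hκ x
    rw [hr]
    change ρ ((1 : A') ⊗ₜ[A] c) = _
    have h1 : ε (1 ⊗ₜ[A] (1 : A')) = 1 := by
      rw [← Algebra.TensorProduct.one_def, map_one]
    rw [hρ, h1, one_mul]
  have hρT : ∀ z, ρ' (T z) = Algebra.TensorProduct.lmul' (A ⧸ I) (S := E) z := by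
    intro z
    induction z with
    | zero => rw [map_zero, map_zero, map_zero]
    | add y z hy hz => rw [map_add, map_add, map_add, hy, hz]
    | tmul x y => rw [hT, map_mul, hρlam, hρr, Algebra.TensorProduct.lmul'_apply_tmul]
  obtain ⟨s, hs⟩ : ∃ s : C', π s = T t := Ideal.Quotient.mk_surjective _
  have hrel : ∀ x, lam x * T t = r x * T t := by
    intro x
    have h1 := congrArg T (ht1 x)
    rw [map_mul, map_sub, hT, hT, map_one, map_one, one_mul, mul_one, map_zero, sub_mul, sub_eq_zero] at h1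
    exact h1.symm
  have hk : ∀ k : A' ⊗[A] C, π k * T t = r (ρ k) * T t := by
    intro k
    induction k with
    | zero => simp only [map_zero, zero_mul]
    | add y z hy hz => rw [map_add, map_add, map_add, add_mul, add_mul, hy, hz]
    | tmul a c =>
      have h1 : π (a ⊗ₜ[A] c) = lam (ε (1 ⊗ₜ[A] a)) * r (κ c) := by
        rw [hlam, hr]
        change π (a ⊗ₜ[A] c) = π (a ⊗ₜ[A] (1 : C)) * π ((1 : A') ⊗ₜ[A] c)
        rw [← map_mul, Algebra.TensorProduct.tmul_mul_tmul, mul_one, one_mul]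
      rw [h1, hρ, map_mul, mul_right_comm, hrel]
      ring
  refine ⟨s, ?_, fun k hk0 => ?_⟩
  · rw [← hρ', hs, hρT]
    exact ht2
  · rw [← hπ, map_mul, hs, hk, hk0, map_zero, zero_mul]

end Core

end K616.Nbhd
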