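import Groth.Agent.AlgSp.K616.Nbhd
import Groth.Agent.AlgSp.K616.LocOne
import Mathlib.RingTheory.RingHom.Flat

/-!
# Étale neighbourhoods of closed subschemes, II

`A → C` a ring map, `I` an ideal of `A` with `E = C/IC` étale over `A/I`, and `A → C` flat at the points of
`V(IC)`. There are an étale `A`-algebra `A'`, a flat `C → C₀` and a flat `A' ⊗ C₀ → B` with `A' → B` flat,
`B = A' + I B`, and every prime of `A'` containing `I` is the trace of a prime of `B`; the primes of `A` which are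
traces of primes of `C` containing `I` lift to `A'`.
-/

set_option autoImplicit false
universe u
open TensorProduct K616.LocOne

namespace K616.Nbhd

variable {A C : Type u} [CommRing A] [CommRing C] [Algebra A C] (I : Ideal A)

theorem exists_nbhd {E : Type u} [CommRing E] [Algebra (A ⧸ I) E] [Algebra A E] [IsScalarTower A (A ⧸ I) E]
    [Algebra.Etale (A ⧸ I) E] (κ : C →ₐ[A] E) (hκ : Function.Surjective κ)
    (hκ' : ∀ c, κ c = 0 → c ∈ I.map (algebraMap A C))
    (hflat : ∀ (q : Ideal C) [q.IsPrime], I.map (algebraMap A C) ≤ q → Module.Flat A (Localization.AtPrime q)) :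
    ∃ (A' : Type u) (_ : CommRing A') (_ : Algebra A A') (C₀ : Type u) (_ : CommRing C₀) (_ : Algebra A C₀)
      (ι : C →ₐ[A] C₀) (B : Type u) (_ : CommRing B) (β : A' ⊗[A] C₀ →+* B),
      Algebra.Etale A A' ∧ ι.toRingHom.Flat ∧ β.Flat ∧
      (β.comp (Algebra.TensorProduct.includeLeftRingHom (R := A) (A := A') (B := C₀))).Flat ∧
      (∀ b : B, ∃ a' : A', b - β (a' ⊗ₜ[A] 1) ∈ (I.map (algebraMap A A')).map
        (β.comp (Algebra.TensorProduct.includeLeftRingHom (R := A) (A := A') (B := C₀)))) ∧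
      (∀ (p' : Ideal A') [p'.IsPrime], I.map (algebraMap A A') ≤ p' → ∃ b : Ideal B, b.IsPrime ∧
        b.comap (β.comp (Algebra.TensorProduct.includeLeftRingHom (R := A) (A := A') (B := C₀))) = p') ∧
      (∀ (r : Ideal C) [r.IsPrime], I.map (algebraMap A C) ≤ r → ∃ p' : Ideal A', p'.IsPrime ∧
        I.map (algebraMap A A') ≤ p' ∧ p'.comap (algebraMap A A') = r.comap (algebraMap A C)) := by
  obtain ⟨A', _, _, hA', ⟨ε⟩⟩ := Groth.Agent.Pi1A.EtaleLift.exists_etale_lift
    (R₀ := A) (R := A ⧸ I) Ideal.Quotient.mk_surjective E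
  -- the localization of `C`
  let C₀ := Localization (oneFib κ.toRingHom)
  have hkerκ : RingHom.ker κ.toRingHom = I.map (algebraMap A C) := by
    apply le_antisymm
    · exact fun x hx => hκ' x hx
    · refine Ideal.map_le_iff_le_comap.2 fun a ha => ?_
      rw [Ideal.mem_comap, RingHom.mem_ker]
      change κ (algebraMap A C a) = 0
      rw [AlgHom.commutes, IsScalarTower.algebraMap_apply A (A ⧸ I) E]
      change algebraMap (A ⧸ I) E (Ideal.Quotient.mk I a) = 0
      rw [Ideal.Quotient.eq_zero_iff_mem.2 ha, map_zero]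
  have hC₀ : Module.Flat A C₀ := LocOne.flat κ.toRingHom fun q _ hq => hflat q (hkerκ ▸ hq)
  let ι : C →ₐ[A] C₀ := IsScalarTower.toAlgHom A C C₀
  have hι : ι.toRingHom.Flat := by
    have h1 : Module.Flat C C₀ := IsLocalization.flat C₀ (oneFib κ.toRingHom)
    exact RingHom.flat_algebraMap_iff.2 h1
  let κ₀ : C₀ →ₐ[A] E := { lift κ.toRingHom with
    commutes' := fun a => by
      change lift κ.toRingHom (algebraMap A C₀ a) = _
      rw [IsScalarTower.algebraMap_apply A C C₀, lift_algebraMap]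
      exact κ.commutes a }
  have hκ₀ : ∀ x, κ₀ x = lift κ.toRingHom x := fun _ => rfl
  have hκ₀s : Function.Surjective κ₀ := lift_surjective κ.toRingHom hκ
  have hκ₀k : ∀ c, κ₀ c = 0 → c ∈ I.map (algebraMap A C₀) := by
    intro c hc
    obtain ⟨r, s, hs, hcs, hcr⟩ := exists_eq κ.toRingHom c
    have h1 : κ r = 0 := hcr.symm.trans hc
    have h2 : algebraMap C C₀ r ∈ I.map (algebraMap A C₀) := by
      have h3 := Ideal.mem_map_of_mem (algebraMap C C₀) (hκ' r h1)
      rwa [Ideal.map_map, ← IsScalarTower.algebraMap_eq] at h3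
    obtain ⟨v, hv⟩ := isUnit κ.toRingHom hs
    have h4 : c = algebraMap C C₀ r * (v⁻¹ : C₀ˣ) := by
      rw [← hcs, ← hv, mul_assoc, Units.mul_inv, mul_one]
    rw [h4]
    exact Ideal.mul_mem_right _ _ h2
  -- the map `A' ⊗ C₀ → E`
  let θ : A' →ₐ[A] E :=
    ((ε.toAlgHom.restrictScalars A).comp (Algebra.TensorProduct.includeRight : A' →ₐ[A] (A ⧸ I) ⊗[A] A'))
  have hθ : ∀ a, θ a = ε (1 ⊗ₜ[A] a) := fun _ => rfl
  let ρ : A' ⊗[A] C₀ →ₐ[A] E := Algebra.TensorProduct.lift θ κ₀ (fun _ _ => Commute.all _ _)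
  have hρ : ∀ a c, ρ (a ⊗ₜ[A] c) = ε (1 ⊗ₜ[A] a) * κ₀ c := fun a c => Algebra.TensorProduct.lift_tmul _ _ _ _ _
  have hθs : Function.Surjective θ := by
    intro x
    obtain ⟨y, rfl⟩ := ε.surjective x
    have h1 : ∀ y : (A ⧸ I) ⊗[A] A', ∃ a' : A', y = 1 ⊗ₜ[A] a' := by
      intro y
      induction y with
      | zero => exact ⟨0, (TensorProduct.tmul_zero _ _).symm⟩
      | add y z hy hz =>
        obtain ⟨a, rfl⟩ := hy
        obtain ⟨b, rfl⟩ := hz
        exact ⟨a + b, (TensorProduct.tmul_add _ _ _).symm⟩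
      | tmul a b =>
        obtain ⟨a, rfl⟩ := Ideal.Quotient.mk_surjective a
        refine ⟨a • b, ?_⟩
        rw [← TensorProduct.smul_tmul]
        congr 1
        rw [Algebra.smul_def, mul_one]
        rfl
    obtain ⟨a', ha'⟩ := h1 y
    exact ⟨a', by rw [hθ, ha']⟩
  have hθk : RingHom.ker θ.toRingHom = I.map (algebraMap A A') := by
    have h1 : ∀ a' : A', (1 : A ⧸ I) ⊗ₜ[A] a' = 0 → a' ∈ I.map (algebraMap A A') := by
      intro a' ha'
      have h2 := congrArg (TensorProduct.quotTensorEquivQuotSMul A' I) ha'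
      have h3 : TensorProduct.quotTensorEquivQuotSMul A' I ((1 : A ⧸ I) ⊗ₜ[A] a') = Submodule.Quotient.mk a' :=
        TensorProduct.quotTensorEquivQuotSMul_mk_one_tmul I a'
      rw [h3, map_zero, Submodule.Quotient.mk_eq_zero, Ideal.smul_top_eq_map] at h2
      exact h2
    apply le_antisymm
    · intro a' ha'
      apply h1
      apply ε.injective
      rw [map_zero]
      exact ha'
    · refine Ideal.map_le_iff_le_comap.2 fun a ha => ?_
      rw [Ideal.mem_comap, RingHom.mem_ker]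
      change θ (algebraMap A A' a) = 0
      rw [AlgHom.commutes, IsScalarTower.algebraMap_apply A (A ⧸ I) E]
      change algebraMap (A ⧸ I) E (Ideal.Quotient.mk I a) = 0
      rw [Ideal.Quotient.eq_zero_iff_mem.2 ha, map_zero]
  obtain ⟨s₁, hs₁, hk₁⟩ := exists_elem I ε κ₀ hκ₀s hκ₀k ρ hρ
  have hρs : Function.Surjective ρ := fun e => by
    obtain ⟨c, rfl⟩ := hκ₀s e
    refine ⟨1 ⊗ₜ c, ?_⟩
    rw [hρ, ← Algebra.TensorProduct.one_def, map_one, one_mul]
  let B := Localization (oneFib ρ.toRingHom)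
  let β : A' ⊗[A] C₀ →+* B := algebraMap _ B
  have hβ : β.Flat := by
    have h1 : Module.Flat (A' ⊗[A] C₀) B := IsLocalization.flat B (oneFib ρ.toRingHom)
    exact RingHom.flat_algebraMap_iff.2 h1
  have hleft : (Algebra.TensorProduct.includeLeftRingHom (R := A) (A := A') (B := C₀)).Flat := by
    have h1 : Module.Flat A' (A' ⊗[A] C₀) := inferInstance
    exact RingHom.flat_algebraMap_iff.2 h1
  refine ⟨A', inferInstance, inferInstance, C₀, inferInstance, inferInstance, ι, B, inferInstance, β, hA', hι,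
    hβ, hleft.comp hβ, ?_, ?_, ?_⟩
  · intro b
    obtain ⟨r, s, hs, hbs, -⟩ := exists_eq ρ.toRingHom b
    obtain ⟨a', ha'⟩ := hθs (ρ r)
    refine ⟨a', ?_⟩
    have h1 : ρ (r - a' ⊗ₜ[A] (1 : C₀) * s) = 0 := by
      have h2 : ρ s = 1 := hs
      rw [map_sub, map_mul, hρ, map_one, mul_one, h2, mul_one, ← hθ, ha', sub_self]
    have h2 := Ideal.mem_map_of_mem β (hk₁ _ h1)
    obtain ⟨v, hv⟩ := isUnit ρ.toRingHom hs
    obtain ⟨v₁, hv₁⟩ := isUnit ρ.toRingHom hs₁
    have h3 : b - β (a' ⊗ₜ[A] 1) = β ((r - a' ⊗ₜ[A] (1 : C₀) * s) * s₁) * ((v⁻¹ : Bˣ) * (v₁⁻¹ : Bˣ)) := by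
      have e1 : β s = v := hv.symm
      have e2 : β s₁ = v₁ := hv₁.symm
      have e3 : β r = b * v := by rw [← e1]; exact hbs.symm
      rw [map_mul, map_sub, map_mul, e1, e2, e3, ← sub_mul, mul_comm ((v⁻¹ : Bˣ) : B), mul_assoc, mul_assoc,
        ← mul_assoc (v₁ : B), Units.mul_inv, one_mul, Units.mul_inv, mul_one]
    rw [h3]
    refine Ideal.mul_mem_right _ _ ?_
    rw [Ideal.map_map] at h2 ⊢
    exact h2
  · intro p' _ hp'
    have hk : RingHom.ker θ.toRingHom ≤ p' := hθk.le.trans hp'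
    have h1 : (p'.map θ.toRingHom).IsPrime := Ideal.map_isPrime_of_surjective (f := θ.toRingHom) hθs hk
    refine ⟨(p'.map θ.toRingHom).comap (lift ρ.toRingHom), inferInstance, ?_⟩
    rw [Ideal.comap_comap]
    have h2 : (lift ρ.toRingHom).comp (β.comp (Algebra.TensorProduct.includeLeftRingHom (R := A) (A := A') (B := C₀))) =
        θ.toRingHom := by
      ext a
      change lift ρ.toRingHom (algebraMap _ B (a ⊗ₜ[A] (1 : C₀))) = θ a
      rw [lift_algebraMap]
      change ρ (a ⊗ₜ[A] (1 : C₀)) = _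
      rw [hρ, map_one, mul_one, hθ]
    rw [h2, Ideal.comap_map_of_surjective θ.toRingHom hθs, ← RingHom.ker_eq_comap_bot, sup_eq_left]
    exact hk
  · intro r _ hr
    have hk : RingHom.ker κ.toRingHom ≤ r := hkerκ.le.trans hr
    have h1 : (r.map κ.toRingHom).IsPrime := Ideal.map_isPrime_of_surjective (f := κ.toRingHom) hκ hk
    refine ⟨(r.map κ.toRingHom).comap θ.toRingHom, inferInstance, ?_, ?_⟩
    · rw [← hθk]
      exact Ideal.comap_mono bot_le
    · rw [Ideal.comap_comap]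
      have h2 : θ.toRingHom.comp (algebraMap A A') = κ.toRingHom.comp (algebraMap A C) := by
        ext a
        exact (θ.commutes a).trans (κ.commutes a).symm
      rw [h2, ← Ideal.comap_comap, Ideal.comap_map_of_surjective κ.toRingHom hκ, ← RingHom.ker_eq_comap_bot,
        sup_eq_left.2 hk]

end K616.Nbhd
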