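import Groth.Agent.AlgSp.K616.Refine
import Groth.Agent.AlgSp.K598.SchImg
import Groth.Agent.AlgSp.K596.QC2
import Groth.Agent.AlgSp.K595.DiagBasic
import Groth.Agent.AlgSp.K597.Affine
import Groth.Agent.AlgSp.K610.CodimZero
import Groth.Agent.S9964
import Groth.Prelude.Def_AlgSpMor5
import Groth.Agent.S2255

/-!
# The relative normalization is scheme theoretically dominated

* `exists_generic_lift`: codimension `0` points lift along a quasi-compact `q` with zero kernel.
* `isIntegralMor_comp_closed`, `isQuasiSeparatedMor_of_isIntegralMor`.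
* `ideal_eq_bot`: for the normalization `X'` of `X` in `Y`, the scheme theoretic image of `Y ⟶ X'` is `X'`.
-/

set_option autoImplicit false
universe u
open CategoryTheory CategoryTheory.Limits AlgebraicGeometry Opposite

namespace K616.Norm

open AlgSp K616.Refine K598.ClFam K598.SchImg

theorem exists_generic_lift {U T : Scheme.{u}} (q : U ⟶ T) [QuasiCompact q] (hq : q.ker = ⊥) (t : T)
    (ht : ringKrullDim (T.presheaf.stalk t) = 0) :
    ∃ u : U, q u = t ∧ ringKrullDim (U.presheaf.stalk u) = 0 := by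
  have hd : IsDominant q := by
    refine ⟨?_⟩
    have h1 := Scheme.Hom.support_ker q
    rw [hq, Scheme.IdealSheafData.support_bot] at h1
    rw [DenseRange, dense_iff_closure_eq, ← h1]
    rfl
  rw [K610.CodimZero.ringKrullDim_eq_zero_iff] at ht
  obtain ⟨u', hu'⟩ := Groth.Agent.S2255.mem_range_of_forall_specializes_eq q t
    (fun y hy => (hy.antisymm (ht y hy)).eq)
  obtain ⟨u, hu, h0⟩ := K610.CodimZero.exists_specializes U u'
  refine ⟨u, ?_, h0⟩
  have h2 : q u ⤳ t := hu' ▸ hu.map q.continuous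
  exact (h2.antisymm (ht _ h2)).eq

variable {S : Scheme.{u}}

/-- A closed subspace of an integral space is integral. -/
theorem isIntegralMor_comp_closed {Z X' X : Sp S} {i : Z ⟶ X'} {ν : X' ⟶ X}
    (hi : RepWith @IsClosedImmersion i) (hν : IsIntegralMor ν) : IsIntegralMor (i ≫ ν) := by
  intro Z0 hZ0 t
  obtain ⟨W, p, fst, sq, hW, hp⟩ := hν hZ0 t
  obtain ⟨W', q, fst', sq'⟩ := hi.1 fst
  have hq : IsClosedImmersion q.left := hi.2 _ _ _ sq'
  refine ⟨W', q ≫ p, fst', ?_, isAffine_of_isAffineHom q.left, ?_⟩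
  · rw [Functor.map_comp]
    exact (sq'.flip.paste_horiz sq.flip).flip
  · rw [Over.comp_left]
    infer_instance

theorem isQuasiSeparatedMor_of_isIntegralMor {X' X : Sp S} {ν : X' ⟶ X} (hν : IsIntegralMor ν) :
    IsQuasiSeparatedMor ν := by
  have h1 : IsAffineMor ν := fun Z hZ t => by
    obtain ⟨W, p, fst, sq, hW, -⟩ := hν hZ t
    exact ⟨W, p, fst, sq, hW⟩
  have h2 := K597.Affine.repWith_of_isAffineMor h1
  rw [K595.DiagBasic.isQuasiSeparatedMor_iff_repWith h2.1]
  exact MorphismProperty.relative_monotone (fun _ _ g hg => by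
    have : IsAffineHom g.left := hg
    exact (inferInstance : QuasiSeparated g.left)) _ h2

/-- The scheme theoretic image of `f' : Y ⟶ X'` is all of `X'`. -/
theorem exists_ideal_eq_bot {Y X X' : Space S} (f : Y ⟶ X) (ν : X' ⟶ X) (f' : Y ⟶ X')
    (hn : IsRelNormalization f.hom ν.hom f'.hom) :
    ∃ (Z : Space S) (i : Z ⟶ X') (hi : IsSchImage f'.hom i.hom),
      ∀ (T : Over S) (a : (yon S).obj T ⟶ X'.obj), (ofClosed i.hom hi.1).I a = ⊥ := by
  obtain ⟨hfν, hν, huniv⟩ := hn
  obtain ⟨Z, i, hi⟩ := Groth.Agent.S9964.result f'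
  obtain ⟨g, hg⟩ := hi.2.1
  have hint : IsIntegralMor (i.hom ≫ ν.hom) := isIntegralMor_comp_closed hi.1 hν
  obtain ⟨h, ⟨h1, h2⟩, -⟩ := huniv Z.property (i.hom ≫ ν.hom) g hint (by
    rw [← Category.assoc, hg, hfν])
  have h3 : h ≫ i.hom = 𝟙 _ := by
    obtain ⟨k, -, hk⟩ := huniv X'.property ν.hom f'.hom hν hfν
    rw [hk (h ≫ i.hom) ⟨by rw [← Category.assoc, h1, hg], by rw [Category.assoc, h2]⟩,
      hk (𝟙 _) ⟨Category.comp_id _, Category.id_comp _⟩]
  exact ⟨Z, i, hi, fun T a => (factors_yon_iff hi.1 a).1 ⟨a ≫ h, by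
    rw [Category.assoc, h3, Category.comp_id]⟩⟩

end K616.Norm
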