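import Groth.Agent.AlgSp.K616.Refine
import Groth.Agent.AlgSp.K609.Points
import Groth.Agent.AlgSp.K610.ZarGlue
import Groth.Agent.AlgSp.K610.Sub
import Groth.Agent.AlgSp.K597.LocP
import Groth.Agent.AlgSp.K595.DiagRel
import Groth.Agent.AlgSp.K610.Factor
import Mathlib.AlgebraicGeometry.QuasiAffine

/-!
# Images of quasi-affine schemes in separated, locally quasi-finite algebraic spaces

The statement `exists_open_subscheme` takes "separated + locally quasi-finite over a scheme is a scheme"
as a hypothesis on the open subspaces of `X`.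
-/

set_option autoImplicit false
universe u
open CategoryTheory CategoryTheory.Limits AlgebraicGeometry Opposite

namespace K616.QAffImage

open AlgSp K616.Refine

variable {S : Scheme.{u}}

theorem etale_of_open {F G : Sp S} {j : F ⟶ G} (hj : RepWith @IsOpenImmersion j) : RepWith @Etale j :=
  MorphismProperty.relative_monotone (fun _ _ g hg => by
    have : IsOpenImmersion g.left := hg
    exact (inferInstance : Etale g.left)) _ hj

theorem exists_open_subscheme {T T' : Over S} [IsAffine T'.left] (e : T' ⟶ T) [Etale e.left]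
    {X P V' : AlgSp.Space S} (f : X ⟶ (AlgSp.ofScheme S).obj T)
    (h259 : ∀ (W : AlgSp.Space S) (i : W ⟶ X), RepWith @IsOpenImmersion i.hom → W.obj.obj.IsRepresentable)
    (p1 : P ⟶ (AlgSp.ofScheme S).obj T') (p2 : P ⟶ X)
    (sq : IsPullback p2.hom p1.hom f.hom ((AlgSp.yon S).map e)) (j : V' ⟶ P)
    (hj : AlgSp.RepWith @IsOpenImmersion j.hom) (hqa : AlgSp.IsQuasiAffineMor (j ≫ p1).hom) :
    ∃ (W : Over S) (i : (AlgSp.yon S).obj W ⟶ X.obj), AlgSp.RepWith @IsOpenImmersion i ∧ CompactSpace ↥W.left ∧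
      Set.range (AlgSp.Points.map i) = Set.range (AlgSp.Points.map (j ≫ p2).hom) := by
  -- `V'` is a quasi-affine scheme
  obtain ⟨W0, i0, fst, sq0, hW0⟩ := hqa (Z := T') inferInstance (𝟙 ((yon S).obj T'))
  have hid : IsIso (𝟙 ((yon S).obj T')) := inferInstance
  have hfst : IsIso fst := @IsPullback.isIso_fst_of_isIso _ _ _ _ _ _ _ _ _ _ sq0 hid
  have hp2 : RepWith @Etale p2.hom := MorphismProperty.of_isPullback (P := RepWith (S := S) @Etale) sq.flip
    ((repWith_yon_map_iff @Etale e).2 inferInstance)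
  have hjp : RepWith @Etale (j ≫ p2).hom :=
    (RepWith (S := S) @Etale).comp_mem _ _ (etale_of_open hj) hp2
  have hiso : RepWith @Etale fst := (RepWith (S := S) @Etale).of_isIso fst
  let b : (yon S).obj W0 ⟶ X.obj := fst ≫ (j ≫ p2).hom
  have hb : RepWith @Etale b := (RepWith (S := S) @Etale).comp_mem _ _ hiso hjp
  have hrange : Set.range (Points.map (j ≫ p2).hom) = Set.range (Points.ofPt b) := by
    ext x
    constructor
    · rintro ⟨y, rfl⟩
      obtain ⟨t, ht⟩ := exists_ofPt_of_yon (Points.map (inv fst) y)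
      refine ⟨t, ?_⟩
      have h1 : Points.ofPt b t = Points.map b (Points.ofPt (𝟙 _) t) := by
        rw [Points.map_ofPt, Category.id_comp]
      rw [h1, ht, ← Points.map_comp]
      simp [b]
    · rintro ⟨t, rfl⟩
      exact ⟨Points.ofPt fst t, by rw [Points.map_ofPt]⟩
  have hopen : IsOpen (Set.range (Points.map (j ≫ p2).hom)) := by
    rw [hrange]
    have := K609.Points.isOpenMap_ofPt hb _ isOpen_univ
    rwa [Set.image_univ] at this
  obtain ⟨XO, i, hi, hiO⟩ := K610.Sub.exists_open_subspace X _ hopen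
  obtain ⟨W, ⟨φ⟩⟩ := K610.ZarGlue.isRepresentable_iff.1 (h259 XO i hi)
  let m : (yon S).obj W ⟶ X.obj := φ.hom ≫ i.hom
  have hm : RepWith @IsOpenImmersion m :=
    (RepWith (S := S) @IsOpenImmersion).comp_mem _ _ ((RepWith (S := S) @IsOpenImmersion).of_isIso φ.hom) hi
  have hmr : Set.range (Points.map m) = Set.range (Points.map (j ≫ p2).hom) := by
    rw [← hiO]
    ext x
    constructor
    · rintro ⟨y, rfl⟩
      exact ⟨Points.map φ.hom y, by rw [← Points.map_comp]⟩
    · rintro ⟨y, rfl⟩
      refine ⟨Points.map φ.inv y, ?_⟩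
      rw [← Points.map_comp]
      simp [m]
  refine ⟨W, m, hm, ?_, hmr⟩
  have hmono := K610.Factor.mono_of_isOpenImmersion hm
  obtain ⟨g', hg'⟩ := K610.Factor.exists_lift_open hm b (by rw [hmr, hrange])
  obtain ⟨k, rfl⟩ := (yon S).map_surjective g'
  have hinj : ∀ u v : W.left, Points.ofPt m u = Points.ofPt m v → u = v := by
    intro u v h
    obtain ⟨w, h1, h2⟩ := exists_pt_of_isPullback (p := 𝟙 W) (q := 𝟙 W) (a := m) (b := m) (by
      rw [(yon S).map_id]; exact IsKernelPair.id_of_mono m) u v h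
    exact h1.symm.trans h2
  have hk : Function.Surjective k.left := by
    intro w
    have h1 : Points.ofPt m w ∈ Set.range (Points.ofPt b) := by
      rw [← hrange, ← hmr, Points.ofPt_eq_map_ofScheme]
      exact ⟨_, rfl⟩
    obtain ⟨t, ht⟩ := h1
    refine ⟨t, hinj _ _ ?_⟩
    rw [← ofPt_comp, hg', ht]
  have : CompactSpace W0.left := inferInstance
  exact hk.compactSpace k.left.continuous

end K616.QAffImage
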