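import Groth.Agent.AlgSp.K619.LocSurj
import Mathlib.CategoryTheory.Sites.LeftExact
import Mathlib.CategoryTheory.Extensive

/-!
# Finite coproducts in `Sp S` and of schemes

* `nonempty_isColimit_yon`: `h_V` is the coproduct of `h_{T i}` for a disjoint open decomposition of `V`.
* `exists_isPullback_cofan`: the base change of a finite coproduct along `h_Z ⟶ G` is represented by the
  coproduct of the represented base changes.
-/

set_option autoImplicit false
universe u
open CategoryTheory CategoryTheory.Limits AlgebraicGeometry Opposite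

namespace K616.Sigma

open AlgSp K613.Basic K619.LocSurj

variable {S : Scheme.{u}}

theorem exists_unique_glue {ι : Type} {T' : ι → Over S} {V : Over S} (j : ∀ i, T' i ⟶ V)
    (hj : ∀ i, IsOpenImmersion (j i).left)
    (hs : ∀ v : V.left, ∃ (i : ι) (t : (T' i).left), (j i).left t = v)
    (hd : ∀ i k, i ≠ k → Disjoint (Set.range (j i).left) (Set.range (j k).left))
    {F : Sp S} (x : ∀ i, (yon S).obj (T' i) ⟶ F) :
    ∃! y : (yon S).obj V ⟶ F, ∀ i, (yon S).map (j i) ≫ y = x i := by
  obtain ⟨y, hy, hu⟩ := glueFam (F := F) (T := V) (ι := ULift.{u} ι) (fun i => T' i.down) (fun i => j i.down)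
    (fun i => have := hj i.down; inferInstance)
    (fun i => have := hj i.down; inferInstance)
    (fun v => by obtain ⟨i, t, h⟩ := hs v; exact ⟨⟨i⟩, t, h⟩) (fun i => x i.down) (by
      rintro ⟨i⟩ ⟨k⟩ R a b hab
      dsimp only at a b hab ⊢
      by_cases hik : i = k
      · subst hik
        have := hj i
        have h1 : a = b := by
          ext1
          rw [← cancel_mono (j i).left]
          exact congrArg (fun z => z.left) hab
        rw [h1]
      · have : IsEmpty R.left := by
          refine ⟨fun r => Set.disjoint_left.1 (hd i k hik) ⟨a.left r, rfl⟩ ⟨b.left r, ?_⟩⟩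
          rw [← Scheme.Hom.comp_apply, ← Scheme.Hom.comp_apply]
          exact congrArg (fun z : R ⟶ V => z.left r) hab.symm
        exact eq_of_isEmpty _ _)
  exact ⟨y, fun i => hy ⟨i⟩, fun z hz => hu z fun i => hz i.down⟩

theorem nonempty_isColimit_yon {ι : Type} {T' : ι → Over S} {V : Over S} (j : ∀ i, T' i ⟶ V)
    (hj : ∀ i, IsOpenImmersion (j i).left)
    (hs : ∀ v : V.left, ∃ (i : ι) (t : (T' i).left), (j i).left t = v)
    (hd : ∀ i k, i ≠ k → Disjoint (Set.range (j i).left) (Set.range (j k).left)) :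
    Nonempty (IsColimit (Cofan.mk ((yon S).obj V) fun i => (yon S).map (j i))) :=
  ⟨mkCofanColimit _ (fun s => (exists_unique_glue j hj hs hd (fun i => s.inj i)).choose)
    (fun s => (exists_unique_glue j hj hs hd (fun i => s.inj i)).choose_spec.1)
    (fun s m hm => (exists_unique_glue j hj hs hd (fun i => s.inj i)).choose_spec.2 m hm)⟩

instance : FinitaryExtensive (Sp S) := inferInstance

/-- Base change of a finite coproduct along a map from a scheme. -/
theorem exists_isPullback_cofan {ι : Type} [Finite ι] {X : ι → Sp S} {c : Cofan X} (hc : IsColimit c)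
    {G : Sp S} (d : c.pt ⟶ G) {Z : Over S} (g : (yon S).obj Z ⟶ G) {T' : ι → Over S} (p : ∀ i, T' i ⟶ Z)
    (q : ∀ i, (yon S).obj (T' i) ⟶ X i) (sq : ∀ i, IsPullback (q i) ((yon S).map (p i)) (c.inj i ≫ d) g)
    {V : Over S} (j : ∀ i, T' i ⟶ V)
    (hj : ∀ i, IsOpenImmersion (j i).left)
    (hs : ∀ v : V.left, ∃ (i : ι) (t : (T' i).left), (j i).left t = v)
    (hd : ∀ i k, i ≠ k → Disjoint (Set.range (j i).left) (Set.range (j k).left))
    (r : V ⟶ Z) (hr : ∀ i, j i ≫ r = p i) :
    ∃ fst : (yon S).obj V ⟶ c.pt, IsPullback fst ((yon S).map r) d g := by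
  let P := pullback d g
  have hP : IsPullback (pullback.fst d g) (pullback.snd d g) d g := IsPullback.of_hasPullback d g
  let t : ∀ i, (yon S).obj (T' i) ⟶ P := fun i => hP.lift (q i ≫ c.inj i) ((yon S).map (p i)) (by
    rw [Category.assoc]; exact (sq i).w)
  have sq' : ∀ i, IsPullback (t i) (q i) (pullback.fst d g) (c.inj i) := by
    intro i
    refine (IsPullback.of_right (h₁₂ := pullback.snd d g) (v₁₃ := g) (h₂₂ := d) ?_ ?_ hP.flip)
    · rw [hP.lift_snd]
      exact (sq i).flip
    · exact hP.lift_fst _ _ _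
  have hvk := FinitaryExtensive.isVanKampen_finiteCoproducts hc
  obtain ⟨hc'⟩ := hvk.isUniversal (Cofan.mk P t) (Discrete.natTrans fun i => q i.as) (pullback.fst d g) (by
    apply NatTrans.ext
    funext ⟨i⟩
    exact (sq' i).w.symm) (NatTrans.Equifibered.of_discrete _) (fun i => sq' i.as)
  obtain ⟨hV⟩ := nonempty_isColimit_yon j hj hs hd
  let e : P ≅ (yon S).obj V := hc'.coconePointUniqueUpToIso hV
  have he : ∀ i, t i ≫ e.hom = (yon S).map (j i) := fun i =>
    IsColimit.comp_coconePointUniqueUpToIso_hom hc' hV ⟨i⟩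
  have h1 : e.hom ≫ (yon S).map r = pullback.snd d g := by
    refine Cofan.IsColimit.hom_ext hc' _ _ fun i => ?_
    change t i ≫ _ = t i ≫ _
    rw [← Category.assoc, he, ← Functor.map_comp, hr]
    exact (hP.lift_snd _ _ _).symm
  refine ⟨e.inv ≫ pullback.fst d g, IsPullback.of_iso hP e (Iso.refl _) (Iso.refl _) (Iso.refl _) ?_ ?_ ?_ ?_⟩
  · simp
  · simp [h1]
  · simp
  · simp

end K616.Sigma
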