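import Groth.Agent.UnramB.SmoothLoc
import Groth.Agent.Flat2D.CMConverse
import Groth.Agent.S1344
import Groth.Agent.AlgSp.K597.EtLoc

/-!
# Smooth morphisms are Cohen-Macaulay, dimension formula for smooth morphisms
-/

set_option autoImplicit false
universe u
open CategoryTheory CategoryTheory.Limits AlgebraicGeometry Opposite

namespace K616.SmoothDim

theorem isCMAt_of_smooth {X S : Scheme.{u}} (f : X ⟶ S) [Smooth f] (x : X) : MoreMor.IsCMAt f x := by
  obtain ⟨U, V, e, n, g, hx, -, -, hg, hgf⟩ := Groth.Agent.UnramB.SmoothLoc.exists_etale_affineSpace f x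
  have h1 : Etale (AffineSpace.map (ULift.{u} (Fin n)) V.ι) :=
    MorphismProperty.of_isPullback (P := @Etale) (AffineSpace.isPullback_map V.ι).flip inferInstance
  have h2 : Etale (g ≫ AffineSpace.map (ULift.{u} (Fin n)) V.ι) := inferInstance
  have h4 := K597.locallyQuasiFinite_of_etale (g ≫ AffineSpace.map (ULift.{u} (Fin n)) V.ι)
  have h3 : (g ≫ AffineSpace.map (ULift.{u} (Fin n)) V.ι) ≫ (𝔸(ULift.{u} (Fin n); S) ↘ S) = U.ι ≫ f := by
    rw [Category.assoc, AffineSpace.map_over, ← Category.assoc, hgf, Scheme.Hom.resLE_comp_ι]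
  exact Groth.Agent.Flat2D.CMConverse.isCMAt_of_flat_lqf' f x _ U _ hx h3

theorem localDim_eq_of_smooth {X Y : Scheme.{u}} (f : X ⟶ Y) [IsLocallyNoetherian X] [IsLocallyNoetherian Y]
    [Smooth f] (x : X) :
    FlatMor.localDim ↑X x = FlatMor.localDim ↑Y (f x) + FlatMor.fibreDimAt f x :=
  Groth.Agent.S1344.result f (fun x => isCMAt_of_smooth f x) x

end K616.SmoothDim
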