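import Groth.Agent.AlgSp.K641.GlueUniq
import Groth.Agent.AlgSp.K635.Glue
import Groth.Agent.AlgSp.K613.Basic
import Groth.Prelude.Def_AlgSp3

/-!
# Algebra maps and maps of affine schemes over `Spec R`

* `spMap ψ : sp R B ⟶ sp R A` for `ψ : A →ₐ[R] B`; `exists_spMap`, `spMap_injective`.
* `alg_ext`, `exists_desc`: pullback squares of affine schemes over a sheaf in terms of algebra maps.
* `exists_affine_fp`: fibre products of affine schemes over a sheaf with affine diagonal.
* `hom_ext_affine`: maps `h_T ⟶ Z` are determined by restriction to affine schemes.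
-/

set_option autoImplicit false
universe u

open CategoryTheory CategoryTheory.Limits AlgebraicGeometry TensorProduct

namespace K616.SpMap

open AlgSp K641.SpecAlg

variable {R : Type u} [CommRing R]
variable {A B C X : Type u} [CommRing A] [CommRing B] [CommRing C] [CommRing X]
  [Algebra R A] [Algebra R B] [Algebra R C] [Algebra R X]

/-- the morphism over `Spec R` given by an algebra map -/
noncomputable def spMap (ψ : A →ₐ[R] B) : sp R B ⟶ sp R A :=
  Over.homMk (Spec.map (CommRingCat.ofHom ψ.toRingHom)) (by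
    change Spec.map _ ≫ Spec.map _ = Spec.map _
    rw [← Spec.map_comp, ← CommRingCat.ofHom_comp]
    congr 2
    exact ψ.comp_algebraMap)

theorem spMap_left (ψ : A →ₐ[R] B) : (spMap ψ).left = Spec.map (CommRingCat.ofHom ψ.toRingHom) := rfl

theorem exists_spMap (φ : sp R B ⟶ sp R A) : ∃ ψ : A →ₐ[R] B, φ = spMap ψ := by
  obtain ⟨ψ, hψ⟩ := exists_algHom φ
  exact ⟨ψ, Over.OverMorphism.ext hψ⟩

theorem spMap_injective {ψ ψ' : A →ₐ[R] B} (h : spMap ψ = spMap ψ') : ψ = ψ' := by
  have h1 : Spec.map (CommRingCat.ofHom ψ.toRingHom) = Spec.map (CommRingCat.ofHom ψ'.toRingHom) :=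
    congrArg (·.left) h
  have h2 := Spec.map_injective h1
  have h3 : ψ.toRingHom = ψ'.toRingHom := congrArg CommRingCat.Hom.hom h2
  exact AlgHom.ext fun a => RingHom.congr_fun h3 a

theorem spMap_comp (ψ : A →ₐ[R] B) (χ : B →ₐ[R] C) : spMap χ ≫ spMap ψ = spMap (χ.comp ψ) := by
  apply Over.OverMorphism.ext
  rw [Over.comp_left, spMap_left, spMap_left, spMap_left, ← Spec.map_comp, ← CommRingCat.ofHom_comp]
  rfl

theorem etale_spMap {ψ : A →ₐ[R] B} (h : ψ.toRingHom.Etale) : Etale (spMap ψ).left :=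
  (HasRingHomProperty.Spec_iff (P := @Etale)).2 h

theorem etale_of_spMap {ψ : A →ₐ[R] B} (h : Etale (spMap ψ).left) : ψ.toRingHom.Etale :=
  (HasRingHomProperty.Spec_iff (P := @Etale)).1 h

section

variable {Z : Sp (Spec (CommRingCat.of R))} {γ : C →ₐ[R] B} {β : A →ₐ[R] B}
  {p : (yon (Spec (CommRingCat.of R))).obj (sp R C) ⟶ Z} {z : (yon (Spec (CommRingCat.of R))).obj (sp R A) ⟶ Z}

theorem alg_ext (sq : IsPullback ((yon _).map (spMap γ)) ((yon _).map (spMap β)) p z) (ψ ψ' : B →ₐ[R] X)
    (h₁ : ψ.comp γ = ψ'.comp γ) (h₂ : ψ.comp β = ψ'.comp β) : ψ = ψ' := by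
  apply spMap_injective
  apply (yon _).map_injective
  apply sq.hom_ext
  · rw [← Functor.map_comp, ← Functor.map_comp, spMap_comp, spMap_comp, h₁]
  · rw [← Functor.map_comp, ← Functor.map_comp, spMap_comp, spMap_comp, h₂]

theorem exists_desc (sq : IsPullback ((yon _).map (spMap γ)) ((yon _).map (spMap β)) p z) (g : C →ₐ[R] X)
    (b : A →ₐ[R] X) (h : (yon _).map (spMap g) ≫ p = (yon _).map (spMap b) ≫ z) :
    ∃ ψ : B →ₐ[R] X, ψ.comp γ = g ∧ ψ.comp β = b := by
  obtain ⟨k, hk⟩ := (yon _).map_surjective (sq.lift _ _ h)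
  obtain ⟨ψ, rfl⟩ := exists_spMap k
  refine ⟨ψ, ?_, ?_⟩
  · apply spMap_injective
    apply (yon _).map_injective
    rw [← spMap_comp, Functor.map_comp, hk, sq.lift_fst]
  · apply spMap_injective
    apply (yon _).map_injective
    rw [← spMap_comp, Functor.map_comp, hk, sq.lift_snd]

end

/-- Fibre products of affine schemes over a sheaf with affine diagonal are affine. -/
theorem exists_affine_fp {S : Scheme.{u}} [IsAffine S] {Z : Sp S} (hZ : IsAffineMor (Limits.diag Z)) {V T : Over S}
    (hV : IsAffine V.left) (hT : IsAffine T.left) (p : (yon S).obj V ⟶ Z) (g : (yon S).obj T ⟶ Z) :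
    ∃ (E : Over S) (v : E ⟶ V) (t : E ⟶ T), IsAffine E.left ∧
      IsPullback ((yon S).map v) ((yon S).map t) p g := by
  let P : Over S := Over.mk (pullback.fst V.hom T.hom ≫ V.hom)
  let π₁ : P ⟶ V := Over.homMk (pullback.fst V.hom T.hom) rfl
  let π₂ : P ⟶ T := Over.homMk (pullback.snd V.hom T.hom) pullback.condition.symm
  have hP : IsAffine P.left := inferInstanceAs (IsAffine (pullback V.hom T.hom))
  obtain ⟨E, i, e, sq, hE⟩ := hZ hP (prod.lift ((yon S).map π₁ ≫ p) ((yon S).map π₂ ≫ g))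
  have h1 : (yon S).map i ≫ (yon S).map π₁ ≫ p = e := by
    have := congrArg (· ≫ prod.fst) sq.w
    simp only [Category.assoc, prod.lift_fst] at this
    rw [← this, Category.comp_id]
  have h2 : (yon S).map i ≫ (yon S).map π₂ ≫ g = e := by
    have := congrArg (· ≫ prod.snd) sq.w
    simp only [Category.assoc, prod.lift_snd] at this
    rw [← this, Category.comp_id]
  refine ⟨E, i ≫ π₁, i ≫ π₂, hE, K613.Basic.isPullback_of_yon ?_ ?_⟩
  · rw [Functor.map_comp, Functor.map_comp, Category.assoc, Category.assoc, h1, h2]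
  · intro W a b hab
    obtain ⟨a, rfl⟩ := (yon S).map_surjective a
    obtain ⟨b, rfl⟩ := (yon S).map_surjective b
    let c : W ⟶ P := Over.homMk (pullback.lift a.left b.left (by rw [Over.w, Over.w])) (by
      change pullback.lift _ _ _ ≫ pullback.fst _ _ ≫ V.hom = W.hom
      rw [pullback.lift_fst_assoc, Over.w])
    have hc1 : c ≫ π₁ = a := Over.OverMorphism.ext (pullback.lift_fst _ _ _)
    have hc2 : c ≫ π₂ = b := Over.OverMorphism.ext (pullback.lift_snd _ _ _)
    have hP' : ∀ d d' : W ⟶ P, d ≫ π₁ = d' ≫ π₁ → d ≫ π₂ = d' ≫ π₂ → d = d' := by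
      intro d d' e1 e2
      apply Over.OverMorphism.ext
      apply pullback.hom_ext
      · exact congrArg (·.left) e1
      · exact congrArg (·.left) e2
    have w : ((yon S).map a ≫ p) ≫ Limits.diag Z =
        (yon S).map c ≫ prod.lift ((yon S).map π₁ ≫ p) ((yon S).map π₂ ≫ g) := by
      apply Limits.prod.hom_ext
      · simp only [Category.assoc, prod.lift_fst, Category.comp_id]
        rw [← Category.assoc, ← Functor.map_comp, hc1]
      · simp only [Category.assoc, prod.lift_snd, Category.comp_id]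
        rw [hab, ← Category.assoc, ← Functor.map_comp, hc2]
    obtain ⟨k, hk⟩ := (yon S).map_surjective (sq.lift _ _ w)
    have hki : k ≫ i = c := by
      apply (yon S).map_injective
      rw [Functor.map_comp, hk, sq.lift_snd]
    refine ⟨(yon S).map k, ⟨?_, ?_⟩, ?_⟩
    · rw [← Functor.map_comp, ← Category.assoc, hki, hc1]
    · rw [← Functor.map_comp, ← Category.assoc, hki, hc2]
    · rintro y ⟨hy1, hy2⟩
      obtain ⟨y, rfl⟩ := (yon S).map_surjective y
      rw [← Functor.map_comp] at hy1 hy2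
      have hy1' := (yon S).map_injective hy1
      have hy2' := (yon S).map_injective hy2
      have hyi : y ≫ i = c := hP' _ _ (by rw [Category.assoc, hy1', hc1]) (by rw [Category.assoc, hy2', hc2])
      have h3 : ∀ q : W ⟶ E, (yon S).map q ≫ e = (yon S).map (q ≫ i) ≫ (yon S).map π₁ ≫ p := by
        intro q
        rw [← h1, Functor.map_comp, Category.assoc]
      apply sq.hom_ext
      · rw [h3, h3, hyi, hki]
      · rw [← Functor.map_comp, ← Functor.map_comp, hyi, hki]

/-- fibre products of spectra over a sheaf with affine diagonal, in terms of algebras -/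
theorem exists_alg_fp {Z : Sp (Spec (CommRingCat.of R))} (hZ : IsAffineMor (Limits.diag Z))
    (p : (yon (Spec (CommRingCat.of R))).obj (sp R C) ⟶ Z) (z : (yon (Spec (CommRingCat.of R))).obj (sp R A) ⟶ Z) :
    ∃ (B : Type u) (_ : CommRing B) (_ : Algebra R B) (γ : C →ₐ[R] B) (β : A →ₐ[R] B),
      IsPullback ((yon _).map (spMap γ)) ((yon _).map (spMap β)) p z := by
  obtain ⟨E, v, t, hE, sq⟩ := exists_affine_fp hZ (V := sp R C) (T := sp R A)
    (inferInstanceAs (IsAffine (Spec _))) (inferInstanceAs (IsAffine (Spec _))) p z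
  obtain ⟨B, _, _, ⟨e⟩⟩ := exists_algebra E
  obtain ⟨γ, hγ⟩ := exists_spMap (e.hom ≫ v)
  obtain ⟨β, hβ⟩ := exists_spMap (e.hom ≫ t)
  refine ⟨B, _, _, γ, β, ?_⟩
  rw [← hγ, ← hβ]
  refine IsPullback.of_iso sq ((yon _).mapIso e.symm) (Iso.refl _) (Iso.refl _) (Iso.refl _) ?_ ?_ ?_ ?_
  · simp [← Functor.map_comp]
  · simp [← Functor.map_comp]
  · simp
  · simp

/-- Maps from a scheme over `Spec R` to a sheaf are determined by restriction to affine schemes. -/
theorem hom_ext_affine {Z : Sp (Spec (CommRingCat.of R))} {T : Over (Spec (CommRingCat.of R))}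
    {a b : (yon (Spec (CommRingCat.of R))).obj T ⟶ Z}
    (h : ∀ (X : Type u) [CommRing X] [Algebra R X] (g : sp R X ⟶ T), IsOpenImmersion g.left →
      (yon _).map g ≫ a = (yon _).map g ≫ b) : a = b := by
  obtain ⟨κ, B, _, _, c, hc, hs⟩ := exists_affine_cover T
  refine K635.Glue.hom_ext_cover (fun k => sp R (B k)) c (fun k => ?_) (fun k => ?_) (fun x => ?_) fun k =>
    h (B k) (c k) (hc k)
  · have := hc k
    infer_instance
  · have := hc k
    infer_instance
  · obtain ⟨k, y, hy⟩ := hs x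
    exact ⟨k, y, hy⟩

end K616.SpMap
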